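import Cfsg.Agent.Lib.ConjRankFour.Five.Layer
import Cfsg.Agent.Lib.HallPi

set_option autoImplicit false
set_option linter.style.haveILetI false

/-!
The case in which no `q'`-element centralizes the `q`-core of some centralizer of order `N`.
-/

namespace CfsgLib.ConjRankFour

open Cfsg Subgroup CfsgLib.ConjRankThree
open scoped Pointwise

universe u

variable {G : Type u} [Group G] [Finite G]

namespace Pure

variable {t : G} {N D q : ℕ} (B : Pure t N D q)
include B

theorem mem_core_self {v : G} (hv : cc v = N) : v ∈ B.core v := by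
  haveI := Fact.mk B.hq
  obtain ⟨k, hk⟩ := B.pure v hv
  refine (B.mem_core (self_mem v)).mpr ?_
  haveI hn : (zpowers (⟨v, self_mem v⟩ : centralizer ({v} : Set G))).Normal := ⟨fun n hn g => by
    have hle : zpowers (⟨v, self_mem v⟩ : centralizer ({v} : Set G)) ≤
        centralizer ({g} : Set (centralizer ({v} : Set G))) :=
      zpowers_le.mpr (mem_cent.mpr (Subtype.ext (mem_cent.mp g.2).symm))
    rw [(mem_cent.mp (hle hn)).symm, mul_inv_cancel_right]
    exact hn⟩
  exact CfsgLib.le_pCore (IsPGroup.of_card (n := k) (by rw [Nat.card_zpowers, Subgroup.orderOf_mk, hk]))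
    (mem_zpowers _)

theorem core_le_red {v : G} (_ : cc v = N) : B.core v ≤ B.red v := by
  intro w hw
  have hwv := B.core_le v hw
  refine (B.mem_red hwv).mpr ?_
  rw [show QuotientGroup.mk' (pCore q (centralizer ({v} : Set G))) ⟨w, hwv⟩ = 1 from
    (QuotientGroup.eq_one_iff _).mpr ((B.mem_core hwv).mp hw)]
  exact one_mem _

theorem exists_reg {v : G} (hv : cc v = N) : ∃ y, Reg' N q y ∧ y ∈ centralizer ({v} : Set G) := by
  obtain ⟨r, hr, hrq, hrN⟩ := B.exists_other
  obtain ⟨y, hy, hyo, -⟩ := exists_orderOf_dvd hr (H := centralizer ({v} : Set G))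
    (by rw [show Nat.card (centralizer ({v} : Set G)) = N from hv]; exact hrN)
  exact ⟨y, B.reg_of_prime hr hrq hrN hyo, hy⟩

variable [Fact q.Prime] [IsSimpleGroup G]

theorem not_alpha (hna : ¬ IsMulCommutative G) (Q : Sylow q G) {v : G} (hv : cc v = N) (hvo : orderOf v = q)
    (hQv : (Q : Subgroup G) ≤ centralizer ({v} : Set G))
    (halpha : ∀ w ∈ centralizer ({v} : Set G), Reg' N q w → ¬ B.core v ≤ centralizer ({w} : Set G)) : False := by
  set K := centralizer ({v} : Set G) with hK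
  set F := B.core v
  set M := B.toQ.locM Q with hMd
  have hKN : Nat.card K = N := hv
  have hvA : v ∈ B.toQ.locA Q := B.toQ.central_mem_locA Q (hvo ▸ pow_orderOf_eq_one v) hQv
  have hv1 : v ≠ 1 := fun e => (Fact.out : q.Prime).one_lt.ne (by rw [← hvo, e, orderOf_one])
  have hA0 : B.toQ.locA Q ≠ ⊥ := fun e => hv1 (mem_bot.mp (e ▸ hvA))
  haveI hMs : Group.IsSolvable M := B.side.isSolvable (B.toQ.odd_locM Q hA0)
  have hqN : ∀ {x : G}, (∃ k, orderOf x = q ^ k) → orderOf x ∣ N := fun {x} ⟨k, hk⟩ => by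
    rw [← Nat.card_zpowers]
    exact B.toQ.card_dvd_of_isPGroup (IsPGroup.of_card (n := k) (by rw [Nat.card_zpowers, hk]))
  -- the `q`-core lies in `Q`, and the centralizer of `v` in the normalizer
  have hmaxQ : ∀ {H : Subgroup G}, IsPGroup q H → (Q : Subgroup G) ≤ normalizer (H : Set G) →
      H ≤ (Q : Subgroup G) := fun {H} hH hn =>
    le_sup_left.trans (Q.is_maximal' (hH.to_sup_of_normal_left' Q.2 hn) le_sup_right).le
  have hFQ : F ≤ (Q : Subgroup G) := hmaxQ (B.core_isPGroup v) (hQv.trans (B.core_normal v))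
  have hFM : F ≤ M := hFQ.trans (B.toQ.sylow_le_locM Q)
  have hCFq : IsPGroup q (K ⊓ centralizer (F : Set G) : Subgroup G) := by
    intro c
    obtain ⟨a, b, hab, -, ⟨k, hk⟩, hb, -, hbz⟩ := CfsgLib.Blocks.exists_pPart (Fact.out : q.Prime) (c : G)
    have hb' : b ∈ K ⊓ centralizer (F : Set G) := zpowers_le.mpr c.2 hbz
    have hb1 : b = 1 := by
      by_contra h1
      exact halpha b (mem_inf.mp hb').1 (B.reg_of_mem (dvd_of_eq hKN) (mem_inf.mp hb').1 h1 hb)
        fun f hf => mem_cent.mpr (mem_centralizer_iff.mp (mem_inf.mp hb').2 f hf)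
    refine ⟨k, Subtype.ext ?_⟩
    show (c : G) ^ q ^ k = 1
    rw [← hab, hb1, mul_one, ← hk, pow_orderOf_eq_one]
  have hCFQ : K ⊓ centralizer (F : Set G) ≤ (Q : Subgroup G) := hmaxQ hCFq fun u hu => by
    refine mem_normalizer_iff.mpr fun z => ?_
    have hu' : u ∈ normalizer (F : Set G) := B.core_normal v (hQv hu)
    constructor
    · intro hz
      exact mem_inf.mpr ⟨mul_mem (mul_mem (hQv hu) (mem_inf.mp hz).1) (inv_mem (hQv hu)),
        mem_centralizer_conj hu' (mem_inf.mp hz).2⟩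
    · intro hz
      have h1 := mem_centralizer_conj (inv_mem hu') (mem_inf.mp hz).2
      have h2 := mul_mem (mul_mem (inv_mem (hQv hu)) (mem_inf.mp hz).1) (hQv hu)
      rw [show u⁻¹ * (u * z * u⁻¹) * u⁻¹⁻¹ = z by group] at h1
      rw [show u⁻¹ * (u * z * u⁻¹) * u = z by group] at h2
      exact mem_inf.mpr ⟨h2, h1⟩
  have hvF : v ∈ F := B.mem_core_self hv
  have hKM : K ≤ M := by
    intro k hk
    obtain ⟨m, hm, hma⟩ := B.toQ.control Q (S := (F : Set G)) hFQ (g := k)
      (fun a ha => hFQ ((mem_normalizer_iff.mp (B.core_normal v hk) a).mp ha))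
    have hc : m⁻¹ * k ∈ centralizer (F : Set G) := mem_centralizer_iff.mpr fun a ha => by
      have := hma a ha
      calc a * (m⁻¹ * k) = m⁻¹ * (m * a * m⁻¹) * k := by group
        _ = m⁻¹ * (k * a * k⁻¹) * k := by rw [this]
        _ = m⁻¹ * k * a := by group
    have hcK : m⁻¹ * k ∈ K := mem_cent.mpr (mem_centralizer_iff.mp hc v hvF).symm
    have := mul_mem hm (B.toQ.sylow_le_locM Q (hCFQ (mem_inf.mpr ⟨hcK, hc⟩)))
    rwa [mul_inv_cancel_left] at this
  -- the `q`-core of the normalizer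
  set R := (pCore q M).map M.subtype with hRd
  have hRM : R ≤ M := map_subtype_le _
  have hMR : M ≤ normalizer (R : Set G) := le_normalizer_map_of_normal _
  have hRq : IsPGroup q R := (isPGroup_pCore q).map _
  have hAR : B.toQ.locA Q ≤ R := by
    intro a ha
    haveI : ((B.toQ.locA Q).subgroupOf M).Normal := ⟨fun n hn g => mem_subgroupOf.mpr
      ((mem_normalizer_iff.mp g.2 _).mp (mem_subgroupOf.mp hn))⟩
    have hp : IsPGroup q ((B.toQ.locA Q).subgroupOf M) :=
      (Q.2.to_le (B.toQ.locA_le Q)).comap_subtype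
    exact ⟨⟨a, B.toQ.sylow_le_locM Q (B.toQ.locA_le Q ha)⟩, CfsgLib.le_pCore hp (mem_subgroupOf.mpr ha), rfl⟩
  have hRQ : R ≤ (Q : Subgroup G) := hmaxQ hRq ((B.toQ.sylow_le_locM Q).trans hMR)
  have hRF : R ≤ F := by
    intro a ha
    haveI : (R.subgroupOf K).Normal := ⟨fun n hn g => mem_subgroupOf.mpr
      ((mem_normalizer_iff.mp (hMR (hKM g.2)) _).mp (mem_subgroupOf.mp hn))⟩
    have hp : IsPGroup q (R.subgroupOf K) := hRq.comap_subtype
    exact (B.mem_core (hQv (hRQ ha))).mpr (CfsgLib.le_pCore hp (mem_subgroupOf.mpr ha))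
  have hprime : pPrimeCore q M = ⊥ := by
    refine (Subgroup.eq_bot_iff_forall _).mpr fun w hw => ?_
    by_contra hw1
    have hwq : ¬ q ∣ orderOf (w : G) := fun hd => (Fact.out : q.Prime).ne_one (Nat.eq_one_of_dvd_coprimes
      (CfsgLib.card_pPrimeCore_coprime (G := M) q)
      (hd.trans (by rw [Subgroup.orderOf_coe]; exact Subgroup.orderOf_dvd_natCard _ hw)) dvd_rfl)
    -- a `q`-subgroup normalized by `w` is centralized
    have key : ∀ a : M, (∃ k, orderOf a = q ^ k) → (∀ n : M, n ∈ pPrimeCore q M →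
        ∃ k, orderOf (n * a * n⁻¹ * a⁻¹) = q ^ k) → w * a = a * w := by
      intro a _ hconj
      have h1 : w * a * w⁻¹ * a⁻¹ ∈ pPrimeCore q M := by
        have := mul_mem hw ((inferInstance : (pPrimeCore q M).Normal).conj_mem _ (inv_mem hw) a)
        rwa [show w * (a * w⁻¹ * a⁻¹) = w * a * w⁻¹ * a⁻¹ by group] at this
      obtain ⟨k, hk⟩ := hconj w hw
      have h2 : w * a * w⁻¹ * a⁻¹ = 1 := orderOf_eq_one_iff.mp (Nat.eq_one_of_dvd_coprimes
        ((CfsgLib.card_pPrimeCore_coprime (G := M) q).pow_right k) (Subgroup.orderOf_dvd_natCard _ h1) (dvd_of_eq hk))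
      rwa [mul_inv_eq_one, mul_inv_eq_iff_eq_mul] at h2
    have hA' : ∀ {a : G}, a ∈ B.toQ.locA Q → (w : G) * a = a * w := fun {a} ha => by
      have haM := B.toQ.sylow_le_locM Q (B.toQ.locA_le Q ha)
      refine congrArg Subtype.val (key ⟨a, haM⟩ ?_ fun n _ => ?_)
      · obtain ⟨k, hk⟩ := exists_orderOf_eq_pow Q.2 (B.toQ.locA_le Q ha)
        exact ⟨k, by rwa [Subgroup.orderOf_mk]⟩
      · obtain ⟨k, hk⟩ := exists_orderOf_eq_pow Q.2
          (B.toQ.locA_le Q (mul_mem ((mem_normalizer_iff.mp n.2 a).mp ha) (inv_mem ha)))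
        exact ⟨k, by rw [← Subgroup.orderOf_coe]; exact hk⟩
    have hwK : (w : G) ∈ K := mem_cent.mpr (hA' hvA)
    have hF' : ∀ {a : G}, a ∈ F → (w : G) * a = a * w := fun {a} ha => by
      have h1 : (w : G) * a * (w : G)⁻¹ * a⁻¹ ∈ F :=
        mul_mem ((mem_normalizer_iff.mp (B.core_normal v hwK) a).mp ha) (inv_mem ha)
      obtain ⟨k, hk⟩ := exists_orderOf_eq_pow (B.core_isPGroup v) h1
      have h2 : w * (⟨a, hFM ha⟩ : M) * w⁻¹ * (⟨a, hFM ha⟩ : M)⁻¹ ∈ pPrimeCore q M := by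
        have := mul_mem hw ((inferInstance : (pPrimeCore q M).Normal).conj_mem _ (inv_mem hw) ⟨a, hFM ha⟩)
        rwa [← mul_assoc, ← mul_assoc] at this
      have h3 : (w : G) * a * (w : G)⁻¹ * a⁻¹ = 1 := orderOf_eq_one_iff.mp (Nat.eq_one_of_dvd_coprimes
        ((CfsgLib.card_pPrimeCore_coprime (G := M) q).pow_right k)
        (by
          have := Subgroup.orderOf_dvd_natCard _ h2
          rw [← Subgroup.orderOf_coe] at this
          exact this) (dvd_of_eq hk))
      rwa [mul_inv_eq_one, mul_inv_eq_iff_eq_mul] at h3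
    exact halpha w hwK (B.reg_of_mem (dvd_of_eq hKN) hwK (fun e => hw1 (Subtype.ext e)) hwq)
      fun a ha => mem_cent.mpr (hF' ha).symm
  have hCR : ∀ w ∈ M, R ≤ centralizer ({w} : Set G) → w ∈ R := by
    intro w hw hwR
    refine ⟨⟨w, hw⟩, ?_, rfl⟩
    rw [← CfsgLib.fitting_eq_pCore (Fact.out : q.Prime) hprime]
    refine CfsgLib.centralizer_fitting_le_of_solvable (mem_centralizer_iff.mpr fun a ha => ?_)
    rw [CfsgLib.fitting_eq_pCore (Fact.out : q.Prime) hprime] at ha
    exact Subtype.ext (mem_cent.mp (hwR ⟨a, ha, rfl⟩))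
  have hRz : ∀ {x : G}, x ∈ R → orderOf x ∣ N := fun hx => hqN (exists_orderOf_eq_pow hRq hx)
  -- the normalizer of the centralizer of a `q'`-element
  obtain ⟨y, hy, hyK⟩ := B.exists_reg hv
  set L := centralizer ({y} : Set G)
  have hLK : L ≤ K := B.le_v hv hy (mem_cent.mp hyK)
  have hNM : normalizer (L : Set G) ≤ M := by
    intro g hg
    have hvL : v ∈ L := mem_cent_symm hyK
    have hgv : g * v * g⁻¹ ∈ L := (mem_normalizer_iff.mp hg v).mp hvL
    have hgo : orderOf (g * v * g⁻¹) = q := by rw [← MulAut.conj_apply, MulEquiv.orderOf_eq, hvo]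
    have hgQ : g * v * g⁻¹ ∈ (Q : Subgroup G) :=
      hFQ (B.q_cent_mem_core hv hy hyK hgv ⟨1, by rw [hgo, pow_one]⟩)
    obtain ⟨m, hm, hma⟩ := B.toQ.control Q (S := {v}) (Set.singleton_subset_iff.mpr (B.toQ.locA_le Q hvA)) (g := g)
      (by rintro _ rfl; exact hgQ)
    have h1 : m⁻¹ * g ∈ K := by
      rw [hK, mem_cent]
      calc m⁻¹ * g * v = m⁻¹ * (g * v * g⁻¹) * g := by group
        _ = m⁻¹ * (m * v * m⁻¹) * g := by rw [hma v rfl]
        _ = v * (m⁻¹ * g) := by group
    have := mul_mem hm (hKM h1)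
    rwa [mul_inv_cancel_left] at this
  have hNpi : Nat.card (normalizer (L : Set G)) ∣ N := by
    by_contra hnd
    obtain ⟨l, hl, hlM, hlt, hlN⟩ := B.exists_other_kind hnd
    obtain ⟨g, hg, hgo, hg1⟩ := exists_orderOf_dvd hl hlM
    haveI := B.isNilpotent_part hy
    have hz : ∀ e ∈ zpowers g, orderOf e ∣ cc t := fun e he =>
      (by rw [← Nat.card_zpowers g]; exact Subgroup.orderOf_dvd_natCard _ he : orderOf e ∣ orderOf g).trans (hgo ▸ hlt)
    have hle := fpf_centralizes (U := B.part hy) (E := zpowers g) (V := R)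
      (zpowers_le.mpr (B.part_normalizer hy hg))
      (fun e he he1 u hu h => B.fpf_even (hz e he) (B.side.mem_type (B.part_dvd hy) hu) he1 h)
      ((fun a ha => hMR (hKM (hLK ha.1))) : B.part hy ≤ normalizer (R : Set G))
      (zpowers_le.mpr (hMR (hNM hg))) (B.part_coprime hy hRq)
      (by
        rw [Nat.card_zpowers, hgo]
        obtain ⟨k, hk⟩ := hRq.exists_card_eq
        rw [hk]
        exact ((Nat.coprime_primes hl (Fact.out : q.Prime)).mpr fun e => hlN (e ▸ B.q_dvd)).pow_right k)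
      (by haveI := hRq.isNilpotent; infer_instance)
      (fun x hx hxc => B.fpf_even (hgo ▸ hlt) (hRz hx) hg1 (mem_centralizer_iff.mp hxc g (mem_zpowers g)))
    have h1 := hCR y (hKM hyK) fun a ha => mem_cent.mpr
      (mem_centralizer_iff.mp (hle ha) y (B.self_mem_part hy)).symm
    exact hy.1 (B.eq_one_of_q (exists_orderOf_eq_pow hRq h1) hy.2.2)
  -- an element of `q`-power order of `K` outside its reduced subgroup
  obtain ⟨n, hn, hnK, hnq⟩ : ∃ n, n ∉ B.red v ∧ n ∈ K ∧ ∃ k, orderOf n = q ^ k := by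
    obtain ⟨g, hg, hgL⟩ := B.exists_normalizer hy
    have hHall : IsPiHallOf {p | p ∣ N} K M := by
      refine ⟨hKM, fun p _ hd => hKN ▸ hd, fun p hp hpN hd => ?_⟩
      have hc : Nat.card K * K.relIndex M = Nat.card M := by
        rw [relIndex, ← Nat.card_congr (subgroupOfEquivOfLe hKM).toEquiv]
        exact (K.subgroupOf M).card_mul_index
      have h1 : N * p ∣ cc t * N := by
        rw [B.side.prod]
        exact (mul_dvd_mul (dvd_of_eq hKN.symm) hd).trans (hc ▸ card_subgroup_dvd_card M)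
      rw [mul_comm (cc t)] at h1
      exact hp.ne_one (Nat.eq_one_of_dvd_coprimes B.side.cop (Nat.dvd_of_mul_dvd_mul_left B.side.N_pos h1) hpN)
    obtain ⟨m, -, hle⟩ := CfsgLib.pi_le_conj_hall hMs hHall hNM
      fun p _ hd => hd.trans hNpi
    have hmK : ∀ a ∈ normalizer (L : Set G), m * a * m⁻¹ ∈ K := fun a ha => by
      have := hle (smul_mem_pointwise_smul a (MulAut.conj m) _ ha)
      simpa [MulAut.smul_def] using this
    set y1 := m * y * m⁻¹
    have hy1o : orderOf y1 = orderOf y := (MulAut.conj m).orderOf_eq y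
    have hy1 : Reg' N q y1 := ⟨fun e => hy.1 (conj_eq_one_iff.mp e), hy1o ▸ hy.2.1, hy1o ▸ hy.2.2⟩
    have hy1K : y1 ∈ K := hmK y (le_normalizer (self_mem y))
    set g1 := m * g * m⁻¹
    have hg1K : g1 ∈ K := hmK g hg
    have htr : ∀ {a : G}, a ∈ centralizer ({y1} : Set G) ↔ m⁻¹ * a * m ∈ L := fun {a} => by
      simp only [y1, L, mem_cent]
      constructor
      · intro h
        calc m⁻¹ * a * m * y = m⁻¹ * (a * (m * y * m⁻¹)) * m := by group
          _ = m⁻¹ * (m * y * m⁻¹ * a) * m := by rw [h]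
          _ = _ := by group
      · intro h
        calc a * (m * y * m⁻¹) = m * (m⁻¹ * a * m * y) * m⁻¹ := by group
          _ = m * (y * (m⁻¹ * a * m)) * m⁻¹ := by rw [h]
          _ = _ := by group
    have hg1N : g1 ∈ normalizer (centralizer ({y1} : Set G) : Set G) := mem_normalizer_iff.mpr fun a => by
      show a ∈ centralizer ({y1} : Set G) ↔ g1 * a * g1⁻¹ ∈ centralizer ({y1} : Set G)
      rw [htr, htr, show m⁻¹ * (g1 * a * g1⁻¹) * m = g * (m⁻¹ * a * m) * g⁻¹ by simp only [g1]; group]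
      exact mem_normalizer_iff.mp hg _
    have hg1L : g1 ∉ centralizer ({y1} : Set G) := fun h => hgL (by
      rw [htr, show m⁻¹ * g1 * m = g by simp only [g1]; group] at h
      exact h)
    obtain ⟨a, b, hab, -, ha, hb, haz, hbz⟩ := CfsgLib.Blocks.exists_pPart (Fact.out : q.Prime) g1
    have hbL : b ∈ centralizer ({y1} : Set G) := B.mem_of_comm hv hy1 hy1K (zpowers_le.mpr hg1K hbz) hb
      ((mem_normalizer_iff.mp (zpowers_le.mpr hg1N hbz) y1).mp (self_mem y1))
    have haL : a ∉ centralizer ({y1} : Set G) := fun h => hg1L (hab ▸ mul_mem h hbL)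
    refine ⟨a, fun hred => haL ?_, zpowers_le.mpr hg1K haz, ha⟩
    have hcore : a ∈ F := (B.mem_core (B.red_le v hred)).mpr (B.q_mem_core hv hred ha)
    have hcm := (mem_normalizer_iff.mp (zpowers_le.mpr hg1N haz) y1).mp (self_mem y1)
    have h1 : a * y1 * a⁻¹ * y1⁻¹ ∈ F := by
      rw [show a * y1 * a⁻¹ * y1⁻¹ = a * (y1 * a⁻¹ * y1⁻¹) by group]
      exact mul_mem hcore ((mem_normalizer_iff.mp (B.core_normal v hy1K) _).mp (inv_mem hcore))
    have hcomm : Commute (a * y1 * a⁻¹) y1⁻¹ := (show Commute (a * y1 * a⁻¹) y1 from mem_cent.mp hcm).inv_right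
    have h2 := B.eq_one_of_q (exists_orderOf_eq_pow (B.core_isPGroup v) h1) fun hd => by
      have h3 := hd.trans (hcomm.orderOf_mul_dvd_lcm.trans (Nat.lcm_dvd_mul _ _))
      rw [orderOf_inv, ← MulAut.conj_apply, MulEquiv.orderOf_eq] at h3
      exact hy1.2.2 (((Fact.out : q.Prime).dvd_mul.mp h3).elim id id)
    rw [mul_inv_eq_one, mul_inv_eq_iff_eq_mul] at h2
    exact mem_cent.mpr h2
  by_cases hMN : Nat.card M ∣ N
  · have hMK : M = K := (eq_of_le_of_card_ge hKM (by rw [hKN]; exact Nat.le_of_dvd B.side.N_pos hMN)).symm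
    exact hn (B.toQ.locM_le_of_residual Q hna hA0 (X := B.red v) (by rw [← hMd, hMK]; exact B.red_normal v)
      (fun x hx hxq => B.reg_mem_red hv (by rw [← hMd, hMK] at hx; exact hx) hxq) (hKM hnK))
  obtain ⟨l, hl, hlM, hlt, hlN⟩ := B.exists_other_kind hMN
  have hFred := B.core_le_red hv
  have hnR : ¬ M ≤ R := fun h => hn (hFred (hRF (h (hKM hnK))))
  obtain ⟨s, hs, T, S, hRT, hTM, hMT, hST, hS, hSc, hTs, hSR⟩ := exists_layer hMs hRM hMR hnR
  haveI := Fact.mk hs
  have hsq : s ≠ q := by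
    rintro rfl
    refine hSR (hST.trans ?_)
    intro a ha
    haveI : (T.subgroupOf M).Normal := ⟨fun n hn g => mem_subgroupOf.mpr
      ((mem_normalizer_iff.mp (hMT g.2) _).mp (mem_subgroupOf.mp hn))⟩
    have hTq : IsPGroup s T := (hRq.to_sup_of_normal_left' hS ((hST.trans hTM).trans hMR)).to_le hTs
    have hp : IsPGroup s (T.subgroupOf M) := hTq.comap_subtype
    exact ⟨⟨a, hTM ha⟩, CfsgLib.le_pCore hp (mem_subgroupOf.mpr ha), rfl⟩
  have hSM : S ≤ M := hST.trans hTM
  have hSRd : ∀ {a : G}, a ∈ S → a ∈ R → a = 1 := fun {a} ha haR => by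
    obtain ⟨i, hi⟩ := exists_orderOf_eq_pow hS ha
    obtain ⟨j, hj⟩ := exists_orderOf_eq_pow hRq haR
    exact orderOf_eq_one_iff.mp (Nat.eq_one_of_dvd_coprimes
      (Nat.Coprime.pow i j ((Nat.coprime_primes hs (Fact.out : q.Prime)).mpr hsq)) (dvd_of_eq hi) (dvd_of_eq hj))
  obtain ⟨a0, ha0, ha01⟩ : ∃ a ∈ S, a ≠ 1 := by
    by_contra hc
    push Not at hc
    exact hSR fun a ha => hc a ha ▸ one_mem _
  -- the Frattini argument
  set H := M ⊓ normalizer (S : Set G) with hH
  have hdec : ∀ m ∈ M, ∃ r ∈ R, r * m ∈ H := by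
    intro m hm
    obtain ⟨x, hx, hxm⟩ := exists_frattini hST hSc (hMT hm)
    have hx' : x⁻¹ ∈ R ⊔ S := hTs (inv_mem hx)
    obtain ⟨r, hr, s0, hs0, he⟩ := CfsgLib.mem_sup_of_le_normalizer (hSM.trans hMR) hx'
    refine ⟨r⁻¹, inv_mem hr, mem_inf.mpr ⟨mul_mem (inv_mem (hRM hr)) hm, ?_⟩⟩
    have := mul_mem (le_normalizer hs0 : s0 ∈ normalizer (S : Set G)) hxm
    rwa [show s0 * (x * m) = r⁻¹ * m by
      rw [show s0 = r⁻¹ * x⁻¹ by rw [← he]; group]; group] at this
  have hdvd : Nat.card M ∣ Nat.card R * Nat.card H := by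
    refine (card_dvd_of_le (fun m hm => ?_ : M ≤ R ⊔ H)).trans ?_
    · obtain ⟨r, hr, h⟩ := hdec m hm
      exact (show r⁻¹ * (r * m) = m by group) ▸ mul_mem (mem_sup_left (inv_mem hr)) (mem_sup_right h)
    · rw [mul_comm]; exact CfsgLib.Signalizer.card_sup_dvd (inf_le_left.trans hMR)
  by_cases hsN : s ∣ N
  · -- the layer is of odd kind
    obtain ⟨g, hg, hgo, hg1⟩ := exists_orderOf_dvd hl (H := H) (by
      obtain ⟨k, hk⟩ := hRq.exists_card_eq
      refine (hl.dvd_mul.mp (hlM.trans hdvd)).resolve_left fun hd => hlN ?_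
      rw [(Nat.prime_dvd_prime_iff_eq hl (Fact.out : q.Prime)).mp (hl.dvd_of_dvd_pow (hk ▸ hd))]
      exact B.q_dvd)
    obtain ⟨hgM, hgS⟩ := mem_inf.mp hg
    have hz : ∀ e ∈ zpowers g, orderOf e ∣ cc t := fun e he =>
      (by rw [← Nat.card_zpowers g]; exact Subgroup.orderOf_dvd_natCard _ he : orderOf e ∣ orderOf g).trans (hgo ▸ hlt)
    have hSN : ∀ {a : G}, a ∈ S → orderOf a ∣ N := fun {a} ha => by
      obtain ⟨i, hi⟩ := exists_orderOf_eq_pow hS ha
      have h1 : s ^ i ∣ cc t * N := B.side.prod.symm ▸ hi ▸ orderOf_dvd_natCard a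
      have hnd : ¬ s ∣ cc t := fun h => hs.ne_one (Nat.eq_one_of_dvd_coprimes B.side.cop h hsN)
      exact hi ▸ ((hs.coprime_iff_not_dvd.mpr hnd).pow_left i).dvd_of_dvd_mul_left h1
    haveI := hS.isNilpotent
    obtain ⟨i, hi⟩ := hS.exists_card_eq
    obtain ⟨j, hj⟩ := hRq.exists_card_eq
    have hle := fpf_centralizes (U := S) (E := zpowers g) (V := R) (zpowers_le.mpr hgS)
      (fun e he he1 u hu h => B.fpf_even (hz e he) (hSN hu) he1 h) (hSM.trans hMR) (zpowers_le.mpr (hMR hgM))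
      (by rw [hi, hj]; exact Nat.Coprime.pow i j ((Nat.coprime_primes hs (Fact.out : q.Prime)).mpr hsq))
      (by
        rw [Nat.card_zpowers, hgo, hj]
        exact ((Nat.coprime_primes hl (Fact.out : q.Prime)).mpr fun e => hlN (e ▸ B.q_dvd)).pow_right j)
      (by haveI := hRq.isNilpotent; infer_instance)
      (fun x hx hxc => B.fpf_even (hgo ▸ hlt) (hRz hx) hg1 (mem_centralizer_iff.mp hxc g (mem_zpowers g)))
    exact ha01 (hSRd ha0 (hCR a0 (hSM ha0) fun a ha => mem_cent.mpr (mem_centralizer_iff.mp (hle ha) a0 ha0).symm))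
  · -- the layer is of even kind
    have hSt : ∀ {a : G}, a ∈ S → orderOf a ∣ cc t := fun {a} ha => by
      obtain ⟨i, hi⟩ := exists_orderOf_eq_pow hS ha
      have h1 : s ^ i ∣ cc t * N := B.side.prod.symm ▸ hi ▸ orderOf_dvd_natCard a
      exact hi ▸ ((hs.coprime_iff_not_dvd.mpr hsN).pow_left i).dvd_of_dvd_mul_right h1
    set X := B.red v ⊓ normalizer (S : Set G) with hX
    obtain ⟨r, hr, hrn⟩ := hdec n (hKM hnK)
    set h := r * n
    have hhS : h ∈ normalizer (S : Set G) := (mem_inf.mp hrn).2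
    have hhK : h ∈ K := mul_mem (B.core_le v (hRF hr)) hnK
    have hhred : h ∉ B.red v := fun hh => hn (by
      have := mul_mem (inv_mem (hFred (hRF hr))) hh
      rwa [show r⁻¹ * h = n by simp only [h]; group] at this)
    obtain ⟨p, hp, hpq, hpN⟩ := B.exists_other
    haveI := Fact.mk hp
    have hpX : p ∣ Nat.card X := by
      have hK2 : K ≤ R ⊔ (K ⊓ normalizer (S : Set G)) := fun k hk => by
        obtain ⟨r', hr', h'⟩ := hdec k (hKM hk)
        exact (show r'⁻¹ * (r' * k) = k by group) ▸ mul_mem (mem_sup_left (inv_mem hr'))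
          (mem_sup_right (mem_inf.mpr ⟨mul_mem (B.core_le v (hRF hr')) hk, (mem_inf.mp h').2⟩))
      have hd := (card_dvd_of_le hK2).trans
        (CfsgLib.Signalizer.card_sup_dvd (inf_le_left.trans (hKM.trans hMR)))
      have hpR : ¬ p ∣ Nat.card R := fun hd' => by
        obtain ⟨k, hk⟩ := hRq.exists_card_eq
        exact hpq ((Nat.prime_dvd_prime_iff_eq hp (Fact.out : q.Prime)).mp (hp.dvd_of_dvd_pow (hk ▸ hd')))
      obtain ⟨x, hx, hxo, -⟩ := exists_orderOf_dvd hp (H := K ⊓ normalizer (S : Set G))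
        ((hp.dvd_mul.mp ((hKN.symm ▸ hpN : p ∣ Nat.card K).trans hd)).resolve_right hpR)
      obtain ⟨hxK, hxS⟩ := mem_inf.mp hx
      have hxred := B.reg_mem_red hv hxK
        fun hd' => hpq.symm ((Nat.prime_dvd_prime_iff_eq (Fact.out : q.Prime) hp).mp (hxo ▸ hd'))
      exact hxo ▸ Subgroup.orderOf_dvd_natCard X (mem_inf.mpr ⟨hxred, hxS⟩)
    obtain ⟨P, hPX, hP, hPc⟩ := exists_qgroup_le p X
    have hPne : P ≠ ⊥ := fun e => by
      rw [e, card_bot, eq_comm] at hPc
      exact (Nat.one_lt_pow (hp.factorization_pos_of_dvd Nat.card_pos.ne' hpX).ne' hp.one_lt).ne' hPc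
    have hhX : h ∈ normalizer (X : Set G) := mem_normalizer_iff.mpr fun z =>
      ⟨fun hz => mem_inf.mpr ⟨(mem_normalizer_iff.mp (B.red_normal v hhK) z).mp (mem_inf.mp hz).1,
          mul_mem (mul_mem hhS (mem_inf.mp hz).2) (inv_mem hhS)⟩,
        fun hz => mem_inf.mpr ⟨(mem_normalizer_iff.mp (B.red_normal v hhK) z).mpr (mem_inf.mp hz).1, by
          have := mul_mem (mul_mem (inv_mem hhS) (mem_inf.mp hz).2) hhS
          rwa [show h⁻¹ * (h * z * h⁻¹) * h = z by group] at this⟩⟩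
    obtain ⟨x, hx, hxh⟩ := exists_frattini hPX hPc hhX
    have hxhK : x * h ∈ K := mul_mem (B.red_le v (mem_inf.mp hx).1) hhK
    have hxhS : x * h ∈ normalizer (S : Set G) := mul_mem (mem_inf.mp hx).2 hhS
    have hxhred : x * h ∉ B.red v := fun hh => hhred (by
      have := mul_mem (inv_mem (mem_inf.mp hx).1) hh
      rwa [inv_mul_cancel_left] at this)
    obtain ⟨u, b, hub, -, hu, hb, huz, hbz⟩ := CfsgLib.Blocks.exists_pPart (Fact.out : q.Prime) (x * h)
    have hur : u ∉ B.red v := fun hh => hxhred (hub ▸ mul_mem hh (B.reg_mem_red hv (zpowers_le.mpr hxhK hbz) hb))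
    have huK : u ∈ K := zpowers_le.mpr hxhK huz
    have huS : u ∈ normalizer (S : Set G) := zpowers_le.mpr hxhS huz
    have huP : u ∈ normalizer (P : Set G) := zpowers_le.mpr hxh huz
    have hSR' : S ≤ normalizer (R : Set G) := hSM.trans hMR
    have hfpf : ∀ e ∈ zpowers u, e ≠ 1 → ∀ w ∈ P, e * w = w * e → w = 1 := by
      intro e he he1 w hw hcm
      by_contra hw1
      have hwK : w ∈ K := B.red_le v (mem_inf.mp (hPX hw)).1
      obtain ⟨i, hi⟩ := exists_orderOf_eq_pow hP hw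
      have hwr : Reg' N q w := B.reg_of_mem (dvd_of_eq hKN) hwK hw1 fun hd => hpq.symm
        ((Nat.prime_dvd_prime_iff_eq (Fact.out : q.Prime) hp).mp ((Fact.out : q.Prime).dvd_of_dvd_pow (hi ▸ hd)))
      obtain ⟨ku, hku⟩ := hu
      have heq' : ∃ k, orderOf e = q ^ k := by
        obtain ⟨j, -, hj⟩ := (Nat.dvd_prime_pow (Fact.out : q.Prime)).mp (hku ▸
          (by rw [← Nat.card_zpowers u]; exact Subgroup.orderOf_dvd_natCard _ he : orderOf e ∣ orderOf u))
        exact ⟨j, hj⟩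
      have hle := B.le_q hwr heq' (hqN heq') (show Commute e w from hcm).symm
      rcases B.side.val_odd he1 (hqN heq') with hN' | hD'
      · -- a power of order `q` lies in the core of the normalizer
        obtain ⟨j, hj⟩ := heq'
        have hj0 : j ≠ 0 := fun e0 => he1 (by simpa [e0] using hj)
        have ho := orderOf_pow_orderOf_div (orderOf_pos e).ne' (hj ▸ dvd_pow_self q hj0)
        set e' := e ^ (orderOf e / q)
        have he'u : e' ∈ zpowers u := pow_mem he _
        have he'S : e' ∈ normalizer (S : Set G) := zpowers_le.mpr huS he'u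
        have he'1 : e' ≠ 1 := fun e0 => (Fact.out : q.Prime).one_lt.ne (by rw [← ho, e0, orderOf_one])
        have he'R : e' ∈ R := hAR (B.toQ.mem_locA_of_cc Q ho (B.cc_pow_eq hN' he'1)
          (zpowers_le.mpr (hKM huK) he'u))
        have h1 : a0 * e' * a0⁻¹ * e'⁻¹ ∈ R :=
          mul_mem ((mem_normalizer_iff.mp (hSR' ha0) e').mp he'R) (inv_mem he'R)
        have h2 : a0 * e' * a0⁻¹ * e'⁻¹ ∈ S := by
          rw [show a0 * e' * a0⁻¹ * e'⁻¹ = a0 * (e' * a0⁻¹ * e'⁻¹) by group]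
          exact mul_mem ha0 ((mem_normalizer_iff.mp he'S _).mp (inv_mem ha0))
        have h3 := hSRd h2 h1
        rw [mul_inv_eq_one, mul_inv_eq_iff_eq_mul] at h3
        exact he'1 (B.fpf_even (hSt ha0) (hqN ⟨1, by rw [ho, pow_one]⟩) ha01 h3)
      · have heq : centralizer ({w} : Set G) = centralizer ({e} : Set G) :=
          eq_of_le_of_card_ge hle (hD'.trans (B.reg_D hwr).symm).le
        have huw : u ∈ centralizer ({w} : Set G) := by
          rw [heq, mem_cent]
          obtain ⟨i, rfl⟩ := he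
          exact ((Commute.refl u).zpow_right i).eq
        exact hur (hFred (B.q_cent_mem_core hv hwr hwK huw ⟨ku, hku⟩))
    haveI := hP.isNilpotent
    obtain ⟨i, hi⟩ := hP.exists_card_eq
    obtain ⟨j, hj⟩ := hS.exists_card_eq
    obtain ⟨ku, hku⟩ := hu
    have hps : p ≠ s := fun e => hsN (e ▸ hpN)
    have hu1 : u ≠ 1 := fun e => hur (e ▸ one_mem _)
    have hle := fpf_centralizes (U := P) (E := zpowers u) (V := S) (zpowers_le.mpr huP) hfpf
      (fun a ha => (mem_inf.mp (hPX ha)).2) (zpowers_le.mpr huS)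
      (by rw [hi, hj]; exact Nat.Coprime.pow i j ((Nat.coprime_primes hp hs).mpr hps))
      (by
        rw [Nat.card_zpowers, hku, hj]
        exact Nat.Coprime.pow ku j ((Nat.coprime_primes (Fact.out : q.Prime) hs).mpr hsq.symm))
      (by haveI := hS.isNilpotent; infer_instance)
      (fun x hx hxc => by
        by_contra hx1
        exact hu1 (B.fpf_even (hSt hx) (hqN ⟨ku, hku⟩) hx1 (mem_centralizer_iff.mp hxc u (mem_zpowers u)).symm))
    obtain ⟨w, hw, hw1⟩ : ∃ w ∈ P, w ≠ 1 := by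
      by_contra hc
      push Not at hc
      exact hPne ((Subgroup.eq_bot_iff_forall P).mpr hc)
    refine hw1 (B.fpf_even (hSt ha0) ?_ ha01 (mem_centralizer_iff.mp (hle ha0) w hw).symm)
    exact B.side.mem_type (dvd_of_eq hKN) (B.red_le v (mem_inf.mp (hPX hw)).1)

end Pure

end CfsgLib.ConjRankFour
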