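import Cfsg.Agent.Lib.ConjRankFour.Five.Alpha
import Cfsg.Agent.Lib.CoprimeGen

set_option autoImplicit false
set_option linter.style.haveILetI false

/-!
Every `q`-core of a centralizer of order `N` centralized by a `q'`-element: no such group.
-/

namespace CfsgLib.ConjRankFour

open Cfsg Subgroup CfsgLib.ConjRankThree
open scoped Pointwise

universe u

variable {G : Type u} [Group G] [Finite G]

namespace Pure

variable {t : G} {N D q : ℕ} (B : Pure t N D q)
include B

/-- Every centralizer of order `N` has a `q'`-element centralizing its `q`-core. -/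
def Beta (B : Pure t N D q) : Prop :=
  ∀ v : G, cc v = N → ∃ w, w ∈ centralizer ({v} : Set G) ∧ Reg' N q w ∧ B.core v ≤ centralizer ({w} : Set G)

variable (hβ : B.Beta)
include hβ

/-- All `q'`-elements of the centralizer lie in one abelian centralizer, normalized by it. -/
theorem beta_mem {v y : G} (hv : cc v = N) (hy : Reg' N q y) (hyv : y ∈ centralizer ({v} : Set G)) :
    (∀ w ∈ centralizer ({v} : Set G), ¬ q ∣ orderOf w → w ∈ centralizer ({y} : Set G)) ∧
      centralizer ({v} : Set G) ≤ normalizer (centralizer ({y} : Set G) : Set G) := by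
  haveI := Fact.mk B.hq
  obtain ⟨y0, hy0v, hy0, hF⟩ := hβ v hv
  have h0 : ∀ w ∈ centralizer ({v} : Set G), ¬ q ∣ orderOf w → w ∈ centralizer ({y0} : Set G) := by
    intro w hw hwq
    refine B.mem_of_comm hv hy0 hy0v hw hwq ?_
    have hwy : w * y0 * w⁻¹ ∈ centralizer ({v} : Set G) := mul_mem (mul_mem hw hy0v) (inv_mem hw)
    set c := w * y0 * w⁻¹ * y0⁻¹
    have hc : c ∈ B.core v := by
      rw [B.mem_core (mul_mem hwy (inv_mem hy0v)), ← QuotientGroup.eq_one_iff (N := pCore q (centralizer ({v} : Set G)))]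
      show QuotientGroup.mk' (pCore q (centralizer ({v} : Set G)))
        ((⟨w, hw⟩ : centralizer ({v} : Set G)) * ⟨y0, hy0v⟩ *
        (⟨w, hw⟩ : centralizer ({v} : Set G))⁻¹ * (⟨y0, hy0v⟩ : centralizer ({v} : Set G))⁻¹) = 1
      have h1 := B.comm_mod hv (a := ⟨w, hw⟩) (b := ⟨y0, hy0v⟩) (by rwa [Subgroup.orderOf_mk])
        (by rw [Subgroup.orderOf_mk]; exact hy0.2.2)
      rw [map_mul, map_mul, map_mul, map_inv, map_inv, h1.eq]
      group
    have h2 := mul_mem (hF hc) (self_mem y0)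
    rwa [inv_mul_cancel_right] at h2
  have heq : centralizer ({y} : Set G) = centralizer ({y0} : Set G) := B.cent_eq hy0 hy (h0 y hyv hy.2.2)
  rw [heq]
  refine ⟨h0, fun k hk => B.mem_normalizer_cent hy0 (h0 _ (mul_mem (mul_mem hk hy0v) (inv_mem hk)) ?_)⟩
  rw [← MulAut.conj_apply, MulEquiv.orderOf_eq]
  exact hy0.2.2

theorem normalizer_eq {v y : G} (hv : cc v = N) (hy : Reg' N q y) (hyv : y ∈ centralizer ({v} : Set G)) :
    normalizer (centralizer ({y} : Set G) : Set G) = centralizer ({v} : Set G) := by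
  haveI := Fact.mk B.hq
  obtain ⟨hreg, hKn⟩ := B.beta_mem hβ hv hy hyv
  set K := centralizer ({v} : Set G)
  set L := centralizer ({y} : Set G)
  set M := normalizer (L : Set G)
  have hKN : Nat.card K = N := hv
  have hLD : Nat.card L = D := B.reg_D hy
  refine le_antisymm ?_ hKn
  have hodd : Odd (Nat.card M) := B.side.odd_local (fun e => hy.1 (mem_bot.mp (e ▸ self_mem y)))
    (hLD ▸ B.side.dvd)
  haveI hMs : Group.IsSolvable M := B.side.isSolvable hodd
  by_contra hMK
  have hMN : ¬ Nat.card M ∣ N := fun h => hMK (eq_of_le_of_card_ge hKn (by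
    rw [hKN]; exact Nat.le_of_dvd B.side.N_pos h)).ge
  obtain ⟨l, hl, hlM, hlt, hlN⟩ := B.exists_other_kind hMN
  have hLK : L ≤ K := B.le_v hv hy (mem_cent.mp hyv)
  have hnL : ¬ M ≤ L := fun h => hMK (h.trans hLK)
  obtain ⟨s, hs, T, S, hLT, hTM, hMT, hST, hS, hSc, hTs, hSL⟩ := exists_layer hMs le_normalizer le_rfl hnL
  haveI := Fact.mk hs
  have hSM : S ≤ M := hST.trans hTM
  obtain ⟨a0, ha0, ha0L⟩ := SetLike.not_le_iff_exists.mp hSL
  have ha01 : a0 ≠ 1 := fun e => ha0L (e ▸ one_mem _)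
  set H := M ⊓ normalizer (S : Set G)
  have hdec : ∀ m ∈ M, ∃ r ∈ L, r * m ∈ H := by
    intro m hm
    obtain ⟨x, hx, hxm⟩ := exists_frattini hST hSc (hMT hm)
    obtain ⟨r, hr, s0, hs0, he⟩ := CfsgLib.mem_sup_of_le_normalizer hSM (hTs (inv_mem hx))
    refine ⟨r⁻¹, inv_mem hr, mem_inf.mpr ⟨mul_mem (inv_mem (le_normalizer hr)) hm, ?_⟩⟩
    have := mul_mem (le_normalizer hs0 : s0 ∈ normalizer (S : Set G)) hxm
    rwa [show s0 * (x * m) = r⁻¹ * m by
      rw [show s0 = r⁻¹ * x⁻¹ by rw [← he]; group]; group] at this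
  haveI := hS.isNilpotent
  haveI := B.isNilpotent_part hy
  have hPs : Group.IsSolvable (B.part hy) := inferInstance
  have hSP : S ≤ normalizer (B.part hy : Set G) := hSM.trans (B.part_normalizer hy)
  obtain ⟨i, hi⟩ := hS.exists_card_eq
  by_cases hsq : s = q
  · subst hsq
    obtain ⟨g, hg, hgo, hg1⟩ := exists_orderOf_dvd hl (H := H) (by
      have hd : Nat.card M ∣ Nat.card L * Nat.card H := by
        refine (card_dvd_of_le (fun m hm => ?_ : M ≤ L ⊔ H)).trans ?_
        · obtain ⟨r, hr, h⟩ := hdec m hm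
          exact (show r⁻¹ * (r * m) = m by group) ▸ mul_mem (mem_sup_left (inv_mem hr)) (mem_sup_right h)
        · rw [mul_comm]; exact CfsgLib.Signalizer.card_sup_dvd inf_le_left
      exact (hl.dvd_mul.mp (hlM.trans hd)).resolve_left fun hd' => hlN (hd'.trans (hLD ▸ B.side.dvd)))
    obtain ⟨hgM, hgS⟩ := mem_inf.mp hg
    have hSN : ∀ {a : G}, a ∈ S → orderOf a ∣ N := fun ha => B.side.mem_type (B.toQ.card_dvd_of_isPGroup hS) ha
    have hle := fpf_centralizes (U := S) (E := zpowers g) (V := B.part hy) (zpowers_le.mpr hgS)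
      (fun e he he1 u hu h => B.fpf_even
        ((by rw [← Nat.card_zpowers g]; exact Subgroup.orderOf_dvd_natCard _ he : orderOf e ∣ orderOf g).trans
          (hgo ▸ hlt)) (hSN hu) he1 h)
      hSP (zpowers_le.mpr (B.part_normalizer hy hgM)) (B.part_coprime hy hS).symm
      (by
        rw [Nat.card_zpowers, hgo]
        exact hl.coprime_iff_not_dvd.mpr fun hd => hlN (hd.trans (B.part_dvd hy)))
      hPs
      (fun x hx hxc => B.fpf_even (hgo ▸ hlt) (B.side.mem_type (B.part_dvd hy) hx) hg1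
        (mem_centralizer_iff.mp hxc g (mem_zpowers g)))
    exact ha0L (mem_cent.mpr (mem_centralizer_iff.mp (hle (B.self_mem_part hy)) a0 ha0))
  · -- then `s` does not divide `N`
    have hsN : ¬ s ∣ N := by
      intro hsN
      have hTG := (Nat.factorization_le_iff_dvd Nat.card_pos.ne' Nat.card_pos.ne').mpr (card_subgroup_dvd_card T) s
      rw [B.side.fac_eq hs hsN, ← B.fac_D hs hsq, ← hLD] at hTG
      obtain ⟨R, hRL, hR, hRc⟩ := exists_qgroup_le s L
      have hRn : S ≤ normalizer (R : Set G) := fun a ha => mem_normalizer_iff.mpr fun z => by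
        have hmem : ∀ {x : G}, x ∈ R ↔ x ∈ L ∧ ∃ k, orderOf x = s ^ k := fun {x} => by
          refine ⟨fun hx => ⟨hRL hx, exists_orderOf_eq_pow hR hx⟩, fun ⟨hx, k, hk⟩ => ?_⟩
          have hP : IsPGroup s (zpowers x) := IsPGroup.of_card (n := k) (by rw [Nat.card_zpowers, hk])
          have hn : zpowers x ≤ normalizer (R : Set G) := zpowers_le.mpr (centralizer_le_normalizer _
            (mem_centralizer_iff.mpr fun u hu => B.cent_comm hy (hRL hu) hx))
          exact eq_of_qgroup Nat.card_pos.ne' (hR.to_sup_of_normal_left' hP hn) le_sup_left hRc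
            (card_dvd_of_le (sup_le hRL (zpowers_le.mpr hx))) ▸ mem_sup_right (mem_zpowers x)
        rw [hmem, hmem, ← MulAut.conj_apply, MulEquiv.orderOf_eq]
        exact and_congr_left fun _ => mem_normalizer_iff.mp (hSM ha) z
      have e := eq_of_qgroup (X := R ⊔ S) (Nat.card_pos (α := L)).ne' (hR.to_sup_of_normal_left' hS hRn) le_sup_left hRc
        (by
          obtain ⟨j, hj⟩ := (hR.to_sup_of_normal_left' hS hRn).exists_card_eq
          have h1 : Nat.card (R ⊔ S : Subgroup G) ∣ Nat.card T :=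
            card_dvd_of_le (sup_le (hRL.trans hLT) hST)
          rw [hj, hs.pow_dvd_iff_le_factorization Nat.card_pos.ne'] at h1 ⊢
          exact h1.trans hTG)
      exact hSL fun a ha => hRL (e ▸ mem_sup_right ha)
    have hSt : ∀ {a : G}, a ∈ S → orderOf a ∣ cc t := fun {a} ha => by
      obtain ⟨j, hj⟩ := exists_orderOf_eq_pow hS ha
      have h1 : s ^ j ∣ cc t * N := B.side.prod.symm ▸ hj ▸ orderOf_dvd_natCard a
      exact hj ▸ ((hs.coprime_iff_not_dvd.mpr hsN).pow_left j).dvd_of_dvd_mul_right h1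
    -- a `q`-element of `K` outside `L` normalizing `S`
    obtain ⟨k, hk, hkL⟩ : ∃ k ∈ K, k ∉ L := by
      by_contra hc
      push Not at hc
      exact B.side.nonabelian hv fun a ha b hb => B.cent_comm hy (hc a ha) (hc b hb)
    obtain ⟨r, hr, hrk⟩ := hdec k (hKn hk)
    have hrkK : r * k ∈ K := mul_mem (hLK hr) hk
    obtain ⟨u, b, hub, -, hu, hb, huz, hbz⟩ := CfsgLib.Blocks.exists_pPart (Fact.out : q.Prime) (r * k)
    have huK : u ∈ K := zpowers_le.mpr hrkK huz
    have huL : u ∉ L := fun hh => hkL (by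
      have := mul_mem (inv_mem hr) (hub ▸ mul_mem hh (hreg b (zpowers_le.mpr hrkK hbz) hb) : r * k ∈ L)
      rwa [inv_mul_cancel_left] at this)
    have huS : u ∈ normalizer (S : Set G) := zpowers_le.mpr (mem_inf.mp hrk).2 huz
    have huN : orderOf u ∣ N := B.side.mem_type (dvd_of_eq hKN) huK
    obtain ⟨ku, hku⟩ := hu
    have hle := fpf_centralizes (U := S) (E := zpowers u) (V := B.part hy) (zpowers_le.mpr huS)
      (fun e he he1 a ha h => by
        by_contra ha1
        refine he1 (B.fpf_even (hSt ha) ?_ ha1 h.symm)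
        exact ((by rw [← Nat.card_zpowers u]; exact Subgroup.orderOf_dvd_natCard _ he :
          orderOf e ∣ orderOf u).trans huN))
      hSP (zpowers_le.mpr (B.part_normalizer hy (hKn huK)))
      (by
        rw [hi]
        exact (hs.coprime_iff_not_dvd.mpr fun hd => hsN (hd.trans (B.part_dvd hy))).pow_left i)
      (by
        rw [Nat.card_zpowers, hku]
        exact (B.part_coprime hy (IsPGroup.of_card (n := ku) (by rw [Nat.card_zpowers, hku]) :
          IsPGroup q (zpowers u))).symm.coprime_dvd_left (by rw [Nat.card_zpowers, hku]))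
      hPs
      (fun x hx hxc => by
        by_contra hx1
        refine huL ?_
        show u ∈ centralizer ({y} : Set G)
        rw [← B.cent_eq hy (B.reg_of_part hy hx hx1) hx.1]
        exact mem_cent.mpr (mem_centralizer_iff.mp hxc u (mem_zpowers u)))
    exact hy.1 (B.fpf_even (hSt ha0) hy.2.1 ha01 (mem_centralizer_iff.mp (hle (B.self_mem_part hy)) a0 ha0))

/-- Elements with centralizer of order `N` in a centralizer of a `q'`-element determine its normalizer. -/
theorem cent_eq_normalizer {w y : G} (hw : cc w = N) (hy : Reg' N q y) (hwy : w ∈ centralizer ({y} : Set G)) :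
    centralizer ({w} : Set G) = normalizer (centralizer ({y} : Set G) : Set G) :=
  (B.normalizer_eq hβ hw hy (mem_cent_symm hwy)).symm

theorem mem_of_normalizer {v k : G} (hv : cc v = N) (hk : k ∈ normalizer (centralizer ({v} : Set G) : Set G)) :
    k ∈ centralizer ({v} : Set G) := by
  obtain ⟨y, hy, hyv⟩ := B.exists_reg hv
  rw [← B.normalizer_eq hβ hv hy hyv]
  refine B.mem_normalizer_cent hy ((B.beta_mem hβ hv hy hyv).1 _ ((mem_normalizer_iff.mp hk y).mp hyv) ?_)
  rw [← MulAut.conj_apply, MulEquiv.orderOf_eq]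
  exact hy.2.2

/-- The centralizers of order `N` are conjugate. -/
theorem exists_conj_cent_eq {v a : G} (hv : cc v = N) (ha : cc a = N) :
    ∃ g : G, centralizer ({g * v * g⁻¹} : Set G) = centralizer ({a} : Set G) := by
  obtain ⟨y, hy, hyv⟩ := B.exists_reg hv
  obtain ⟨y', hy', hya⟩ := B.exists_reg ha
  obtain ⟨g, hg⟩ := B.exists_conj hy hy'
  refine ⟨g, ?_⟩
  have h1 : g * v * g⁻¹ ∈ centralizer ({y'} : Set G) := by
    rw [← hg, mem_cent]
    have h2 : v * y = y * v := (mem_cent.mp hyv).symm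
    calc g * v * g⁻¹ * (g * y * g⁻¹) = g * (v * y) * g⁻¹ := by group
      _ = g * (y * v) * g⁻¹ := by rw [h2]
      _ = _ := by group
  rw [B.cent_eq_normalizer hβ ((cc_conj g v).trans hv) hy' h1, B.normalizer_eq hβ ha hy' hya]

variable [Fact q.Prime] [IsSimpleGroup G]

theorem not_beta (hna : ¬ IsMulCommutative G) (Q : Sylow q G) {v : G} (hv : cc v = N) (hvo : orderOf v = q)
    (hQv : (Q : Subgroup G) ≤ centralizer ({v} : Set G)) : False := by
  classical
  set K := centralizer ({v} : Set G) with hK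
  set A := B.toQ.locA Q
  set M := B.toQ.locM Q with hMd
  have hqp := (Fact.out : q.Prime)
  have hvA : v ∈ A := B.toQ.central_mem_locA Q (hvo ▸ pow_orderOf_eq_one v) hQv
  have hv1 : v ≠ 1 := fun e => hqp.one_lt.ne (by rw [← hvo, e, orderOf_one])
  have hA0 : A ≠ ⊥ := fun e => hv1 (mem_bot.mp (e ▸ hvA))
  obtain ⟨y, hy, hyv⟩ := B.exists_reg hv
  set L := centralizer ({y} : Set G)
  have hNL : normalizer (L : Set G) = K := B.normalizer_eq hβ hv hy hyv
  have hLD : Nat.card L = D := B.reg_D hy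
  obtain ⟨hreg, -⟩ := B.beta_mem hβ hv hy hyv
  have hnotM : ¬ M ≤ K := by
    intro hMK
    have hML : M ≤ L := B.toQ.locM_le_of_residual Q hna hA0 (by rw [hNL]; exact hMK)
      fun x hx hxq => hreg x (hMK hx) hxq
    have h1 := card_dvd_of_le ((B.toQ.sylow_le_locM Q).trans hML)
    rw [Q.card_eq_multiplicity, B.side.fac_eq hqp B.q_dvd, hLD] at h1
    have hD0 : D ≠ 0 := fun e => (Nat.card_pos (α := L)).ne' (hLD.trans e)
    refine B.side.ne (Nat.dvd_antisymm B.side.dvd ((Nat.factorization_le_iff_dvd B.side.N_pos.ne' hD0).mp fun r => ?_))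
    by_cases hrq : r = q
    · subst hrq; exact (hqp.pow_dvd_iff_le_factorization hD0).mp h1
    by_cases hr : r.Prime
    · exact (B.fac_D hr hrq).ge
    · rw [Nat.factorization_eq_zero_of_not_prime _ hr]; exact Nat.zero_le _
  have hAo : ∀ {a : G}, a ∈ A → a ≠ 1 → orderOf a = q := fun ha ha1 =>
    orderOf_eq_prime ((B.toQ.mem_locA Q).mp ha).2 ha1
  have hAN : ∀ {a : G}, a ∈ A → orderOf a ∣ N := fun ha =>
    B.side.mem_type (B.toQ.card_dvd_of_isPGroup (Q.2.to_le (B.toQ.locA_le Q))) ha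
  -- all non-identity elements of `A` have centralizer of order `N`
  have hAll : ∀ a ∈ A, a ≠ 1 → cc a = N := by
    intro a ha ha1
    refine (B.side.val_odd ha1 (hAN ha)).resolve_right fun hD' => ?_
    obtain ⟨y', hy', -, hCa⟩ := B.cent_D hD'
    have hAL : A ≤ centralizer ({y'} : Set G) := fun b hb => hCa ▸ mem_cent.mpr (B.toQ.locA_comm Q hb ha)
    refine hnotM fun m hm => B.mem_of_normalizer hβ hv ?_
    have hmv : m * v * m⁻¹ ∈ A := (mem_normalizer_iff.mp hm v).mp hvA
    have e : centralizer ({m * v * m⁻¹} : Set G) = K := by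
      rw [B.cent_eq_normalizer hβ ((cc_conj m v).trans hv) hy' (hAL hmv), hK,
        B.cent_eq_normalizer hβ hv hy' (hAL hvA)]
    rw [mem_normalizer_iff]
    intro z
    show z ∈ K ↔ m * z * m⁻¹ ∈ K
    conv_rhs => rw [← e]
    rw [hK]
    simp only [mem_cent]
    rw [show m * z * m⁻¹ * (m * v * m⁻¹) = m * (z * v) * m⁻¹ by group,
      show m * v * m⁻¹ * (m * z * m⁻¹) = m * (v * z) * m⁻¹ by group]
    exact ⟨fun h => by rw [h], fun h => mul_left_cancel (mul_right_cancel h)⟩
  -- elements of `A` with the same centralizer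
  have hblock : ∀ {a y' b : G}, a ∈ A → a ≠ 1 → Reg' N q y' → y' ∈ centralizer ({a} : Set G) → b ∈ A → b ≠ 1 →
      (b ∈ centralizer ({y'} : Set G) ↔ centralizer ({b} : Set G) = centralizer ({a} : Set G)) := by
    intro a y' b ha ha1 hy' hya hb hb1
    refine ⟨fun h => ?_, fun h => mem_cent_symm (h ▸ hya)⟩
    rw [B.cent_eq_normalizer hβ (hAll b hb hb1) hy' h,
      B.cent_eq_normalizer hβ (hAll a ha ha1) hy' (mem_cent_symm hya)]
  -- the index of a block is at most `q`
  have hidx : ∀ {a y' b : G}, a ∈ A → a ≠ 1 → Reg' N q y' → y' ∈ centralizer ({a} : Set G) → b ∈ A →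
      b ∉ centralizer ({y'} : Set G) → A ≤ A ⊓ centralizer ({y'} : Set G) ⊔ zpowers b := by
    intro a y' b ha ha1 hy' hya hb hbL c hc
    by_contra hcn
    set W := A ⊓ centralizer ({y'} : Set G) ⊔ zpowers b
    set E := zpowers b ⊔ zpowers c with hE
    have hEA : E ≤ A := sup_le (zpowers_le.mpr hb) (zpowers_le.mpr hc)
    haveI : IsMulCommutative E := ⟨⟨fun x z => Subtype.ext (B.toQ.locA_comm Q (hEA x.2) (hEA z.2))⟩⟩
    have hbE : b ∈ E := mem_sup_left (mem_zpowers b)
    have hcE : c ∈ E := mem_sup_right (mem_zpowers c)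
    have hb1 : b ≠ 1 := fun e => hbL (e ▸ one_mem _)
    have hnc : ¬ IsCyclic E := fun hcy => by
      obtain ⟨g, hg⟩ := IsCyclic.exists_generator (α := E)
      have hcard : Nat.card E ≤ q := by
        rw [← orderOf_eq_card_of_forall_mem_zpowers hg]
        exact Nat.le_of_dvd hqp.pos (orderOf_dvd_of_pow_eq_one (Subtype.ext ((B.toQ.mem_locA Q).mp (hEA g.2)).2))
      have e : zpowers b = E := eq_of_le_of_card_ge le_sup_left (by rw [Nat.card_zpowers, hAo hb hb1]; exact hcard)
      exact hcn (mem_sup_right (e ▸ hcE))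
    have hAK : A ≤ centralizer ({a} : Set G) := fun z hz => mem_cent.mpr (B.toQ.locA_comm Q hz ha)
    have hEn : E ≤ normalizer (B.part hy' : Set G) := fun z hz => B.part_normalizer hy'
      ((B.beta_mem hβ (hAll a ha ha1) hy' hya).2 (hAK (hEA hz)))
    have hgen := CfsgLib.coprime_generated_by_centralizers hnc hEn
      (B.part_coprime hy' (Q.2.to_le (hEA.trans (B.toQ.locA_le Q)))).symm
    have hbot : (⨆ e ∈ {e : G | e ∈ E ∧ e ≠ 1}, B.part hy' ⊓ centralizer {e}) = ⊥ := by
      refine le_bot_iff.mp (iSup₂_le fun e he => fun w hw => mem_bot.mpr ?_)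
      obtain ⟨hwP, hwe⟩ := mem_inf.mp hw
      by_contra hw1
      have heL : e ∈ centralizer ({y'} : Set G) := by
        rw [← B.cent_eq hy' (B.reg_of_part hy' hwP hw1) hwP.1]
        exact mem_cent_symm hwe
      obtain ⟨p', hp', z', hz', hez⟩ := CfsgLib.mem_sup_of_le_normalizer
        (zpowers_le.mpr (centralizer_le_normalizer _ (mem_centralizer_iff.mpr fun u hu =>
          B.toQ.locA_comm Q ((zpowers_le.mpr hb) hu) hc))) he.1
      obtain ⟨j, rfl⟩ := hz'
      by_cases hcj : c ^ j = 1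
      · simp only [hcj, mul_one] at hez
        subst hez
        obtain ⟨i, rfl⟩ := hp'
        have hz : zpowers (b ^ i) = zpowers b := eq_of_le_of_card_ge (zpowers_le.mpr ⟨i, rfl⟩) (by
          rw [Nat.card_zpowers, Nat.card_zpowers, hAo hb hb1, hAo (zpow_mem hb i) he.2])
        exact hbL (zpowers_le.mpr heL (hz.symm ▸ mem_zpowers b))
      · have h1 : c ^ j ∈ W := by
          rw [show c ^ j = p'⁻¹ * e by rw [← hez]; group]
          exact mul_mem (mem_sup_right (inv_mem hp')) (mem_sup_left (mem_inf.mpr ⟨hEA he.1, heL⟩))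
        have hc1 : c ≠ 1 := fun e0 => hcn (e0 ▸ one_mem _)
        have hz : zpowers (c ^ j) = zpowers c := eq_of_le_of_card_ge (zpowers_le.mpr ⟨j, rfl⟩) (by
          rw [Nat.card_zpowers, Nat.card_zpowers, hAo hc hc1, hAo (zpow_mem hc j) hcj])
        exact hcn (zpowers_le.mpr h1 (hz.symm ▸ mem_zpowers c))
    exact hy'.1 (mem_bot.mp (hbot ▸ hgen.symm ▸ B.self_mem_part hy'))
  -- a second block
  obtain ⟨b0, hb0, hb01, hb0K⟩ : ∃ b ∈ A, b ≠ 1 ∧ centralizer ({b} : Set G) ≠ K := by
    by_contra hc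
    push Not at hc
    refine hnotM fun m hm => B.mem_of_normalizer hβ hv (mem_normalizer_iff.mpr fun z => ?_)
    have e := hc _ ((mem_normalizer_iff.mp hm v).mp hvA) fun e => hv1 (conj_eq_one_iff.mp e)
    show z ∈ K ↔ m * z * m⁻¹ ∈ K
    conv_rhs => rw [← e]
    rw [hK]
    simp only [mem_cent]
    rw [show m * z * m⁻¹ * (m * v * m⁻¹) = m * (z * v) * m⁻¹ by group,
      show m * v * m⁻¹ * (m * z * m⁻¹) = m * (v * z) * m⁻¹ by group]
    exact ⟨fun h => by rw [h], fun h => mul_left_cancel (mul_right_cancel h)⟩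
  have hother : ∀ a ∈ A, a ≠ 1 → ∃ b ∈ A, b ≠ 1 ∧ centralizer ({b} : Set G) ≠ centralizer ({a} : Set G) := by
    intro a _ _
    by_cases e : centralizer ({a} : Set G) = K
    · exact ⟨b0, hb0, hb01, e.symm ▸ hb0K⟩
    · exact ⟨v, hvA, hv1, fun h => e h.symm⟩
  have hAcomm : ∀ {U W : Subgroup G}, U ≤ A → W ≤ A → U ≤ normalizer (W : Set G) := fun hU hW =>
    fun u hu => centralizer_le_normalizer _ (mem_centralizer_iff.mpr fun w hw => B.toQ.locA_comm Q (hW hw) (hU hu))
  -- each block has order `q` and `A` order `q ^ 2`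
  have hsize : ∀ a ∈ A, a ≠ 1 → ∀ y', Reg' N q y' → y' ∈ centralizer ({a} : Set G) →
      A ⊓ centralizer ({y'} : Set G) = zpowers a ∧ Nat.card A = q ^ 2 := by
    intro a ha ha1 y' hy' hya
    obtain ⟨b, hb, hb1, hbne⟩ := hother a ha ha1
    obtain ⟨y'', hy'', hyb⟩ := B.exists_reg (hAll b hb hb1)
    set H := A ⊓ centralizer ({y'} : Set G)
    set H' := A ⊓ centralizer ({y''} : Set G)
    have hbH : b ∉ centralizer ({y'} : Set G) := fun h => hbne ((hblock ha ha1 hy' hya hb hb1).mp h)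
    have haH' : a ∉ centralizer ({y''} : Set G) := fun h => hbne ((hblock hb hb1 hy'' hyb ha ha1).mp h).symm
    have h1 : Nat.card A ∣ Nat.card (zpowers b) * Nat.card H :=
      (card_dvd_of_le (hidx ha ha1 hy' hya hb hbH)).trans
        (CfsgLib.Signalizer.card_sup_dvd (hAcomm (zpowers_le.mpr hb) inf_le_left))
    have h2 : Nat.card A ∣ Nat.card (zpowers a) * Nat.card H' :=
      (card_dvd_of_le (hidx hb hb1 hy'' hyb ha haH')).trans
        (CfsgLib.Signalizer.card_sup_dvd (hAcomm (zpowers_le.mpr ha) inf_le_left))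
    rw [Nat.card_zpowers, hAo hb hb1] at h1
    rw [Nat.card_zpowers, hAo ha ha1] at h2
    have hint : ∀ x ∈ H, x ∈ H' → x = 1 := fun x hx hx' => by
      by_contra hx1
      exact hbne ((((hblock ha ha1 hy' hya hx.1 hx1).mp hx.2)).symm.trans ((hblock hb hb1 hy'' hyb hx.1 hx1).mp hx'.2)).symm
    have h3 : Nat.card H * Nat.card H' ≤ Nat.card A := by
      rw [← Nat.card_prod]
      refine Nat.card_le_card_of_injective
        (fun x : H × H' => (⟨(x.1 : G) * x.2, mul_mem x.1.2.1 x.2.2.1⟩ : A)) fun x z e => ?_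
      have e' : (x.1 : G) * x.2 = z.1 * z.2 := congrArg Subtype.val e
      have h4 : (z.1 : G)⁻¹ * x.1 = z.2 * (x.2 : G)⁻¹ := by
        rw [eq_mul_inv_iff_mul_eq, mul_assoc, e', inv_mul_cancel_left]
      have h5 := hint _ (mul_mem (inv_mem z.1.2) x.1.2) (h4 ▸ mul_mem z.2.2 (inv_mem x.2.2))
      have e1 : x.1 = z.1 := Subtype.ext (inv_mul_eq_one.mp h5).symm
      exact Prod.ext e1 (Subtype.ext (mul_left_cancel (a := (x.1 : G)) (e'.trans (by rw [e1]))))
    have haH : zpowers a ≤ H := zpowers_le.mpr ⟨ha, mem_cent_symm hya⟩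
    have hbH' : zpowers b ≤ H' := zpowers_le.mpr ⟨hb, mem_cent_symm hyb⟩
    have hHq : Nat.card H ≤ q := by
      have h4 := Nat.le_of_dvd (Nat.mul_pos hqp.pos Nat.card_pos) h2
      exact Nat.le_of_mul_le_mul_right (h3.trans h4) Nat.card_pos
    have e : zpowers a = H := eq_of_le_of_card_ge haH (by rw [Nat.card_zpowers, hAo ha ha1]; exact hHq)
    have hHc : Nat.card H = q := by rw [← e, Nat.card_zpowers, hAo ha ha1]
    refine ⟨e.symm, le_antisymm ?_ ?_⟩
    · rw [hHc] at h1
      exact (Nat.le_of_dvd (Nat.mul_pos hqp.pos hqp.pos) h1).trans (le_of_eq (pow_two q).symm)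
    · rw [pow_two]
      have h4 := card_dvd_of_le hbH'
      rw [Nat.card_zpowers, hAo hb hb1] at h4
      exact (Nat.mul_le_mul (le_of_eq hHc.symm) (Nat.le_of_dvd Nat.card_pos h4)).trans h3
  have hline : ∀ {a b : G}, a ∈ A → a ≠ 1 → b ∈ A → b ≠ 1 → centralizer ({b} : Set G) = centralizer ({a} : Set G) →
      b ∈ zpowers a := fun {a b} ha ha1 hb hb1 e => by
    obtain ⟨y', hy', hya⟩ := B.exists_reg (hAll a ha ha1)
    rw [← (hsize a ha ha1 y' hy' hya).1]
    exact ⟨hb, (hblock ha ha1 hy' hya hb hb1).mpr e⟩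
  -- the normalizer permutes the blocks transitively
  have hcentconj : ∀ {m a b : G}, centralizer ({a} : Set G) = centralizer ({b} : Set G) →
      centralizer ({m * a * m⁻¹} : Set G) = centralizer ({m * b * m⁻¹} : Set G) := fun {m a b} e => by
    ext z
    have h1 := Subgroup.ext_iff.mp e (m⁻¹ * z * m)
    simp only [mem_cent] at h1 ⊢
    have key : ∀ c : G, (m⁻¹ * z * m * c = c * (m⁻¹ * z * m) ↔ z * (m * c * m⁻¹) = m * c * m⁻¹ * z) := fun c => by
      constructor
      · intro h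
        calc z * (m * c * m⁻¹) = m * (m⁻¹ * z * m * c) * m⁻¹ := by group
          _ = m * (c * (m⁻¹ * z * m)) * m⁻¹ := by rw [h]
          _ = _ := by group
      · intro h
        calc m⁻¹ * z * m * c = m⁻¹ * (z * (m * c * m⁻¹)) * m := by group
          _ = m⁻¹ * (m * c * m⁻¹ * z) * m := by rw [h]
          _ = _ := by group
    rwa [key, key] at h1
  have htrans : ∀ a ∈ A, a ≠ 1 → ∃ m ∈ M, centralizer ({a} : Set G) = centralizer ({m * v * m⁻¹} : Set G) := by
    intro a ha ha1
    have hca := hAll a ha ha1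
    obtain ⟨R, hR⟩ := exists_sylow_le' (x := a) (r := q)
      (by rw [hca, B.side.fac_eq hqp B.q_dvd]; exact Nat.ordProj_dvd N q)
    obtain ⟨g, hg⟩ := MulAction.exists_smul_eq G R Q
    set a' := g * a * g⁻¹
    have ha'Q : (Q : Subgroup G) ≤ centralizer ({a'} : Set G) := by
      intro u hu
      rw [← hg, Sylow.coe_subgroup_smul] at hu
      obtain ⟨c, hc, rfl⟩ := hu
      rw [mem_cent]
      show g * c * g⁻¹ * (g * a * g⁻¹) = g * a * g⁻¹ * (g * c * g⁻¹)
      rw [show g * c * g⁻¹ * (g * a * g⁻¹) = g * (c * a) * g⁻¹ by group, mem_cent.mp (hR hc)]; group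
    have ha'A : a' ∈ A := B.toQ.central_mem_locA Q (by rw [conj_pow, ((B.toQ.mem_locA Q).mp ha).2, mul_one, mul_inv_cancel]) ha'Q
    obtain ⟨m1, hm1, hma1⟩ := B.toQ.control Q (S := {a'}) (Set.singleton_subset_iff.mpr (B.toQ.locA_le Q ha'A)) (g := g⁻¹)
      (by rintro _ rfl; rw [show g⁻¹ * a' * g⁻¹⁻¹ = a by simp only [a']; group]; exact B.toQ.locA_le Q ha)
    obtain ⟨h, hh⟩ := B.exists_conj_cent_eq hβ hv ((cc_conj g a).trans hca)
    have hvQ : (Q : Subgroup G) ≤ centralizer ({h * v * h⁻¹} : Set G) := hh ▸ ha'Q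
    have hhA : h * v * h⁻¹ ∈ A :=
      B.toQ.central_mem_locA Q (by rw [conj_pow, ((B.toQ.mem_locA Q).mp hvA).2, mul_one, mul_inv_cancel]) hvQ
    obtain ⟨m2, hm2, hma2⟩ := B.toQ.control Q (S := {v}) (Set.singleton_subset_iff.mpr (B.toQ.locA_le Q hvA)) (g := h)
      (by rintro _ rfl; exact B.toQ.locA_le Q hhA)
    refine ⟨m1 * m2, mul_mem hm1 hm2, ?_⟩
    have e1 : a = m1 * a' * m1⁻¹ := by rw [← hma1 a' rfl]; simp only [a']; group
    rw [e1, show m1 * m2 * v * (m1 * m2)⁻¹ = m1 * (m2 * v * m2⁻¹) * m1⁻¹ by group]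
    refine hcentconj ?_
    rw [← hma2 v rfl, hh]
  -- counting
  set M0 := K.subgroupOf M
  let φ : (M ⧸ M0) × {z : zpowers v // z ≠ 1} → {a : A // a ≠ 1} := fun x =>
    ⟨⟨(x.1.out : G) * (x.2.1 : G) * (x.1.out : G)⁻¹,
      (mem_normalizer_iff.mp x.1.out.2 _).mp (zpowers_le.mpr hvA x.2.1.2)⟩,
      fun e => x.2.2 (Subtype.ext (conj_eq_one_iff.mp (congrArg Subtype.val e)))⟩
  have hgen : ∀ {z : G}, z ∈ zpowers v → z ≠ 1 → centralizer ({z} : Set G) = K := fun {z} hz hz1 => by
    have hle : K ≤ centralizer ({z} : Set G) := by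
      obtain ⟨i, rfl⟩ := hz
      exact fun u hu => mem_cent.mpr ((show Commute u v from mem_cent.mp hu).zpow_right i).eq
    exact (eq_of_le_of_card_ge hle ((hAll z (zpowers_le.mpr hvA hz) hz1).trans hv.symm).le).symm
  have hinj : Function.Injective φ := by
    intro x x' e
    have e' : (x.1.out : G) * (x.2.1 : G) * (x.1.out : G)⁻¹ = (x'.1.out : G) * (x'.2.1 : G) * (x'.1.out : G)⁻¹ :=
      congrArg (fun a : {a : A // a ≠ 1} => ((a.1 : A) : G)) e
    set m := (x.1.out : G)
    set m' := (x'.1.out : G)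
    have hne : ∀ z : {z : zpowers v // z ≠ 1}, (z.1 : G) ≠ 1 := fun z h => z.2 (Subtype.ext h)
    have h1 : centralizer ({m * v * m⁻¹} : Set G) = centralizer ({m' * v * m'⁻¹} : Set G) := by
      rw [hcentconj (m := m) (hgen x.2.1.2 (hne _)).symm, hcentconj (m := m') (hgen x'.2.1.2 (hne _)).symm, e']
    have h2 : m'⁻¹ * m ∈ K := by
      have h3 := hcentconj (m := m'⁻¹) h1
      rw [show m'⁻¹ * (m' * v * m'⁻¹) * m'⁻¹⁻¹ = v by group,
        show m'⁻¹ * (m * v * m⁻¹) * m'⁻¹⁻¹ = m'⁻¹ * m * v * (m'⁻¹ * m)⁻¹ by group] at h3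
      refine B.mem_of_normalizer hβ hv (mem_normalizer_iff.mpr fun z => ?_)
      show z ∈ K ↔ m'⁻¹ * m * z * (m'⁻¹ * m)⁻¹ ∈ K
      conv_rhs => rw [hK, ← h3]
      rw [hK]
      simp only [mem_cent]
      set c := m'⁻¹ * m
      rw [show c * z * c⁻¹ * (c * v * c⁻¹) = c * (z * v) * c⁻¹ by group,
        show c * v * c⁻¹ * (c * z * c⁻¹) = c * (v * z) * c⁻¹ by group]
      exact ⟨fun h => by rw [h], fun h => mul_left_cancel (mul_right_cancel h)⟩
    have h4 : x.1 = x'.1 := by
      rw [← Quotient.out_eq x.1, ← Quotient.out_eq x'.1]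
      exact (QuotientGroup.eq.mpr (mem_subgroupOf.mpr h2)).symm
    refine Prod.ext h4 (Subtype.ext (Subtype.ext ?_))
    have hm : m = m' := congrArg (fun w : M ⧸ M0 => (w.out : G)) h4
    rw [hm] at e'
    exact mul_left_cancel (mul_right_cancel e')
  have hsur : Function.Surjective φ := by
    rintro ⟨⟨a, ha⟩, ha1⟩
    have ha1' : a ≠ 1 := fun e => ha1 (Subtype.ext e)
    obtain ⟨m, hm, he⟩ := htrans a ha ha1'
    set o : M := (QuotientGroup.mk (⟨m, hm⟩ : M) : M ⧸ M0).out
    have hoK : m⁻¹ * (o : G) ∈ K := by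
      have := QuotientGroup.eq.mp (Quotient.out_eq (QuotientGroup.mk (⟨m, hm⟩ : M) : M ⧸ M0)).symm
      exact mem_subgroupOf.mp this
    have hov : (o : G) * v * (o : G)⁻¹ = m * v * m⁻¹ := by
      have h1 := mem_cent.mp hoK
      calc (o : G) * v * (o : G)⁻¹ = m * (m⁻¹ * o * v) * (o : G)⁻¹ := by group
        _ = m * (v * (m⁻¹ * o)) * (o : G)⁻¹ := by rw [h1]
        _ = _ := by group
    set b := (o : G) * v * (o : G)⁻¹
    have hb : b ∈ A := (mem_normalizer_iff.mp o.2 v).mp hvA
    have hb1 : b ≠ 1 := fun e => hv1 (conj_eq_one_iff.mp e)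
    obtain ⟨i, hi⟩ := hline hb hb1 ha ha1' (hov ▸ he)
    refine ⟨⟨QuotientGroup.mk (⟨m, hm⟩ : M), ⟨⟨v ^ i, ⟨i, rfl⟩⟩, fun e => ha1' ?_⟩⟩, Subtype.ext (Subtype.ext ?_)⟩
    · have e0 : v ^ i = 1 := congrArg Subtype.val e
      simp only [b, conj_zpow, e0, mul_one, mul_inv_cancel] at hi
      exact hi.symm
    · show (o : G) * v ^ i * (o : G)⁻¹ = a
      rw [← conj_zpow]; exact hi
  have hcount := Nat.card_eq_of_bijective φ ⟨hinj, hsur⟩
  obtain ⟨y', hy', hyv'⟩ := B.exists_reg hv
  have hA2 := (hsize v hvA hv1 y' hy' hyv').2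
  have hsub : ∀ (H : Subgroup G), Nat.card {z : H // z ≠ 1} = Nat.card H - 1 := fun H => by
    haveI := Fintype.ofFinite H
    rw [Nat.card_eq_fintype_card, Nat.card_eq_fintype_card, Fintype.card_subtype_compl,
      Fintype.card_subtype_eq]
  rw [Nat.card_prod, hsub, hsub, hA2, Nat.card_zpowers, hvo] at hcount
  have h2 : 2 ∣ Nat.card (M ⧸ M0) := by
    have hq2 := hqp.two_le
    obtain ⟨e, he⟩ : ∃ e, q = e + 1 := ⟨q - 1, by omega⟩
    have h3 : Nat.card (M ⧸ M0) * e = (e + 2) * e := by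
      have : q ^ 2 - 1 = (e + 2) * e := by
        subst he
        rw [show (e + 1) ^ 2 = (e + 2) * e + 1 by ring]
        omega
      rw [← this, ← hcount, he]; simp
    have h4 : Nat.card (M ⧸ M0) = e + 2 := Nat.eq_of_mul_eq_mul_right (by omega) h3
    have h5 : ¬ 2 ∣ q := fun h => B.q_ne_two ((Nat.prime_dvd_prime_iff_eq Nat.prime_two hqp).mp h).symm
    omega
  exact Nat.not_even_iff_odd.mpr (B.toQ.odd_locM Q hA0)
    (even_iff_two_dvd.mpr (h2.trans M0.card_quotient_dvd_card))

end Pure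

/-- The odd side is not pure. -/
theorem Pure.false_of_simple [IsSimpleGroup G] {t : G} {N D q : ℕ} (B : Pure t N D q)
    (hna : ¬ IsMulCommutative G) : False := by
  haveI := Fact.mk B.hq
  obtain ⟨v0, hv01, hv0⟩ := B.side.exN
  obtain ⟨v, hvo, hv⟩ := B.exists_order_q hv0 hv01
  by_cases hβ : B.Beta
  · obtain ⟨Q, hQ⟩ := exists_sylow_le' (x := v) (r := q)
      (by rw [hv, B.side.fac_eq B.hq B.q_dvd]; exact Nat.ordProj_dvd N q)
    exact B.not_beta hβ hna Q hv hvo hQ
  · rw [Pure.Beta] at hβ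
    push Not at hβ
    obtain ⟨w, hw, hbad⟩ := hβ
    have hw1 : w ≠ 1 := fun e => by
      have h : cc w = Nat.card G := by
        rw [e]
        exact (congrArg (fun H : Subgroup G => Nat.card H) (eq_top_iff.mpr fun g _ => mem_cent.mpr (by simp))).trans
          card_top
      have h1 : cc t * N = N := B.side.prod.trans (h.symm.trans hw)
      have h2 : cc t = 1 := (mul_eq_right₀ B.side.N_pos.ne').mp h1
      have := orderOf_dvd_cc (self_mem t)
      rw [h2, B.side.inv] at this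
      omega
    obtain ⟨u, huo, hu⟩ : ∃ u, orderOf u = q ∧ centralizer ({u} : Set G) = centralizer ({w} : Set G) := by
      obtain ⟨k, hk⟩ := B.pure w hw
      have hk0 : k ≠ 0 := fun e => hw1 (by simpa [e] using hk)
      have ho := orderOf_pow_orderOf_div (orderOf_pos w).ne' (hk ▸ dvd_pow_self q hk0)
      refine ⟨_, ho, (eq_of_le_of_card_ge (cent_le_pow w _) ?_).symm⟩
      exact ((B.cc_pow_eq hw fun e => B.hq.one_lt.ne (by rw [← ho, e, orderOf_one])).trans hw.symm).le
    have huN : cc u = N := (congrArg (fun H : Subgroup G => Nat.card H) hu).trans hw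
    obtain ⟨Q, hQ⟩ := exists_sylow_le' (x := u) (r := q)
      (by rw [huN, B.side.fac_eq B.hq B.q_dvd]; exact Nat.ordProj_dvd N q)
    refine B.not_alpha hna Q huN huo hQ fun a ha hra hle => hbad a (hu ▸ ha) hra fun z hz => ?_
    refine hle ?_
    have e : B.core u = B.core w := by
      have : ∀ H H' : Subgroup G, H = H' → (pCore q H).map H.subtype = (pCore q H').map H'.subtype := by
        rintro _ _ rfl; rfl
      exact this _ _ hu
    rw [e]; exact hz

end CfsgLib.ConjRankFour
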