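import Cfsg.Agent.Lib.ConjRankFour.Poset
import Cfsg.Agent.Lib.CharTheory.FrobKernelTI
import Cfsg.Agent.Lib.CharTheory.SmallPartitionChars
import Cfsg.Agent.Lib.CharTheory.Schur
import Cfsg.Agent.Lib.CharTheory.Linear
import Cfsg.Agent.S1534

set_option autoImplicit false
set_option linter.style.haveILetI false

/-!
An odd nilpotent kernel of trivial intersection with a complementary centralizer of an involution.
-/

namespace CfsgLib.ConjRankFour

open Cfsg Subgroup CfsgLib.ConjRankThree CfsgLib.CharTheory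
open scoped ComplexConjugate

universe u

variable {G : Type u} [Group G] [Finite G]

/-- A nilpotent non-abelian subgroup of odd order containing the centralizers of its elements,
with complement the centralizer of an involution, and with a central element. -/
structure Kern (t z : G) (K : Subgroup G) : Prop where
  inv : orderOf t = 2
  cop : (cc t).Coprime (Nat.card K)
  prod : cc t * Nat.card K = Nat.card G
  odd : Odd (Nat.card K)
  nil : Group.IsNilpotent K
  nab : ¬ ∀ a ∈ K, ∀ b ∈ K, a * b = b * a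
  cent : ∀ k ∈ K, k ≠ 1 → centralizer ({k} : Set G) ≤ K
  ti : ∀ g : G, g ∉ normalizer (K : Set G) → ∀ k ∈ K, g * k * g⁻¹ ∈ K → k = 1
  lt : K < normalizer (K : Set G)
  mem : z ∈ K
  ne : z ≠ 1
  central : K ≤ centralizer ({z} : Set G)
  third : ∃ a ∈ K, ∃ b ∈ K, a ≠ 1 ∧ b ≠ 1 ∧ orderOf a ≠ orderOf z ∧ orderOf b ≠ orderOf z ∧ orderOf a ≠ orderOf b

namespace Kern

variable {t z : G} {K : Subgroup G} (P : Kern t z K)
include P

theorem reg {g x : G} (hx : x ∈ K) (h : g⁻¹ * x * g ∈ centralizer ({t} : Set G)) : x = 1 := by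
  have h1 : orderOf x ∣ cc t := by
    have h2 := Subgroup.orderOf_dvd_natCard _ h
    rwa [show g⁻¹ * x * g = MulAut.conj g⁻¹ x by simp, MulEquiv.orderOf_eq] at h2
  exact orderOf_eq_one_iff.mp (Nat.eq_one_of_dvd_coprimes P.cop h1 (Subgroup.orderOf_dvd_natCard _ hx))

theorem not_conj_mem (a : G) : a⁻¹ * t * a ∉ K := fun h => by
  have h1 := Subgroup.orderOf_dvd_natCard _ h
  rw [show a⁻¹ * t * a = MulAut.conj a⁻¹ t by simp, MulEquiv.orderOf_eq, P.inv] at h1
  exact Nat.not_even_iff_odd.mpr P.odd (even_iff_two_dvd.mpr h1)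

theorem card_quot : Nat.card (G ⧸ centralizer ({t} : Set G)) = Nat.card K := by
  rw [← Subgroup.index_eq_card]
  refine Nat.eq_of_mul_eq_mul_left (cc_pos t) ?_
  exact (centralizer ({t} : Set G)).card_mul_index.trans P.prod.symm

theorem exists_factor (a : G) : ∃ k ∈ K, k⁻¹ * a ∈ centralizer ({t} : Set G) := by
  obtain ⟨x, hx⟩ := ((Nat.bijective_iff_injective_and_card
    (fun x : K => ((x : G) : G ⧸ centralizer ({t} : Set G)))).mpr ⟨fun x y h => by
      have h' := QuotientGroup.eq.mp h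
      refine Subtype.ext (inv_mul_eq_one.mp (P.reg (g := 1) (mul_mem (inv_mem x.2) y.2) ?_))
      simpa using h', P.card_quot.symm⟩).2 (a : G ⧸ centralizer ({t} : Set G))
  exact ⟨x, x.2, QuotientGroup.eq.mp hx⟩

/-- All products of conjugates of `z` and `t` are conjugate. -/
theorem isConj_prod (a b : G) : IsConj (z * t) (a * z * a⁻¹ * (b * t * b⁻¹)) := by
  obtain ⟨k, hk, hc⟩ := P.exists_factor (a⁻¹ * b)
  set c := k⁻¹ * (a⁻¹ * b) with hce
  refine isConj_iff.mpr ⟨a * k, ?_⟩
  have hkz : k * z = z * k := mem_cent.mp (P.central hk)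
  have hct : c * t * c⁻¹ = t := by rw [mem_cent.mp hc, mul_inv_cancel_right]
  have hb : b = a * k * c := by rw [hce]; group
  have e1 : a * k * z * (a * k)⁻¹ = a * z * a⁻¹ := by
    calc a * k * z * (a * k)⁻¹ = a * (k * z) * k⁻¹ * a⁻¹ := by group
      _ = a * (z * k) * k⁻¹ * a⁻¹ := by rw [hkz]
      _ = _ := by group
  have e2 : b * t * b⁻¹ = a * k * t * (a * k)⁻¹ := by
    conv_rhs => rw [← hct]
    rw [hb]; group
  rw [e2, ← e1]; group

theorem key [Fintype G] {χ : G → ℂ} (hχ : IsIrrCharacter G χ) : χ z * χ t = χ 1 * χ (z * t) := by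
  have hne : χ 1 ≠ 0 := irr_ne_zero hχ
  have h := sum_conj_mul_char hχ z t
  have hc : ∀ a : G, χ (a * z * a⁻¹ * t) = χ (z * t) := fun a => by
    obtain ⟨g, hg⟩ := isConj_iff.mp (P.isConj_prod a 1)
    simp only [one_mul, inv_one, mul_one] at hg
    rw [← hg, isClassFunction_irr hχ]
  rw [Finset.sum_congr rfl fun a _ => hc a, Finset.sum_const, Finset.card_univ, nsmul_eq_mul,
    ← Nat.card_eq_fintype_card, eq_div_iff hne] at h
  exact (mul_left_cancel₀ (Nat.cast_ne_zero.mpr Nat.card_pos.ne')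
    ((mul_assoc _ _ _).symm.trans h)).symm.trans (mul_comm _ _)

variable [IsSimpleGroup G]

theorem not_conj_prod : ¬ IsConj z (z * t) := by
  intro h0
  have step : ∀ u g : G, IsConj z u → IsConj z (u * (g * t * g⁻¹)) := fun u g hu => by
    obtain ⟨a, rfl⟩ := isConj_iff.mp hu
    exact h0.trans (P.isConj_prod a g)
  let H : Subgroup G :=
    { carrier := {g | ∀ u, IsConj z u ↔ IsConj z (u * g)}
      one_mem' := fun u => by simp
      mul_mem' := fun {g g'} hg hg' u => by rw [hg u, hg' (u * g), mul_assoc]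
      inv_mem' := fun {g} hg u => by rw [hg (u * g⁻¹), inv_mul_cancel_right] }
  have hN : normalClosure ({t} : Set G) ≤ H := by
    refine (closure_le _).mpr fun y hy u => ?_
    obtain ⟨s, hs, hsy⟩ := Group.mem_conjugatesOfSet_iff.mp hy
    rw [Set.mem_singleton_iff.mp hs] at hsy
    obtain ⟨g, rfl⟩ := isConj_iff.mp hsy
    refine ⟨fun hu => step u g hu, fun hu => ?_⟩
    have ht2 : t * t = 1 := by rw [← pow_two, ← P.inv, pow_orderOf_eq_one]
    have e : u * (g * t * g⁻¹) * (g * t * g⁻¹) = u := by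
      calc u * (g * t * g⁻¹) * (g * t * g⁻¹) = u * g * (t * t) * g⁻¹ := by group
        _ = u := by rw [ht2]; group
    have := step _ g hu
    rwa [e] at this
  rcases (normalClosure_normal (s := ({t} : Set G))).eq_bot_or_eq_top with e | e
  · have : t ∈ normalClosure ({t} : Set G) := subset_normalClosure rfl
    rw [e, mem_bot] at this
    simpa [this] using P.inv
  · have h1 := ((hN (e ▸ mem_top z⁻¹)) z).mp (IsConj.refl z)
    rw [mul_inv_cancel, isConj_one_left] at h1
    exact P.ne h1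

/-- Irreducible characters vanish on the involution or are constant on the kernel. -/
theorem zero_or_const [Fintype G] {ψ : G → ℂ} (hψ : IsIrrCharacter G ψ) :
    ψ t = 0 ∨ ∀ a ∈ K, ∀ b ∈ K, a ≠ 1 → b ≠ 1 → ψ a = ψ b := by
  classical
  letI : Fintype (normalizer (K : Set G)) := Fintype.ofFinite _
  set L := normalizer (K : Set G) with hL
  set KL := K.subgroupOf L with hKL'
  haveI : KL.Normal := Subgroup.normal_in_normalizer
  letI : Fintype KL := Fintype.ofFinite _
  have hC : ∀ k ∈ KL, k ≠ 1 → centralizer ({k} : Set L) ≤ KL := fun k hk hk1 g hg =>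
    mem_subgroupOf.mpr (P.cent _ (mem_subgroupOf.mp hk) (fun e => hk1 (Subtype.ext e))
      (mem_cent.mpr (congrArg Subtype.val (mem_centralizer_singleton_iff.mp hg))))
  have hKL : KL < ⊤ := lt_top_iff_ne_top.mpr fun e => P.lt.not_ge (subgroupOf_eq_top.mp e)
  have hTI : ∀ g : G, g ∉ L → ∀ x ∈ (Subtype.val '' (KL : Set L) : Set G),
      g * x * g⁻¹ ∈ (Subtype.val '' (KL : Set L) : Set G) → x = 1 := by
    rintro g hg _ ⟨x, hx, rfl⟩ ⟨s, hs, e⟩
    exact P.ti g hg _ (mem_subgroupOf.mp hx) (e ▸ mem_subgroupOf.mp hs)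
  set TS := Finset.univ.filter fun χ : IrrCharacter L => ¬ ∀ n ∈ KL, (χ : L → ℂ) n = (χ : L → ℂ) 1 with hTS
  have hmemS : ∀ χ ∈ TS, (χ : L → ℂ) ∈ FrobKernelTI.S KL := fun χ hχ => ⟨χ.2, by
    have := (Finset.mem_filter.mp hχ).2; push Not at this; exact this⟩
  -- orthogonality of columns on the kernel
  have hortho : ∀ x y : L, x ∈ KL → y ∈ KL → ∑ χ ∈ TS, (χ : L → ℂ) x * conj ((χ : L → ℂ) y) =
      (if IsConj x y then (Nat.card (centralizer ({x} : Set L)) : ℂ) else 0) - KL.index := by
    intro x y hx hy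
    rw [← sum_irr_mul_conj x y, eq_sub_iff_add_eq', hTS]
    conv_rhs => rw [← Finset.sum_filter_add_sum_filter_not Finset.univ
      (fun χ : IrrCharacter L => ∀ n ∈ KL, (χ : L → ℂ) n = (χ : L → ℂ) 1)]
    congr 1
    rw [← sum_degree_sq_kernel KL, Nat.cast_sum, Finset.sum_subtype
      (p := fun χ : IrrCharacter L => ∀ n ∈ KL, (χ : L → ℂ) n = (χ : L → ℂ) 1) _ (fun χ => by simp)]
    refine Finset.sum_congr rfl fun χ _ => ?_
    rw [χ.2 x hx, χ.2 y hy, (charDegree_spec' χ.1.2).1, Complex.conj_natCast]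
    push_cast; ring
  have hne : ∀ {x y : L}, orderOf (x : G) ≠ orderOf (y : G) → ¬ IsConj x y := fun {x y} h hc => by
    obtain ⟨c, hc'⟩ := isConj_iff.mp hc
    refine h ?_
    rw [Subgroup.orderOf_coe, Subgroup.orderOf_coe, ← hc']
    exact ((MulAut.conj c).orderOf_eq x).symm
  obtain ⟨a, ha, b, hb, ha1, hb1, haz, hbz, hab⟩ := P.third
  set zL : L := ⟨z, Subgroup.le_normalizer P.mem⟩ with hzL
  set aL : L := ⟨a, Subgroup.le_normalizer ha⟩ with haL
  set bL : L := ⟨b, Subgroup.le_normalizer hb⟩ with hbL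
  have hzK : zL ∈ KL := mem_subgroupOf.mpr P.mem
  have haK : aL ∈ KL := mem_subgroupOf.mpr ha
  have hbK : bL ∈ KL := mem_subgroupOf.mpr hb
  have h1K : (1 : L) ∈ KL := one_mem _
  have ho1 : ∀ {x : G}, x ≠ 1 → orderOf ((1 : L) : G) ≠ orderOf x := fun hx e => by
    rw [OneMemClass.coe_one, orderOf_one] at e
    exact hx (orderOf_eq_one_iff.mp e.symm)
  have hindex : (KL.index : ℂ) ≠ 0 := Nat.cast_ne_zero.mpr Subgroup.index_ne_zero_of_finite
  -- coherence
  haveI : Group.IsNilpotent K := P.nil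
  obtain ⟨⟨τ, hstar, hext⟩, htwo⟩ : (∃ τ : (L → ℂ) → (G → ℂ), IsLinearIsometryOn (zspan (FrobKernelTI.S KL)) τ ∧
      ∀ α ∈ zspanOn (FrobKernelTI.S KL) ({1}ᶜ : Set L), τ α = indFun L α) ∧
      ∃ χ ∈ FrobKernelTI.S KL, ∃ ξ ∈ FrobKernelTI.S KL, χ ≠ ξ := by
    refine ⟨?_, ?_⟩
    · have hS : {χ : L → ℂ | IsIrrCharacter L χ ∧ ∃ k : L, (k : G) ∈ K ∧ χ k ≠ χ 1} = FrobKernelTI.S KL := by
        ext χ
        simp only [FrobKernelTI.S, hKL', Subgroup.mem_subgroupOf]
      rcases Cfsg.Agent.S1534.result K (fun e => P.ne (mem_bot.mp (e ▸ P.mem))) P.nil P.ti P.lt P.cent with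
        ⟨-, -, p, -, hel⟩ | ⟨h2, -⟩ | h
      · exfalso
        refine P.nab fun x hx y hy => ?_
        haveI := hel.1
        exact congrArg Subtype.val (mul_comm' (⟨x, hx⟩ : K) ⟨y, hy⟩)
      · exfalso
        rcases Nat.eq_zero_or_pos ((Nat.card G).factorization 2) with e | e
        · rw [e, pow_zero, Subgroup.card_eq_one] at h2
          exact P.ne (mem_bot.mp (h2 ▸ P.mem))
        · exact Nat.not_even_iff_odd.mpr P.odd (h2 ▸ (Nat.even_pow.mpr ⟨even_two, e.ne'⟩))
      · rw [hS] at h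
        exact h.2
    · by_contra hno
      push Not at hno
      have hpos : ∀ x y : L, x ∈ KL → y ∈ KL → ¬ IsConj x y →
          ∑ χ ∈ TS, (χ : L → ℂ) x * conj ((χ : L → ℂ) y) = -(KL.index : ℂ) := fun x y hx hy h => by
        rw [hortho x y hx hy, if_neg h, zero_sub]
      obtain ⟨χ, hχ⟩ : TS.Nonempty := Finset.nonempty_of_ne_empty fun e => hindex (by
        have := hpos 1 zL h1K hzK (hne (ho1 P.ne))
        rw [e, Finset.sum_empty] at this
        exact neg_eq_zero.mp this.symm)
      have hone : ∀ f : IrrCharacter L → ℂ, ∑ ξ ∈ TS, f ξ = f χ := fun f =>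
        Finset.sum_eq_single χ (fun ξ hξ hne' => absurd (Subtype.ext (hno _ (hmemS ξ hξ) _ (hmemS χ hχ))) hne')
          (fun h => absurd hχ h)
      have e1 := hpos 1 aL h1K haK (hne (ho1 ha1))
      have e2 := hpos 1 bL h1K hbK (hne (ho1 hb1))
      have e3 := hpos aL bL haK hbK (hne hab)
      rw [hone] at e1 e2 e3
      have hd : (χ : L → ℂ) 1 ≠ 0 := irr_ne_zero χ.2
      have e4 : (χ : L → ℂ) aL = (χ : L → ℂ) bL :=
        RingHom.injective _ (mul_left_cancel₀ hd (e1.trans e2.symm))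
      rw [← e4, Complex.mul_conj] at e3
      have e5 := congrArg Complex.re e3
      simp only [Complex.ofReal_re, Complex.neg_re, Complex.natCast_re] at e5
      have := Complex.normSq_nonneg ((χ : L → ℂ) aL)
      have hpos' : (0 : ℝ) < KL.index := Nat.cast_pos.mpr (Nat.pos_of_ne_zero Subgroup.index_ne_zero_of_finite)
      linarith
  by_cases hexc : ∃ χ ∈ FrobKernelTI.S KL, ψ = τ χ ∨ ψ = -τ χ
  swap
  · refine Or.inr fun x hx y hy hx1 hy1 => ?_
    by_contra hxy
    exact hexc ((FrobKernelTI.exceptional_iff L KL hC hKL hTI hstar hext htwo hψ).mpr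
      ⟨⟨x, Subgroup.le_normalizer hx⟩, mem_subgroupOf.mpr hx, ⟨y, Subgroup.le_normalizer hy⟩,
        mem_subgroupOf.mpr hy, fun e => hx1 (congrArg Subtype.val e), fun e => hy1 (congrArg Subtype.val e), hxy⟩)
  left
  obtain ⟨χ₀, hχ₀, hψ0⟩ := hexc
  suffices h : τ χ₀ t = 0 by rcases hψ0 with e | e <;> simp [e, h]
  obtain ⟨m, hm⟩ := FrobKernelTI.restriction L KL hC hKL hTI hstar hext
  have hd0 : χ₀ 1 ≠ 0 := irr_ne_zero hχ₀.1
  -- outside the conjugates of the kernel the exceptional characters are proportional to their degrees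
  have hprop : ∀ g : G, (g = 1 ∨ ∀ x : G, x⁻¹ * g * x ∉ K) → ∀ χ ∈ FrobKernelTI.S KL,
      τ χ g = χ 1 * (τ χ₀ g / χ₀ 1) := by
    intro g hg χ hχ
    obtain ⟨d, hd⟩ := FrobKernelTI.degree_nat KL hKL hχ.1
    obtain ⟨d', hd'⟩ := FrobKernelTI.degree_nat KL hKL hχ₀.1
    obtain ⟨hmem, hv⟩ := FrobKernelTI.wdiff L KL hC hKL hTI hstar hext hχ hχ₀ hd hd'
    have h0 : indFun L ((d' : ℤ) • χ - (d : ℤ) • χ₀) g = 0 := by
      rcases hg with rfl | hg
      · rw [indFun_apply_one, hmem.2 1 (by simp), mul_zero]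
      · show (Nat.card L : ℂ)⁻¹ * _ = 0
        rw [Finset.sum_eq_zero fun x _ => ?_, mul_zero]
        by_cases hx : x⁻¹ * g * x ∈ L
        · rw [extendByZero_of_mem _ _ hx]
          have hxK : (⟨_, hx⟩ : L) ∉ KL := fun h => hg x (mem_subgroupOf.mp h)
          simp [FrobKernelTI.vanish KL hC hKL hχ hxK, FrobKernelTI.vanish KL hC hKL hχ₀ hxK]
        · exact extendByZero_of_not_mem _ _ hx
    rw [congrFun hv] at h0
    simp only [Pi.sub_apply, Pi.smul_apply, zsmul_eq_mul, Pi.mul_apply, Pi.intCast_apply, Pi.natCast_apply,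
      Int.cast_natCast] at h0
    rw [mul_div_assoc', eq_div_iff hd0, hd, hd']
    linear_combination h0
  have hkey : ∀ χ ∈ FrobKernelTI.S KL, τ χ z * τ χ t = τ χ 1 * τ χ (z * t) := fun χ hχ => by
    rcases FrobKernelTI.irr_or_neg L KL hC hKL hTI hstar hext hχ with h | h
    · exact P.key h
    · have := P.key h
      simpa using this
  have hcls : ∀ χ ∈ FrobKernelTI.S KL, ∀ x g : G, τ χ (g * x * g⁻¹) = τ χ x := fun χ hχ x g => by
    rcases FrobKernelTI.irr_or_neg L KL hC hKL hTI hstar hext hχ with h | h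
    · exact isClassFunction_irr h x g
    · simpa using isClassFunction_irr h x g
  have ha0 : τ χ₀ 1 / χ₀ 1 ≠ 0 := by
    refine div_ne_zero ?_ hd0
    rcases FrobKernelTI.irr_or_neg L KL hC hKL hTI hstar hext hχ₀ with h | h
    · exact irr_ne_zero h
    · simpa using irr_ne_zero h
  set A := τ χ₀ 1 / χ₀ 1 with hA
  set B := τ χ₀ t / χ₀ 1 with hB
  suffices h : B = 0 by simpa [hB, div_eq_zero_iff, hd0] using h
  set C := (m : ℂ) / (KL.index : ℂ) with hCdef
  have hval : ∀ χ ∈ FrobKernelTI.S KL, ∀ x : L, x ∈ KL → x ≠ 1 → τ χ x = χ x + C * χ 1 := fun χ hχ x hx hx1 => by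
    have := hm χ hχ x hx hx1
    rw [hCdef]
    linear_combination this
  have hz1 : zL ≠ 1 := fun e => P.ne (congrArg Subtype.val e)
  -- the linear relations
  have hrel : ∀ χ ∈ FrobKernelTI.S KL, B * (χ zL + C * χ 1) = A * τ χ (z * t) := fun χ hχ => by
    have h := hkey χ hχ
    rw [hprop 1 (Or.inl rfl) χ hχ, hprop t (Or.inr P.not_conj_mem) χ hχ, ← hA, ← hB,
      show τ χ z = χ zL + C * χ 1 from hval χ hχ zL hzK hz1] at h
    exact mul_left_cancel₀ (irr_ne_zero hχ.1) (by linear_combination h)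
  by_cases hzt : ∀ x : G, x⁻¹ * (z * t) * x ∉ K
  · -- the product is outside
    set κ := A * (τ χ₀ (z * t) / χ₀ 1) - B * C with hκ
    have hlin : ∀ χ ∈ TS, B * (χ : L → ℂ) zL = κ * (χ : L → ℂ) 1 := fun χ hχ => by
      have h := hrel χ (hmemS χ hχ)
      rw [hprop (z * t) (Or.inr hzt) χ (hmemS χ hχ)] at h
      rw [hκ]
      linear_combination h
    have hsum : ∀ y : L, y ∈ KL → B * ((if IsConj zL y then (Nat.card (centralizer ({zL} : Set L)) : ℂ) else 0) - KL.index) =
        κ * ((if IsConj (1 : L) y then (Nat.card (centralizer ({(1 : L)} : Set L)) : ℂ) else 0) - KL.index) := by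
      intro y hy
      rw [← hortho zL y hzK hy, ← hortho 1 y h1K hy, Finset.mul_sum, Finset.mul_sum]
      refine Finset.sum_congr rfl fun χ hχ => ?_
      linear_combination conj ((χ : L → ℂ) y) * hlin χ hχ
    have h1 := hsum aL haK
    rw [if_neg (hne haz.symm), if_neg (hne (ho1 ha1))] at h1
    have h2 := hsum 1 h1K
    rw [if_neg (hne (Ne.symm (ho1 P.ne))), if_pos (IsConj.refl _)] at h2
    have hBκ : B = κ := mul_right_cancel₀ (neg_ne_zero.mpr hindex) (by linear_combination h1)
    have hκ0 : κ * (Nat.card (centralizer ({(1 : L)} : Set L)) : ℂ) = 0 := by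
      rw [hBκ] at h2
      linear_combination -h2
    rw [hBκ]
    exact (mul_eq_zero.mp hκ0).resolve_right (Nat.cast_ne_zero.mpr Nat.card_pos.ne')
  · -- the product is in the kernel
    exfalso
    push Not at hzt
    obtain ⟨g, hg⟩ := hzt
    set k : L := ⟨g⁻¹ * (z * t) * g, Subgroup.le_normalizer hg⟩ with hk
    have hkK : k ∈ KL := mem_subgroupOf.mpr hg
    have hk1 : k ≠ 1 := fun e => by
      have e' : g⁻¹ * (z * t) * g = 1 := congrArg Subtype.val e
      have e'' : z * t = 1 := by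
        calc z * t = g * (g⁻¹ * (z * t) * g) * g⁻¹ := by group
          _ = 1 := by rw [e']; group
      refine P.not_conj_mem 1 ?_
      simpa [eq_inv_of_mul_eq_one_right e''] using inv_mem P.mem
    have hkz : ¬ IsConj zL k := fun h => P.not_conj_prod (by
      have h' : IsConj z (g⁻¹ * (z * t) * g) := by
        obtain ⟨c, hc⟩ := isConj_iff.mp h
        exact isConj_iff.mpr ⟨c, congrArg Subtype.val hc⟩
      exact h'.trans (isConj_iff.mpr ⟨g, by group⟩))
    obtain ⟨y, hyK, hyz, hyk, hy1⟩ : ∃ y : L, y ∈ KL ∧ ¬ IsConj zL y ∧ ¬ IsConj k y ∧ ¬ IsConj (1 : L) y := by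
      by_cases e : orderOf (k : G) = orderOf a
      · exact ⟨bL, hbK, hne hbz.symm, hne (by rw [e]; exact hab), hne (ho1 hb1)⟩
      · exact ⟨aL, haK, hne haz.symm, hne e, hne (ho1 ha1)⟩
    have hlin : ∀ χ ∈ TS, B * (χ : L → ℂ) zL + (B - A) * C * (χ : L → ℂ) 1 = A * (χ : L → ℂ) k := fun χ hχ => by
      have h := hrel χ (hmemS χ hχ)
      have e : τ (χ : L → ℂ) (z * t) = (χ : L → ℂ) k + C * (χ : L → ℂ) 1 := by
        rw [← hval _ (hmemS χ hχ) k hkK hk1]
        have := hcls _ (hmemS χ hχ) (g⁻¹ * (z * t) * g) g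
        rw [show g * (g⁻¹ * (z * t) * g) * g⁻¹ = z * t by group] at this
        exact this
      rw [e] at h
      linear_combination h
    set D := (B - A) * C
    have hsum : ∀ y : L, y ∈ KL → B * ((if IsConj zL y then (Nat.card (centralizer ({zL} : Set L)) : ℂ) else 0) - KL.index) +
        D * ((if IsConj (1 : L) y then (Nat.card (centralizer ({(1 : L)} : Set L)) : ℂ) else 0) - KL.index) =
        A * ((if IsConj k y then (Nat.card (centralizer ({k} : Set L)) : ℂ) else 0) - KL.index) := by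
      intro y hy
      rw [← hortho zL y hzK hy, ← hortho 1 y h1K hy, ← hortho k y hkK hy, Finset.mul_sum, Finset.mul_sum,
        Finset.mul_sum, ← Finset.sum_add_distrib]
      refine Finset.sum_congr rfl fun χ hχ => ?_
      linear_combination conj ((χ : L → ℂ) y) * hlin χ hχ
    have h1 := hsum y hyK
    rw [if_neg hyz, if_neg hy1, if_neg hyk] at h1
    have h2 := hsum 1 h1K
    rw [if_neg (hne (Ne.symm (ho1 P.ne))), if_pos (IsConj.refl _),
      if_neg (fun h => hk1 (isConj_one_left.mp h))] at h2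
    have h3 := hsum k hkK
    rw [if_neg hkz, if_neg (fun h => hk1 (isConj_one_right.mp h)), if_pos (IsConj.refl _)] at h3
    have hD : D * (Nat.card (centralizer ({(1 : L)} : Set L)) : ℂ) = 0 := by linear_combination h2 - h1
    have hD0 : D = 0 := (mul_eq_zero.mp hD).resolve_right (Nat.cast_ne_zero.mpr Nat.card_pos.ne')
    have hAk : A * (Nat.card (centralizer ({k} : Set L)) : ℂ) = 0 := by
      rw [hD0] at h1 h3
      linear_combination h1 - h3
    exact ha0 ((mul_eq_zero.mp hAk).resolve_right (Nat.cast_ne_zero.mpr Nat.card_pos.ne'))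

/-- The involution fixes one coset of its centralizer. -/
theorem fix_one [Fintype G] :
    Nat.card (MulAction.fixedBy (G ⧸ centralizer ({t} : Set G)) t) = 1 := by
  classical
  haveI : Fintype (G ⧸ centralizer ({t} : Set G)) := Fintype.ofFinite _
  letI : Fintype K := Fintype.ofFinite _
  set X := G ⧸ centralizer ({t} : Set G) with hX
  set π := SmallPartitionChars.fixChar G X with hπ
  have hπc : IsCharacter G π := SmallPartitionChars.isCharacter_fixChar _
  set n := Nat.card K with hn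
  have hπK : ∀ x : K, π x = if x = 1 then (n : ℂ) else 0 := fun x => by
    unfold π SmallPartitionChars.fixChar
    split
    · next h =>
      subst h
      rw [hn, ← P.card_quot]
      exact congrArg Nat.cast (Nat.card_congr (Equiv.subtypeUnivEquiv fun q => by
        rw [MulAction.mem_fixedBy, OneMemClass.coe_one, one_smul]))
    · next h =>
      rw [Nat.cast_eq_zero, Nat.card_eq_zero]
      refine Or.inl ⟨fun ⟨q, hq⟩ => h ?_⟩
      induction q using QuotientGroup.induction_on with
      | H g =>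
        refine Subtype.ext (P.reg (g := g) x.2 ?_)
        have := QuotientGroup.eq.mp (show ((g : G) : X) = (((x : G) * g : G) : X) from hq.symm)
        simpa [mul_assoc] using this
  have hπ1 : π 1 = n := (hπK 1).trans (if_pos rfl)
  choose N' hN' using fun χ : IrrCharacter G => classInner_char_nat hπc (isCharacter_of_irr χ.2)
  choose d hd hdeq using fun χ : IrrCharacter G => irr_degree_pos χ.2
  choose r hr using fun χ : IrrCharacter G =>
    classInner_char_nat (isCharacter_restrict (isCharacter_of_irr χ.2) K) (isCharacter_of_irr (isIrrCharacter_one (G := K)))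
  set o : IrrCharacter G := ⟨fun _ => 1, isIrrCharacter_one⟩
  have hexp : ∀ g, π g = ∑ χ : IrrCharacter G, (N' χ : ℂ) * (χ : G → ℂ) g := fun g => by
    have e := congrFun (eq_sum_irr (isClassFunction_char hπc)) g
    simp only [Finset.sum_apply, Pi.smul_apply, smul_eq_mul, hN'] at e
    exact e
  have ho : N' o = 1 := by
    haveI : Subsingleton (MulAction.orbitRel.Quotient G X) := ⟨fun p q => by
      induction p using Quotient.inductionOn with
      | _ x => induction q using Quotient.inductionOn with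
        | _ y => exact Quotient.sound (MulAction.orbitRel_apply.mpr (MulAction.exists_smul_eq G y x))⟩
    haveI : Nonempty (MulAction.orbitRel.Quotient G X) := ⟨⟦((1 : G) : X)⟧⟩
    have hb := MulAction.sum_card_fixedBy_eq_card_orbits_mul_card_group G X
    rw [Fintype.card_eq_one_iff_nonempty_unique.mpr ⟨uniqueOfSubsingleton (Classical.arbitrary _)⟩, one_mul] at hb
    have h1 : classInner π (fun _ => 1) = 1 := by
      simp only [classInner, π, SmallPartitionChars.fixChar, map_one, mul_one, Nat.card_eq_fintype_card]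
      rw [← Nat.cast_sum, hb]
      exact inv_mul_cancel₀ (Nat.cast_ne_zero.mpr Fintype.card_ne_zero)
    exact_mod_cast (hN' o).symm.trans h1
  have hro : r o = 1 := by
    exact_mod_cast (hr o).symm.trans (classInner_irr_self (isIrrCharacter_one (G := K)))
  have hdo : d o = 1 := by
    have h1 := hdeq o
    simp only [o] at h1
    exact_mod_cast h1.symm
  have hsumr : ∑ χ : IrrCharacter G, N' χ * r χ = 1 := by
    have h1 : classInner (fun x : K => π x) (fun _ => 1) = 1 := by
      simp only [classInner, hπK, map_one, mul_one, Finset.sum_ite_eq', Finset.mem_univ, if_true, hn]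
      exact inv_mul_cancel₀ (Nat.cast_ne_zero.mpr Nat.card_pos.ne')
    have e1 : (fun x : K => π x) = ∑ χ : IrrCharacter G, (N' χ : ℂ) • (fun x : K => (χ : G → ℂ) x) := by
      funext x
      simp [hexp]
    rw [e1, classInner_sum_left] at h1
    simp only [classInner_smul_left, hr] at h1
    exact_mod_cast h1
  have hr0 : ∀ χ, χ ≠ o → N' χ ≠ 0 → r χ = 0 := fun χ hχ hN0 => by
    rw [← Finset.add_sum_erase _ _ (Finset.mem_univ o), ho, hro, one_mul, Nat.add_eq_left] at hsumr
    exact (mul_eq_zero.mp (Finset.sum_eq_zero_iff.mp hsumr χ (Finset.mem_erase.mpr ⟨hχ, Finset.mem_univ _⟩))).resolve_left hN0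
  have hdeg : N' o * d o + ∑ χ ∈ Finset.univ.erase o, N' χ * d χ = n := by
    rw [Finset.add_sum_erase _ (fun χ => N' χ * d χ) (Finset.mem_univ o)]
    have h1 := hexp 1
    rw [hπ1] at h1
    simp only [hdeq] at h1
    exact_mod_cast h1.symm
  rw [ho, hdo, one_mul] at hdeg
  have hn3 : 3 ≤ n := by
    have h1 : n ≠ 1 := fun e => P.ne (mem_bot.mp (eq_bot_of_card_eq K e ▸ P.mem))
    obtain ⟨j, hj⟩ := P.odd
    omega
  suffices h : π t = 1 by exact_mod_cast (show ((Nat.card (MulAction.fixedBy X t) : ℕ) : ℂ) = 1 from h)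
  by_cases hex : ∃ χ, χ ≠ o ∧ N' χ ≠ 0 ∧ (χ : G → ℂ) t ≠ 0
  swap
  · push Not at hex
    rw [hexp, Finset.sum_eq_single o (fun χ _ hne => ?_) (fun h => absurd (Finset.mem_univ _) h), ho]
    · simp [o]
    · by_cases hN0 : N' χ = 0
      · simp [hN0]
      · rw [hex χ hne hN0, mul_zero]
  obtain ⟨χ, hχo, hN0, hχt⟩ := hex
  have hconst := (P.zero_or_const χ.2).resolve_left hχt
  set α := (χ : G → ℂ) z with hα
  have hres : (fun x : K => (χ : G → ℂ) x) = fun x : K => if x = 1 then (d χ : ℂ) else α := by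
    funext x
    split
    · next h => subst h; exact hdeq χ
    · next h => exact hconst x x.2 z P.mem (fun e => h (Subtype.ext e)) P.ne
  haveI : Group.IsNilpotent K := P.nil
  obtain ⟨θ, hθ, hθ1, -, hθd⟩ := exists_linear_above K ⊥ inferInstance
    (bot_lt_iff_ne_bot.mpr fun e => P.ne (mem_bot.mp (e ▸ P.mem)))
  obtain ⟨e', he'⟩ := classInner_char_nat (isCharacter_restrict (isCharacter_of_irr χ.2) K) (isCharacter_of_irr hθ)
  have hθsum : ∑ x : K, conj (θ x) = 0 := by
    have h1 := classInner_irr_ne isIrrCharacter_one hθ (fun e => hθ1 e.symm)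
    simp only [classInner, one_mul] at h1
    exact (mul_eq_zero.mp h1).resolve_left (inv_ne_zero (Nat.cast_ne_zero.mpr Nat.card_pos.ne'))
  have hsplit : ∀ f : K → ℂ, ∑ x : K, (if x = 1 then (d χ : ℂ) else α) * f x =
      ((d χ : ℂ) - α) * f 1 + α * ∑ x : K, f x := fun f => by
    rw [Finset.mul_sum, ← sub_eq_iff_eq_add, ← Finset.sum_sub_distrib,
      Finset.sum_eq_single (1 : K) (fun x _ hx => by simp [hx]) (fun h => absurd (Finset.mem_univ _) h), if_pos rfl]
    ring
  have hnC : (n : ℂ) ≠ 0 := Nat.cast_ne_zero.mpr Nat.card_pos.ne'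
  have eθ : ((d χ : ℂ) - α) = n * e' := by
    have h1 : (n : ℂ)⁻¹ * ∑ x : K, (if x = 1 then (d χ : ℂ) else α) * conj (θ x) = e' := by
      rw [← he', hres]; rfl
    rw [hsplit, hθsum, mul_zero, add_zero, hθd, map_one, mul_one] at h1
    rw [← h1, ← mul_assoc, mul_inv_cancel₀ hnC, one_mul]
  have e0 : ((d χ : ℂ) - α) + α * n = 0 := by
    have h1 : (n : ℂ)⁻¹ * ∑ x : K, (if x = 1 then (d χ : ℂ) else α) * conj ((fun _ => (1 : ℂ)) x) = r χ := by
      rw [← hr, hres]; rfl
    simp only [map_one] at h1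
    rw [hsplit, mul_one, Finset.sum_const, Finset.card_univ, nsmul_eq_mul, mul_one, ← Nat.card_eq_fintype_card,
      hr0 χ hχo hN0, Nat.cast_zero] at h1
    exact (mul_eq_zero.mp h1).resolve_left (inv_ne_zero hnC)
  have hαe : α = -(e' : ℂ) := mul_right_cancel₀ hnC (by linear_combination e0 - eθ)
  have hde : (d χ : ℂ) = ((n - 1) * e' : ℕ) := by
    push_cast [Nat.cast_sub (show 1 ≤ n by omega)]
    linear_combination eθ + hαe
  rw [Nat.cast_inj] at hde
  have he1 : e' ≠ 0 := fun e => (hd χ).ne' (by rw [hde, e, mul_zero])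
  rw [← Finset.add_sum_erase _ (fun χ => N' χ * d χ) (Finset.mem_erase.mpr ⟨hχo, Finset.mem_univ χ⟩)] at hdeg
  have hle : n - 1 ≤ N' χ * d χ := by
    rw [hde]
    exact le_trans (Nat.le_mul_of_pos_right _ (Nat.pos_of_ne_zero he1)) (Nat.le_mul_of_pos_left _ (Nat.pos_of_ne_zero hN0))
  have hall : N' χ * d χ = n - 1 := by omega
  have hrest := Finset.sum_eq_zero_iff.mp (show ∑ ξ ∈ (Finset.univ.erase o).erase χ, N' ξ * d ξ = 0 by omega)
  have he'1 : e' = 1 := by
    by_contra hne
    have : 2 ≤ e' := by omega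
    have h2 : (n - 1) * 2 ≤ N' χ * d χ := by
      rw [hde]
      exact le_trans (Nat.mul_le_mul le_rfl this) (Nat.le_mul_of_pos_left _ (Nat.pos_of_ne_zero hN0))
    omega
  rw [he'1, mul_one] at hde
  have hN1 : N' χ = 1 := by
    have h2 : N' χ * (n - 1) = 1 * (n - 1) := by rw [one_mul, ← hde]; exact hall.trans hde.symm
    exact Nat.eq_of_mul_eq_mul_right (by omega) h2
  have hform : ∀ g, π g = 1 + (χ : G → ℂ) g := fun g => by
    rw [hexp, ← Finset.add_sum_erase _ _ (Finset.mem_univ o),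
      ← Finset.add_sum_erase _ _ (Finset.mem_erase.mpr ⟨hχo, Finset.mem_univ χ⟩),
      Finset.sum_eq_zero fun ξ hξ => by
        rw [(mul_eq_zero.mp (hrest ξ hξ)).resolve_right (hd ξ).ne', Nat.cast_zero, zero_mul],
      ho, hN1]
    simp [o]
  have hkey := P.key χ.2
  rw [show (χ : G → ℂ) z = -1 by rw [← hα, hαe, he'1]; simp,
    show (χ : G → ℂ) t = π t - 1 by rw [hform t]; ring,
    show (χ : G → ℂ) 1 = (n : ℂ) - 1 by rw [hdeq, hde, Nat.cast_sub (by omega)]; simp,
    show (χ : G → ℂ) (z * t) = π (z * t) - 1 by rw [hform]; ring] at hkey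
  have hpy : 1 ≤ Nat.card (MulAction.fixedBy X t) := by
    haveI : Nonempty (MulAction.fixedBy X t) := ⟨⟨((1 : G) : X), by
      show ((t * 1 : G) : X) = ((1 : G) : X)
      exact QuotientGroup.eq.mpr (by simpa using self_mem t)⟩⟩
    exact Nat.card_pos
  have hpy' : Nat.card (MulAction.fixedBy X t) ≠ n := fun e => by
    have hall' : MulAction.fixedBy X t = Set.univ := Set.eq_of_subset_of_ncard_le (Set.subset_univ _) (by
      rw [Set.ncard_univ, ← Nat.card_coe_set_eq, e, hn, P.card_quot])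
    have hker : t ∈ (centralizer ({t} : Set G)).normalCore := fun b => by
      have h1 := QuotientGroup.eq.mp (show ((t * b⁻¹ : G) : X) = (b⁻¹ : G) from
        (hall' ▸ Set.mem_univ _ : ((b⁻¹ : G) : X) ∈ MulAction.fixedBy X t))
      have := inv_mem h1
      simpa [mul_assoc] using this
    rcases (centralizer ({t} : Set G)).normalCore_normal.eq_bot_or_eq_top with e' | e'
    · rw [e', mem_bot] at hker
      simpa [hker] using P.inv
    · have hzM : z ∈ centralizer ({t} : Set G) := normalCore_le _ (e' ▸ mem_top z)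
      exact P.ne (P.reg (g := 1) P.mem (by simpa using hzM))
  show ((Nat.card (MulAction.fixedBy X t) : ℕ) : ℂ) = 1
  unfold π SmallPartitionChars.fixChar at hkey
  generalize hA : Nat.card (MulAction.fixedBy X t) = A at hkey hpy hpy' ⊢
  generalize hB : Nat.card (MulAction.fixedBy X (z * t)) = B at hkey
  have hi : (1 : ℤ) - A = ((n : ℤ) - 1) * ((B : ℤ) - 1) := by
    have : ((1 : ℤ) - A : ℂ) = (((n : ℤ) - 1) * ((B : ℤ) - 1) : ℂ) := by push_cast; linear_combination hkey
    exact_mod_cast this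
  rcases Nat.lt_trichotomy B 1 with hB1 | hB1 | hB1
  · obtain rfl : B = 0 := by omega
    push_cast at hi
    exact absurd (show A = n by omega) hpy'
  · subst hB1
    simp only [Nat.cast_one, sub_self, mul_zero] at hi
    obtain rfl : A = 1 := by omega
    exact Nat.cast_one
  · exfalso
    have h1 : (1 : ℤ) ≤ ((n : ℤ) - 1) * ((B : ℤ) - 1) := one_le_mul_of_one_le_of_one_le (by omega) (by omega)
    omega

/-- No simple group has such a kernel. -/
theorem false (hna : ¬ IsMulCommutative G) : False := by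
  classical
  haveI := Fintype.ofFinite G
  haveI := Fact.mk Nat.prime_two
  haveI := mono_of_simple hna
  have hiso : ∀ a : G, a⁻¹ * t * a ∈ centralizer ({t} : Set G) → a ∈ centralizer ({t} : Set G) := by
    intro a ha
    haveI := (Nat.card_eq_one_iff_unique.mp P.fix_one).1
    have h1 : ((1 : G) : G ⧸ centralizer ({t} : Set G)) ∈ MulAction.fixedBy (G ⧸ centralizer ({t} : Set G)) t := by
      show ((t * 1 : G) : G ⧸ centralizer ({t} : Set G)) = ((1 : G) : G ⧸ centralizer ({t} : Set G))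
      exact QuotientGroup.eq.mpr (by simpa using self_mem t)
    have h2 : ((a : G) : G ⧸ centralizer ({t} : Set G)) ∈ MulAction.fixedBy (G ⧸ centralizer ({t} : Set G)) t := by
      show ((t * a : G) : G ⧸ centralizer ({t} : Set G)) = (a : G ⧸ centralizer ({t} : Set G))
      refine QuotientGroup.eq.mpr ?_
      have := inv_mem ha
      simpa [mul_assoc] using this
    have := congrArg Subtype.val (Subsingleton.elim
      (⟨_, h1⟩ : MulAction.fixedBy (G ⧸ centralizer ({t} : Set G)) t) ⟨_, h2⟩)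
    simpa using QuotientGroup.eq.mp this
  have ht1 : t ≠ 1 := fun e => by simpa [e] using P.inv
  have hfull : 2 ^ (Nat.card G).factorization 2 ∣ cc t := by
    have h2 : ¬ 2 ∣ Nat.card K := fun h => Nat.not_even_iff_odd.mpr P.odd (even_iff_two_dvd.mpr h)
    have hco : (2 ^ (Nat.card G).factorization 2).Coprime (Nat.card K) :=
      (Nat.prime_two.coprime_iff_not_dvd.mpr h2).pow_left _
    exact hco.dvd_of_dvd_mul_right (P.prod ▸ Nat.ordProj_dvd _ 2)
  obtain ⟨R, hR⟩ := exists_sylow_le' hfull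
  have htR : t ∈ (R : Subgroup G) := by
    have hp : IsPGroup 2 (zpowers t) := IsPGroup.of_card (n := 1) (by rw [Nat.card_zpowers, P.inv, pow_one])
    have hn : zpowers t ≤ normalizer ((R : Subgroup G) : Set G) := zpowers_le.mpr
      (centralizer_le_normalizer ((R : Subgroup G) : Set G) fun u hu => mem_cent.mp (hR hu))
    exact R.is_maximal' (R.2.to_sup_of_normal_left' hp hn) le_sup_left ▸ mem_sup_right (mem_zpowers t)
  obtain ⟨N, hN, hodd, hcomm⟩ := Cfsg.Agent.S0215.result R t P.inv htR fun g hg => by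
    have h1 := hiso g⁻¹ (by rw [inv_inv]; exact hR hg)
    have h2 : g * t = t * g := mem_cent.mp (by simpa using inv_mem h1)
    rw [h2, mul_inv_cancel_right]
  rcases hN.eq_bot_or_eq_top with e | e
  · refine class_comm_absurd ht1 fun g => ?_
    have h1 := hcomm g
    rw [e, mem_bot, mul_inv_eq_one, mul_inv_eq_iff_eq_mul] at h1
    rw [← h1, mul_inv_cancel_right]
  · rw [e, card_top] at hodd
    exact Nat.not_even_iff_odd.mpr hodd ((Nat.even_iff).mpr (Nat.mod_eq_zero_of_dvd (two_dvd_card hna)))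

end Kern

end CfsgLib.ConjRankFour
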