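import Cfsg.Agent.Lib.ConjRankFour.Five.Deficient
import Cfsg.Agent.Lib.ConjRankFour.Five.Coherent
import Cfsg.Agent.Lib.NilpotentCommute

set_option autoImplicit false
set_option linter.style.haveILetI false

/-!
No centralizer of order `N` has two primes in its centre.
-/

namespace CfsgLib.ConjRankFour

open Cfsg Subgroup CfsgLib.ConjRankThree

universe u

variable {G : Type u} [Group G] [Finite G]

/-- A subgroup is contained in another one holding its elements of prime power order. -/
theorem le_of_primary_mem {K Z : Subgroup G}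
    (h : ∀ x ∈ K, ∀ s i : ℕ, s.Prime → orderOf x = s ^ i → x ∈ Z) : K ≤ Z := by
  rw [← subgroupOf_eq_top]
  by_contra hne
  obtain ⟨s, hs, hsd⟩ := Nat.exists_prime_and_dvd (n := (Z.subgroupOf K).index) (fun e => hne (index_eq_one.mp e))
  haveI := Fact.mk hs
  obtain ⟨S⟩ : Nonempty (Sylow s K) := inferInstance
  refine S.not_dvd_index (hsd.trans (index_dvd_of_le fun u hu => mem_subgroupOf.mpr (h u u.2 s ?_ hs ?_)))
  · exact Classical.choose (exists_orderOf_eq_pow S.2 hu)
  · rw [Subgroup.orderOf_coe]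
    exact Classical.choose_spec (exists_orderOf_eq_pow S.2 hu)

namespace Two

variable [IsSimpleGroup G] {t : G} {N D q r : ℕ} {v w : G} (B : Two t N D q r v w)
include B

omit [IsSimpleGroup G] in
/-- A central element of the centralizer has the same centralizer. -/
theorem cent_eq_of_central {x : G} (hx : x ∈ centralizer ({v} : Set G)) (hx1 : x ≠ 1)
    (h : centralizer ({v} : Set G) ≤ centralizer ({x} : Set G)) :
    centralizer ({x} : Set G) = centralizer ({v} : Set G) := by
  refine (eq_of_le_of_card_ge h ?_).symm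
  show cc x ≤ cc v
  rw [B.cv]
  rcases B.side.val_odd hx1 (B.ord_dvd hx) with e | e
  · exact e.le
  · exact e.le.trans (Nat.le_of_dvd B.side.N_pos B.side.dvd)

/-- No centralizer of order `N` has two primes in its centre. -/
theorem false (hna : ¬ IsMulCommutative G) : False := by
  classical
  haveI := B.isNilpotent
  set K := centralizer ({v} : Set G) with hK
  have hKN : Nat.card K = N := B.cv
  have hcomm : ∀ {x y : G}, x ∈ K → y ∈ K → (orderOf x).Coprime (orderOf y) → x * y = y * x :=
    fun {x y} hx hy hco => congrArg Subtype.val (CfsgLib.commute_of_nilpotent (H := K) ⟨x, hx⟩ ⟨y, hy⟩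
      (by rwa [Subgroup.orderOf_mk, Subgroup.orderOf_mk])).eq
  -- non-central elements of prime power order
  have hcard : ∀ {x : G} {s i : ℕ}, x ∈ K → s.Prime → orderOf x = s ^ i → ¬ K ≤ centralizer ({x} : Set G) →
      Nat.card (K ⊓ centralizer {x} : Subgroup G) = D ∧ ∀ l : ℕ, l.Prime → l ≠ s → D.factorization l = N.factorization l := by
    intro x s i hx hs hi hnc
    have h1 : Nat.card (K ⊓ centralizer {x} : Subgroup G) = D := by
      by_cases hd : q ∣ orderOf x
      · have h := B.symm.card_cent (x := x) (by rw [B.ceq]; exact hx) (fun hd' => B.ne ?_) (by rw [B.ceq]; exact hnc)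
        · rwa [B.ceq] at h
        · rw [hi] at hd hd'
          exact ((Nat.prime_dvd_prime_iff_eq B.hq hs).mp (B.hq.dvd_of_dvd_pow hd)).trans
            ((Nat.prime_dvd_prime_iff_eq B.hr hs).mp (B.hr.dvd_of_dvd_pow hd')).symm
      · exact B.card_cent hx hd hnc
    refine ⟨h1, fun l hl hls => le_antisymm ((Nat.factorization_le_iff_dvd B.D_ne B.side.N_pos.ne').mpr B.side.dvd l) ?_⟩
    haveI := Fact.mk hl
    obtain ⟨P, hPK, hP, hPc⟩ := exists_qgroup_le l K
    have hle : P ≤ K ⊓ centralizer {x} := fun y hy => mem_inf.mpr ⟨hPK hy, mem_cent.mpr (hcomm (hPK hy) hx (by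
      obtain ⟨j, hj⟩ := exists_orderOf_eq_pow hP hy
      rw [hj, hi]
      exact Nat.Coprime.pow j i ((Nat.coprime_primes hl hs).mpr hls)))⟩
    have h2 := card_dvd_of_le hle
    rw [h1, hPc, hKN, hl.pow_dvd_iff_le_factorization B.D_ne] at h2
    exact h2
  obtain ⟨x0, p, i0, hx0, hp, hi0, hnc0⟩ : ∃ x : G, ∃ p i : ℕ, x ∈ K ∧ p.Prime ∧ orderOf x = p ^ i ∧
      ¬ K ≤ centralizer ({x} : Set G) := by
    by_contra hno
    push Not at hno
    have h1 : K ≤ centralizer (K : Set G) := le_of_primary_mem fun x hx s i hs hi => mem_centralizer_iff.mpr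
      fun y hy => mem_cent.mp (hno x s i hx hs hi hy)
    exact B.side.nonabelian B.cv fun a ha b hb => (mem_centralizer_iff.mp (h1 ha) b hb).symm
  have hprime : ∀ {x : G} {s i : ℕ}, x ∈ K → s.Prime → orderOf x = s ^ i → s ≠ p → K ≤ centralizer ({x} : Set G) := by
    intro x s i hx hs hi hsp
    by_contra hnc
    refine B.side.ne (Nat.eq_of_factorization_eq B.D_ne B.side.N_pos.ne' fun l => ?_)
    by_cases hl : l.Prime
    · by_cases hls : l = s
      · exact (hcard hx0 hp hi0 hnc0).2 l hl (hls ▸ hsp)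
      · exact (hcard hx hs hi hnc).2 l hl hls
    · simp [Nat.factorization_eq_zero_of_not_prime _ hl]
  -- an element of prime order with the largest centralizer
  obtain ⟨u, s, hs, hsp, huo, huK⟩ : ∃ (u : G) (s : ℕ), s.Prime ∧ s ≠ p ∧ orderOf u = s ∧
      centralizer ({u} : Set G) = K := by
    by_cases hqp : q = p
    · exact ⟨w, r, B.hr, fun e => B.ne (hqp.trans e.symm), B.ow, B.ceq⟩
    · exact ⟨v, q, B.hq, hqp, B.ov, rfl⟩
  haveI := Fact.mk hs
  have huK' : u ∈ K := huK ▸ self_mem u
  have hu1 : u ≠ 1 := fun e => hs.one_lt.ne (by rw [← huo, e, orderOf_one])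
  have hpN : p ∣ N := by
    have h1 := B.ord_dvd hx0
    have : i0 ≠ 0 := fun e => hnc0 (by
      rw [e, pow_zero, orderOf_eq_one_iff] at hi0
      rw [hi0]; exact fun y _ => mem_cent.mpr (by simp))
    exact (dvd_pow_self p this).trans (hi0 ▸ h1)
  -- the centralizers of its elements
  have hcent : ∀ x ∈ K, x ≠ 1 → centralizer ({x} : Set G) ≤ K := by
    intro x hx hx1
    by_cases hl : ∃ l : ℕ, l.Prime ∧ l ∣ orderOf x ∧ l ≠ p
    · obtain ⟨l, hl, hld, hlp⟩ := hl
      have ho : orderOf (x ^ (orderOf x / l)) = l := orderOf_pow_orderOf_div (orderOf_pos x).ne' hld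
      have hne : x ^ (orderOf x / l) ≠ 1 := fun e => hl.one_lt.ne (by rw [← ho, e, orderOf_one])
      exact (cent_le_pow x _).trans (B.cent_eq_of_central (pow_mem hx _) hne
        (hprime (pow_mem hx _) hl (i := 1) (by rw [ho, pow_one]) hlp)).le
    push Not at hl
    obtain ⟨i, hi⟩ : ∃ i, orderOf x = p ^ i :=
      ⟨_, Nat.eq_prime_pow_of_unique_prime_dvd (orderOf_pos x).ne' fun hd hdd => hl _ hd hdd⟩
    by_cases hc : K ≤ centralizer ({x} : Set G)
    · exact (B.cent_eq_of_central hx hx1 hc).le
    have hD := (hcard hx hp hi hc).1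
    rcases B.side.val_odd hx1 (B.ord_dvd hx) with hN | hN
    swap
    · exact (eq_of_le_of_card_ge inf_le_right (hN.trans hD.symm).le).ge.trans inf_le_left
    haveI := Fact.mk hp
    obtain ⟨P0, hP0C, hP0, hP0c⟩ := exists_qgroup_le p (centralizer ({x} : Set G))
    obtain ⟨P1, hP1K, hP1, hP1c⟩ := exists_qgroup_le p K
    rw [show Nat.card (centralizer ({x} : Set G)) = N from hN] at hP0c
    rw [hKN] at hP1c
    have hx0' : x ∈ P0 := by
      have hn : zpowers x ≤ normalizer (P0 : Set G) := zpowers_le.mpr (centralizer_le_normalizer _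
        (mem_centralizer_iff.mpr fun y hy => mem_cent.mp (hP0C hy)))
      exact eq_of_qgroup (q := p) B.side.N_pos.ne'
        (hP0.to_sup_of_normal_left' (IsPGroup.of_card (n := i) (by rw [Nat.card_zpowers, hi])) hn) le_sup_left hP0c
        (hN ▸ card_dvd_of_le (sup_le hP0C (zpowers_le.mpr (self_mem x)))) ▸ mem_sup_right (mem_zpowers x)
    let S0 : Sylow p G := Sylow.ofCard P0 (by rw [hP0c, B.side.fac_eq hp hpN])
    let S1 : Sylow p G := Sylow.ofCard P1 (by rw [hP1c, B.side.fac_eq hp hpN])
    obtain ⟨g, hg⟩ := MulAction.exists_smul_eq G S1 S0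
    have hgP : ∀ y ∈ P1, g * y * g⁻¹ ∈ P0 := fun y hy => by
      have h1 : g * y * g⁻¹ ∈ ((g • S1 : Sylow p G) : Subgroup G) := ⟨y, hy, rfl⟩
      rw [hg] at h1
      exact h1
    have hgP' : ∀ y ∈ P0, g⁻¹ * y * g ∈ P1 := fun y hy => by
      have h1 : y ∈ ((g • S1 : Sylow p G) : Subgroup G) := by rw [hg]; exact hy
      obtain ⟨z, hz, rfl⟩ := h1
      have hz' : z ∈ P1 := hz
      simpa [mul_assoc] using hz'
    set x' := g⁻¹ * x * g with hx'
    have hx'K : x' ∈ K := hP1K (hgP' x hx0')
    have hx'c : K ≤ centralizer ({x'} : Set G) := le_of_primary_mem fun y hy l j hl hj => mem_cent.mpr (by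
      by_cases hlp : l = p
      · -- elements of the order of `p` lie in the Sylow subgroup
        have hyP : y ∈ P1 := by
          have hn : zpowers y ≤ normalizer (P1 : Set G) := zpowers_le.mpr (by
            haveI : (P1.subgroupOf K).Normal := by
              let T : Sylow p K := Sylow.ofCard (P1.subgroupOf K) (by
                rw [Nat.card_congr (Subgroup.subgroupOfEquivOfLe hP1K).toEquiv, hP1c, hKN])
              exact (inferInstance : (T : Subgroup K).Normal)
            exact (normal_subgroupOf_iff_le_normalizer hP1K).mp inferInstance hy)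
          exact eq_of_qgroup (q := p) B.side.N_pos.ne'
            (hP1.to_sup_of_normal_left' (IsPGroup.of_card (n := j) (by rw [Nat.card_zpowers, hj, hlp])) hn)
            le_sup_left hP1c (hKN ▸ card_dvd_of_le (sup_le hP1K (zpowers_le.mpr hy))) ▸ mem_sup_right (mem_zpowers y)
        have h1 := mem_cent.mp (hP0C (hgP y hyP))
        calc y * x' = g⁻¹ * (g * y * g⁻¹ * x) * g := by rw [hx']; group
          _ = g⁻¹ * (x * (g * y * g⁻¹)) * g := by rw [h1]
          _ = x' * y := by rw [hx']; group
      · refine hcomm hy hx'K ?_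
        rw [hj, hx', show g⁻¹ * x * g = MulAut.conj g⁻¹ x by simp, MulEquiv.orderOf_eq, hi]
        exact Nat.Coprime.pow j i ((Nat.coprime_primes hl hp).mpr hlp))
    have hx'1 : x' ≠ 1 := fun e => hx1 (by
      rw [show x = g * x' * g⁻¹ by rw [hx']; group, e]; group)
    have hCx' := B.cent_eq_of_central hx'K hx'1 hx'c
    have hback : ∀ y ∈ centralizer ({x} : Set G), g⁻¹ * y * g ∈ K := fun y hy => by
      show g⁻¹ * y * g ∈ centralizer ({v} : Set G)
      rw [← hCx', mem_cent, hx', show g⁻¹ * y * g * (g⁻¹ * x * g) = g⁻¹ * (y * x) * g by group, mem_cent.mp hy]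
      group
    have hux : u ∈ centralizer ({x} : Set G) := mem_cent.mpr
      (mem_cent.mp (huK.ge hx)).symm
    have hu'c : K ≤ centralizer ({g⁻¹ * u * g} : Set G) := hprime (hback u hux) hs (i := 1)
      (by rw [show g⁻¹ * u * g = MulAut.conj g⁻¹ u by simp, MulEquiv.orderOf_eq, huo, pow_one]) hsp
    intro y hy
    rw [← huK, mem_cent]
    have h1 := mem_cent.mp (hu'c (hback y hy))
    calc y * u = g * (g⁻¹ * y * g * (g⁻¹ * u * g)) * g⁻¹ := by group
      _ = g * (g⁻¹ * u * g * (g⁻¹ * y * g)) * g⁻¹ := by rw [h1]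
      _ = u * y := by group
  have huc : ∀ x ∈ K, u ∈ centralizer ({x} : Set G) := fun x hx => mem_cent.mpr (mem_cent.mp (huK.ge hx)).symm
  have hti : ∀ g : G, g ∉ normalizer (K : Set G) → ∀ k ∈ K, g * k * g⁻¹ ∈ K → k = 1 := by
    intro g hg k hk hgk
    by_contra hk1
    refine hg ?_
    have hk1' : g * k * g⁻¹ ≠ 1 := fun e => hk1 (by
      rw [show k = g⁻¹ * (g * k * g⁻¹) * g by group, e]; group)
    have h1 : g * u * g⁻¹ ∈ K := hcent _ hgk hk1' (mem_cent.mpr (by
      rw [show g * u * g⁻¹ * (g * k * g⁻¹) = g * (u * k) * g⁻¹ by group, mem_cent.mp (huc k hk)]; group))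
    have h2 := B.cent_eq_of_central h1 (fun e => hu1 (by
      rw [show u = g⁻¹ * (g * u * g⁻¹) * g by group, e]; group))
      (hprime h1 hs (i := 1) (by rw [show g * u * g⁻¹ = MulAut.conj g u from rfl, MulEquiv.orderOf_eq, huo, pow_one]) hsp)
    rw [mem_normalizer_iff]
    intro z
    show z ∈ K ↔ g * z * g⁻¹ ∈ K
    conv_lhs => rw [← huK]
    conv_rhs => rw [show K = centralizer ({g * u * g⁻¹} : Set G) from h2.symm]
    simp only [mem_cent]
    rw [show g * z * g⁻¹ * (g * u * g⁻¹) = g * (z * u) * g⁻¹ by group,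
      show g * u * g⁻¹ * (g * z * g⁻¹) = g * (u * z) * g⁻¹ by group]
    exact ⟨fun h => by rw [h], fun h => mul_left_cancel (mul_right_cancel h)⟩
  have hlt : K < normalizer (K : Set G) := by
    refine lt_of_le_of_ne Subgroup.le_normalizer fun hNK => ?_
    have hsN : s ∣ N := huo ▸ B.ord_dvd huK'
    obtain ⟨R, hRK, hR, hRc⟩ := exists_qgroup_le s K
    rw [hKN] at hRc
    let S : Sylow s G := Sylow.ofCard R (by rw [hRc, B.side.fac_eq hs hsN])
    have hKR : K ≤ centralizer (R : Set G) := fun y hy => mem_centralizer_iff.mpr fun z hz => by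
      obtain ⟨j, hj⟩ := exists_orderOf_eq_pow hR hz
      exact (mem_cent.mp (hprime (hRK hz) hs hj hsp hy)).symm
    obtain ⟨z, hz, -, hz1⟩ := exists_orderOf_dvd (H := R) hs (by
      rw [hRc]; exact dvd_pow_self s (hs.factorization_pos_of_dvd B.side.N_pos.ne' hsN).ne')
    have hCR : centralizer (R : Set G) = K := le_antisymm (fun y hy => hcent z (hRK hz) hz1
      (mem_cent.mpr (mem_centralizer_iff.mp hy z hz).symm)) hKR
    have hNR : normalizer ((S : Subgroup G) : Set G) ≤ centralizer ((S : Subgroup G) : Set G) := by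
      show normalizer (R : Set G) ≤ centralizer (R : Set G)
      intro y hy
      rw [hCR, hNK, mem_normalizer_iff]
      intro z
      show z ∈ K ↔ y * z * y⁻¹ ∈ K
      rw [← hCR]
      simp only [mem_centralizer_iff, SetLike.mem_coe]
      constructor
      · intro h a ha
        have h1 := h (y⁻¹ * a * y) (by simpa using (mem_normalizer_iff.mp (inv_mem hy) a).mp ha)
        calc a * (y * z * y⁻¹) = y * (y⁻¹ * a * y * z) * y⁻¹ := by group
          _ = y * (z * (y⁻¹ * a * y)) * y⁻¹ := by rw [h1]
          _ = _ := by group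
      · intro h a ha
        have h1 := h (y * a * y⁻¹) ((mem_normalizer_iff.mp hy a).mp ha)
        calc a * z = y⁻¹ * (y * a * y⁻¹ * (y * z * y⁻¹)) * y := by group
          _ = y⁻¹ * (y * z * y⁻¹ * (y * a * y⁻¹)) * y := by rw [h1]
          _ = z * a := by group
    have hc := MonoidHom.ker_transferSylow_isComplement' S hNR
    rcases (MonoidHom.normal_ker (MonoidHom.transferSylow S hNR)).eq_bot_or_eq_top with e | e
    · rw [e] at hc
      have hRtop : R = ⊤ := by
        have h1 := hc.sup_eq_top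
        rw [bot_sup_eq] at h1
        exact h1
      exact hna ⟨⟨fun a b => (mem_centralizer_iff.mp (hKR (hRK (hRtop ▸ mem_top a))) b (hRtop ▸ mem_top b)).symm⟩⟩
    · rw [e] at hc
      have h1 : R = ⊥ := by
        have := hc.disjoint
        rw [disjoint_iff, top_inf_eq] at this
        exact this
      exact hz1 (mem_bot.mp (h1 ▸ hz))
  have hw1 : w ≠ 1 := fun e => B.hr.one_lt.ne (by rw [← B.ow, e, orderOf_one])
  have hwK : w ∈ K := by
    show w ∈ centralizer ({v} : Set G)
    rw [← B.ceq]; exact self_mem w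
  have hvw : orderOf (v * w) = q * r := by
    have hc : Commute v w := (show Commute w v from mem_cent.mp hwK).symm
    rw [hc.orderOf_mul_eq_mul_orderOf_of_coprime (by rw [B.ov, B.ow]; exact (Nat.coprime_primes B.hq B.hr).mpr B.ne),
      B.ov, B.ow]
  refine Kern.false (t := t) (z := v) (K := K) ?_ hna
  exact
    { inv := B.side.inv
      cop := hKN ▸ B.side.cop
      prod := hKN ▸ B.side.prod
      odd := hKN ▸ B.side.odd
      nil := B.isNilpotent
      nab := B.side.nonabelian B.cv
      cent := hcent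
      ti := hti
      lt := hlt
      mem := self_mem v
      ne := B.v_ne
      central := le_rfl
      third := ⟨w, hwK, v * w, mul_mem (self_mem v) hwK, hw1,
        fun e => by rw [e, orderOf_one] at hvw; exact B.hq.ne_one (mul_eq_one.mp hvw.symm).1,
        by rw [B.ow, B.ov]; exact B.ne.symm,
        by
          rw [hvw, B.ov]
          exact fun e => B.hr.ne_one ((mul_eq_left₀ B.hq.ne_zero).mp e),
        by
          rw [hvw, B.ow]
          exact fun e => B.hq.ne_one ((mul_eq_right₀ B.hr.ne_zero).mp e.symm)⟩ }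

end Two

end CfsgLib.ConjRankFour
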