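import Cfsg.Agent.Lib.ConjRankFour.Bad

set_option autoImplicit false
set_option linter.style.haveILetI false

/-!
An element with class of `q`-power size times a `q`-element.
-/

namespace CfsgLib.ConjRankFour

open Cfsg Subgroup CfsgLib.ConjRankThree

universe u

variable {M : Type u} [Group M] [Finite M]

/-- In a subgroup holding a full Sylow `q`-subgroup of `H` lies a conjugate of each `q`-element of `H`. -/
theorem exists_conj_mem_of_full {q : ℕ} [Fact q.Prime] {H B : Subgroup M} (hBH : B ≤ H)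
    (hB : q ^ (Nat.card H).factorization q ∣ Nat.card B) {u : M} (hu : u ∈ H) (huo : ∃ k, orderOf u = q ^ k) :
    ∃ c ∈ H, c * u * c⁻¹ ∈ B := by
  obtain ⟨P, hP⟩ := Sylow.exists_subgroup_card_pow_prime q (G := B.subgroupOf H)
    (n := (Nat.card H).factorization q) (by rwa [Nat.card_congr (subgroupOfEquivOfLe hBH).toEquiv])
  let P' : Sylow q H := Sylow.ofCard (P.map (B.subgroupOf H).subtype) (by
    rw [Nat.card_congr (P.equivMapOfInjective _ (subtype_injective _)).symm.toEquiv, hP])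
  obtain ⟨R, hR⟩ := exists_sylow_of_mem (x := (⟨u, hu⟩ : H)) (r := q)
    (by obtain ⟨k, hk⟩ := huo; exact ⟨k, by rwa [Subgroup.orderOf_mk]⟩)
  obtain ⟨c, hc⟩ := MulAction.exists_smul_eq H R P'
  refine ⟨c, c.2, ?_⟩
  have h1 : c * ⟨u, hu⟩ * c⁻¹ ∈ (P' : Subgroup H) := by
    rw [← hc, Sylow.coe_subgroup_smul]
    exact ⟨⟨u, hu⟩, hR, rfl⟩
  exact mem_subgroupOf.mp (map_subtype_le P h1)

/-- If `x` is a `p`-element with class of `q`-power size and `y` a `q`-element with `x * y` of order prime to `q`,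
then `x * y` is conjugate to `x`. -/
theorem isConj_mul_of_class_pow {p q i : ℕ} [Fact p.Prime] [Fact q.Prime] (hpq : p ≠ q) {x y : M}
    (hx : ∃ k, orderOf x = p ^ k) (hy : ∃ k, orderOf y = q ^ k)
    (hcl : (centralizer ({x} : Set M)).index = q ^ i) (hz : ¬ q ∣ orderOf (x * y)) : IsConj x (x * y) := by
  obtain ⟨k, hk⟩ := hx
  obtain ⟨l, hl⟩ := hy
  have hcoqp : ∀ {a b : ℕ}, (q ^ a).Coprime (p ^ b) := fun {a b} =>
    Nat.Coprime.pow _ _ ((Nat.coprime_primes (Fact.out : q.Prime) (Fact.out : p.Prime)).mpr hpq.symm)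
  set O := pCore q M with hO
  let f := QuotientGroup.mk' O
  have hfs : Function.Surjective f := QuotientGroup.mk'_surjective _
  have hcomm : ∀ a b : M ⧸ O, Commute (a * f x * a⁻¹) (b * f x * b⁻¹) := by
    intro a b
    obtain ⟨g, rfl⟩ := hfs a
    obtain ⟨h, rfl⟩ := hfs b
    have h1 := CfsgLib.Kazarin.commutator_mem_pCore x hcl g h
    rw [← hO, ← QuotientGroup.eq_one_iff] at h1
    have h2 : (f g * f x * (f g)⁻¹) * (f h * f x * (f h)⁻¹) * (f g * f x * (f g)⁻¹)⁻¹ *
        (f h * f x * (f h)⁻¹)⁻¹ = 1 := by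
      rw [← h1]; rfl
    rw [mul_inv_eq_one, mul_inv_eq_iff_eq_mul] at h2
    exact h2
  set N := normalClosure ({f x} : Set (M ⧸ O)) with hN
  haveI hNc : IsMulCommutative N := by
    have hle : N ≤ centralizer (N : Set (M ⧸ O)) := by
      refine (closure_le _).mpr fun u hu => ?_
      obtain ⟨w, hw, hwu⟩ := Group.mem_conjugatesOfSet_iff.mp hu
      rw [Set.mem_singleton_iff.mp hw] at hwu
      obtain ⟨a, rfl⟩ := isConj_iff.mp hwu
      refine mem_centralizer_iff.mpr fun v hv => ?_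
      have hle' : N ≤ centralizer ({a * f x * a⁻¹} : Set (M ⧸ O)) := (closure_le _).mpr fun s hs => by
        obtain ⟨w', hw', hws⟩ := Group.mem_conjugatesOfSet_iff.mp hs
        rw [Set.mem_singleton_iff.mp hw'] at hws
        obtain ⟨b, rfl⟩ := isConj_iff.mp hws
        exact mem_cent.mpr (hcomm b a).eq
      exact mem_cent.mp (hle' hv)
    exact ⟨⟨fun a b => Subtype.ext (mem_centralizer_iff.mp (hle b.2) a a.2)⟩⟩
  have hNp : ∀ n ∈ N, n ^ p ^ k = 1 := by
    intro n hn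
    refine closure_induction (p := fun u _ => u ^ p ^ k = 1) ?_ (one_pow _) ?_ ?_ hn
    · intro u hu
      obtain ⟨w, hw, hwu⟩ := Group.mem_conjugatesOfSet_iff.mp hu
      rw [Set.mem_singleton_iff.mp hw] at hwu
      obtain ⟨a, rfl⟩ := isConj_iff.mp hwu
      rw [conj_pow, ← map_pow, ← hk, pow_orderOf_eq_one, map_one, mul_one, mul_inv_cancel]
    · intro u v hu hv h1 h2
      have : Commute u v := congrArg Subtype.val (hNc.is_comm.comm ⟨u, hu⟩ ⟨v, hv⟩)
      rw [this.mul_pow, h1, h2, one_mul]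
    · intro u _ h1
      rw [inv_pow, h1, inv_one]
  have hzq : (orderOf (x * y)).Coprime (q ^ l) :=
    Nat.Coprime.pow_right _ (((Fact.out : q.Prime).coprime_iff_not_dvd.mpr hz).symm)
  -- `y` lies in the `q`-core
  have hyO : y ∈ O := by
    let g := (QuotientGroup.mk' N).comp f
    have hgx : g x = 1 := (QuotientGroup.eq_one_iff _).mpr (subset_normalClosure rfl)
    have hgy : g y = 1 := by
      rw [← orderOf_eq_one_iff]
      refine Nat.eq_one_of_dvd_coprimes hzq ?_ (hl ▸ orderOf_map_dvd g y)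
      have := orderOf_map_dvd g (x * y)
      rwa [map_mul, hgx, one_mul] at this
    have hfy : f y ∈ N := (QuotientGroup.eq_one_iff _).mp hgy
    rw [← QuotientGroup.eq_one_iff (N := O)]
    show f y = 1
    rw [← orderOf_eq_one_iff]
    exact Nat.eq_one_of_dvd_coprimes (hcoqp (a := l) (b := k)) (hl ▸ orderOf_map_dvd f y)
      (orderOf_dvd_of_pow_eq_one (hNp _ hfy))
  have hfz : f (x * y) = f x := by rw [map_mul, show f y = 1 from (QuotientGroup.eq_one_iff y).mpr hyO, mul_one]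
  have hOq : ∀ u ∈ O, ∃ a, orderOf u = q ^ a := fun u hu => exists_orderOf_eq_pow (isPGroup_pCore q) hu
  have hzp : (x * y) ^ p ^ k = 1 := by
    have hmem : (x * y) ^ p ^ k ∈ O := by
      rw [← QuotientGroup.eq_one_iff (N := O)]
      show f ((x * y) ^ p ^ k) = 1
      rw [map_pow, hfz, ← map_pow, ← hk, pow_orderOf_eq_one, map_one]
    obtain ⟨a, ha⟩ := hOq _ hmem
    rw [← orderOf_eq_one_iff]
    refine Nat.eq_one_of_dvd_coprimes (Nat.Coprime.pow_right a ((Fact.out : q.Prime).coprime_iff_not_dvd.mpr hz).symm)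
      (orderOf_pow_dvd _) (dvd_of_eq ha)
  -- conjugate Sylow `p`-subgroups of the group over the core
  set U := zpowers x ⊔ O
  have hxU : x ∈ U := mem_sup_left (mem_zpowers x)
  have hzU : x * y ∈ U := mul_mem hxU (mem_sup_right hyO)
  obtain ⟨j, -, hj⟩ := (Nat.dvd_prime_pow (Fact.out : p.Prime)).mp (orderOf_dvd_of_pow_eq_one hzp)
  obtain ⟨P, hzP⟩ := exists_sylow_of_mem (x := (⟨x * y, hzU⟩ : U)) (r := p) ⟨j, by rw [Subgroup.orderOf_mk]; exact hj⟩
  obtain ⟨R, hxR⟩ := exists_sylow_of_mem (x := (⟨x, hxU⟩ : U)) (r := p) ⟨k, by rw [Subgroup.orderOf_mk]; exact hk⟩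
  obtain ⟨c, hc⟩ := MulAction.exists_smul_eq U R P
  have hw : c * ⟨x, hxU⟩ * c⁻¹ ∈ (P : Subgroup U) := by
    rw [← hc, Sylow.coe_subgroup_smul]
    exact ⟨⟨x, hxU⟩, hxR, rfl⟩
  have hfc : Commute (f c) (f x) := by
    have hle : U ≤ (centralizer ({f x} : Set (M ⧸ O))).comap f := sup_le (zpowers_le.mpr (self_mem _)) fun u hu => by
      rw [mem_comap, show f u = 1 from (QuotientGroup.eq_one_iff u).mpr hu]
      exact one_mem _
    exact mem_cent.mp (hle c.2)
  have hfeq : f ((c : M) * x * (c : M)⁻¹) = f (x * y) := by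
    rw [map_mul, map_mul, map_inv, hfz, hfc.eq, mul_inv_cancel_right]
  refine isConj_iff.mpr ⟨c, ?_⟩
  have hd := mul_mem hw (inv_mem hzP)
  obtain ⟨a, ha⟩ := exists_orderOf_eq_pow P.2 hd
  obtain ⟨b, hb⟩ := hOq ((c : M) * x * (c : M)⁻¹ * (x * y)⁻¹) (by
    rw [← QuotientGroup.eq_one_iff (N := O)]
    show f _ = 1
    rw [map_mul _ _ (x * y)⁻¹, map_inv, hfeq, mul_inv_cancel])
  rw [← Subgroup.orderOf_coe] at ha
  refine mul_inv_eq_one.mp (orderOf_eq_one_iff.mp (Nat.eq_one_of_dvd_coprimes (hcoqp (a := b) (b := a)) ?_ ?_))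
  · exact dvd_of_eq hb
  · exact dvd_of_eq ha

end CfsgLib.ConjRankFour
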