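import Cfsg.Agent.Lib.ConjRankFour.Five.QLocal

set_option autoImplicit false
set_option linter.style.haveILetI false

/-!
A layer of prime power order above a normal subgroup of a solvable group, and the regular part of the
centralizer of a `q'`-element.
-/

namespace CfsgLib.ConjRankFour

open Cfsg Subgroup CfsgLib.ConjRankThree

universe u

variable {G : Type u} [Group G] [Finite G]

/-- A normal subgroup above `L` with quotient of prime power order, with one of its Sylow subgroups. -/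
theorem exists_layer {M L : Subgroup G} (hM : Group.IsSolvable M) (hLM : L ≤ M)
    (hn : M ≤ normalizer (L : Set G)) (hne : ¬ M ≤ L) :
    ∃ s : ℕ, s.Prime ∧ ∃ T S : Subgroup G, L ≤ T ∧ T ≤ M ∧ M ≤ normalizer (T : Set G) ∧ S ≤ T ∧ IsPGroup s S ∧
      Nat.card S = s ^ (Nat.card T).factorization s ∧ T ≤ L ⊔ S ∧ ¬ S ≤ L := by
  set L0 := L.subgroupOf M
  haveI hLn : L0.Normal := ⟨fun n hn' g => mem_subgroupOf.mpr
    ((mem_normalizer_iff.mp (hn g.2) _).mp (mem_subgroupOf.mp hn'))⟩
  set f := QuotientGroup.mk' L0 with hf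
  have hfs : Function.Surjective f := QuotientGroup.mk'_surjective _
  haveI : Group.IsSolvable (M ⧸ L0) := Group.isSolvable_of_surjective hfs
  have htop : (⊤ : Subgroup (M ⧸ L0)) ≠ ⊥ := by
    intro h
    obtain ⟨m, hm, hmL⟩ := SetLike.not_le_iff_exists.mp hne
    have : f ⟨m, hm⟩ ∈ (⊥ : Subgroup (M ⧸ L0)) := h ▸ mem_top _
    exact hmL (mem_subgroupOf.mp ((QuotientGroup.eq_one_iff (⟨m, hm⟩ : M)).mp (mem_bot.mp this)))
  obtain ⟨O, hO, -, hO0, hmin⟩ := CfsgLib.exists_minimal_normal htop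
  obtain ⟨-, s, hs, hsO⟩ := CfsgLib.minimal_normal_elementary hO0
    (Group.isSolvable_of_isSolvable_injective (f := O.subtype) (subtype_injective _)) hmin
  haveI := Fact.mk hs
  have hOp : IsPGroup s O := fun x => ⟨1, Subtype.ext (by rw [pow_one]; exact hsO x x.2)⟩
  set T0 := O.comap f
  set T := T0.map M.subtype with hT
  have hLT : L ≤ T := fun a ha => ⟨⟨a, hLM ha⟩,
    (by show f ⟨a, hLM ha⟩ ∈ O; rw [show f ⟨a, hLM ha⟩ = 1 from (QuotientGroup.eq_one_iff _).mpr (mem_subgroupOf.mpr ha)]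
        exact one_mem _), rfl⟩
  obtain ⟨S, hST, hS, hSc⟩ := exists_qgroup_le s T
  haveI : T0.Normal := inferInstance
  refine ⟨s, hs, T, S, hLT, map_subtype_le _, le_normalizer_map_of_normal T0, hST, hS, hSc, ?_⟩
  set J := L ⊔ S with hJ
  have hJT : J ≤ T := sup_le hLT hST
  -- the index of `J` in `T` is a power of `s` and prime to `s`
  have h1 : J.relIndex T ∣ L.relIndex T := relIndex_dvd_of_le_left T le_sup_left
  obtain ⟨a, ha⟩ : ∃ a, L.relIndex T = s ^ a := by
    obtain ⟨a, ha⟩ := hOp.exists_card_eq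
    refine ⟨a, ?_⟩
    have e1 : Nat.card T = Nat.card T0 := card_map_of_injective M.subtype_injective
    have e2 : T0.index * Nat.card T0 = Nat.card M := T0.index_mul_card
    have e3 : T0.index = O.index := O.index_comap_of_surjective hfs
    have e4 : Nat.card M = Nat.card (M ⧸ L0) * Nat.card L0 := L0.card_eq_card_quotient_mul_card_subgroup
    have e5 : Nat.card L0 = Nat.card L := Nat.card_congr (subgroupOfEquivOfLe hLM).toEquiv
    have e6 : Nat.card L * L.relIndex T = Nat.card T := by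
      rw [relIndex, ← Nat.card_congr (subgroupOfEquivOfLe hLT).toEquiv]
      exact (L.subgroupOf T).card_mul_index
    rw [← O.index_mul_card] at e4
    rw [e3, e4, e5, ← e1, ← e6, ha, mul_assoc] at e2
    have h2 := Nat.eq_of_mul_eq_mul_left (Nat.pos_of_ne_zero index_ne_zero_of_finite) e2
    rw [mul_comm (s ^ a)] at h2
    exact Nat.eq_of_mul_eq_mul_left Nat.card_pos h2
  have h3 : ¬ s ∣ J.relIndex T := by
    intro hd
    have h4 : Nat.card J * J.relIndex T = Nat.card T := by
      rw [relIndex, ← Nat.card_congr (subgroupOfEquivOfLe hJT).toEquiv]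
      exact (J.subgroupOf T).card_mul_index
    have h5 := mul_dvd_mul (card_dvd_of_le (le_sup_right : S ≤ J)) hd
    rw [h4, hSc, ← pow_succ, hs.pow_dvd_iff_le_factorization Nat.card_pos.ne'] at h5
    omega
  have hTJ : T ≤ J := by
    obtain ⟨b, -, hb⟩ := (Nat.dvd_prime_pow hs).mp (ha ▸ h1)
    rcases b with - | b
    · exact relIndex_eq_one.mp (by simpa using hb)
    · exact absurd (hb ▸ dvd_pow_self s b.succ_ne_zero) h3
  refine ⟨hTJ, fun hSL => hO0 ((Subgroup.eq_bot_iff_forall O).mpr fun w hw => ?_)⟩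
  obtain ⟨m, rfl⟩ := hfs w
  have hmT : (m : G) ∈ T := ⟨m, hw, rfl⟩
  have hmL : (m : G) ∈ L := (sup_le le_rfl hSL) (hTJ hmT)
  exact (QuotientGroup.eq_one_iff m).mpr (mem_subgroupOf.mpr hmL)

namespace Pure

variable {t : G} {N D q : ℕ} (B : Pure t N D q)
include B

/-- The `q'`-elements of the centralizer of a `q'`-element. -/
noncomputable def part {y : G} (B : Pure t N D q) (hy : Reg' N q y) : Subgroup G where
  carrier := {a | a ∈ centralizer ({y} : Set G) ∧ ¬ q ∣ orderOf a}
  one_mem' := ⟨one_mem _, by rw [orderOf_one]; exact B.hq.not_dvd_one⟩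
  mul_mem' := fun {a b} ha hb => ⟨mul_mem ha.1 hb.1, fun hd => by
    have h : Commute a b := B.cent_comm hy ha.1 hb.1
    exact (B.hq.dvd_mul.mp (hd.trans (h.orderOf_mul_dvd_lcm.trans (Nat.lcm_dvd_mul _ _)))).elim ha.2 hb.2⟩
  inv_mem' := fun {a} ha => ⟨inv_mem ha.1, by rw [orderOf_inv]; exact ha.2⟩

theorem mem_part {y a : G} (hy : Reg' N q y) :
    a ∈ B.part hy ↔ a ∈ centralizer ({y} : Set G) ∧ ¬ q ∣ orderOf a := Iff.rfl

theorem part_normalizer {y : G} (hy : Reg' N q y) :
    normalizer (centralizer ({y} : Set G) : Set G) ≤ normalizer (B.part hy : Set G) := by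
  intro g hg
  refine mem_normalizer_iff.mpr fun a => ?_
  rw [B.mem_part hy, B.mem_part hy, ← MulAut.conj_apply, MulEquiv.orderOf_eq]
  exact and_congr_left fun _ => mem_normalizer_iff.mp hg a

theorem isNilpotent_part {y : G} (hy : Reg' N q y) : Group.IsNilpotent (B.part hy) := by
  letI : CommGroup (B.part hy) :=
    { (inferInstance : Group (B.part hy)) with mul_comm := fun a b => Subtype.ext (B.cent_comm hy a.2.1 b.2.1) }
  exact CommGroup.isNilpotent

theorem self_mem_part {y : G} (hy : Reg' N q y) : y ∈ B.part hy := ⟨self_mem y, hy.2.2⟩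

theorem part_dvd {y : G} (hy : Reg' N q y) : Nat.card (B.part hy) ∣ N :=
  ((card_dvd_of_le (fun _ ha => ha.1 : B.part hy ≤ centralizer ({y} : Set G))).trans
    (dvd_of_eq (B.reg_D hy))).trans B.side.dvd

theorem part_coprime {y : G} (hy : Reg' N q y) {V : Subgroup G} (hV : IsPGroup q V) :
    (Nat.card (B.part hy)).Coprime (Nat.card V) := by
  haveI := Fact.mk B.hq
  obtain ⟨k, hk⟩ := hV.exists_card_eq
  rw [hk]
  refine Nat.Coprime.pow_right k (Nat.Coprime.symm (B.hq.coprime_iff_not_dvd.mpr fun hd => ?_))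
  obtain ⟨a, ha, hao, -⟩ := exists_orderOf_dvd B.hq hd
  exact ha.2 (hao ▸ dvd_rfl)

theorem reg_of_part {y a : G} (hy : Reg' N q y) (ha : a ∈ B.part hy) (h1 : a ≠ 1) : Reg' N q a :=
  B.reg_of_mem (J := B.part hy) (B.part_dvd hy) ha h1 ha.2

theorem fpf_even {g w : G} (hg : orderOf g ∣ cc t) (hw : orderOf w ∣ N) (hg1 : g ≠ 1) (h : g * w = w * g) :
    w = 1 := by
  by_contra hw1
  exact B.side.not_commute_order hg1 hw1 hg hw h

/-- An element of prime order of the other kind. -/
theorem exists_other_kind {M : Subgroup G} (h : ¬ Nat.card M ∣ N) :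
    ∃ l : ℕ, l.Prime ∧ l ∣ Nat.card M ∧ l ∣ cc t ∧ ¬ l ∣ N := by
  by_contra hc
  push Not at hc
  exact h (dvd_of_no_prime B.side.prod fun l hl hlM hlt =>
    hl.ne_one (Nat.eq_one_of_dvd_coprimes B.side.cop hlt (hc l hl hlM hlt)))

end Pure

end CfsgLib.ConjRankFour
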