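import Cfsg.Agent.Lib.ConjRankFour.Five.Two
import Cfsg.Agent.Lib.ConjRankFour.Five.Layer
import Cfsg.Agent.Lib.StrongFusion.LocalFree
import Cfsg.Agent.Lib.CoprimeGen
import Cfsg.Agent.Lib.Frobenius.Splitting

set_option autoImplicit false
set_option linter.style.haveILetI false

/-!
Commuting elements of prime order with the largest centralizers, when `D` is deficient at both primes.
-/

namespace CfsgLib.ConjRankFour

open Cfsg Subgroup CfsgLib.ConjRankThree

universe u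

variable {G : Type u} [Group G] [Finite G]

omit [Finite G] in
theorem cent_conj_congr {a b : G} (e : centralizer ({a} : Set G) = centralizer ({b} : Set G)) (m : G) :
    centralizer ({m * a * m⁻¹} : Set G) = centralizer ({m * b * m⁻¹} : Set G) := by
  ext z
  have h1 := Subgroup.ext_iff.mp e (m⁻¹ * z * m)
  simp only [mem_cent] at h1 ⊢
  have key : ∀ c : G, (m⁻¹ * z * m * c = c * (m⁻¹ * z * m) ↔ z * (m * c * m⁻¹) = m * c * m⁻¹ * z) := fun c => by
    constructor
    · intro h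
      calc z * (m * c * m⁻¹) = m * (m⁻¹ * z * m * c) * m⁻¹ := by group
        _ = m * (c * (m⁻¹ * z * m)) * m⁻¹ := by rw [h]
        _ = _ := by group
    · intro h
      calc m⁻¹ * z * m * c = m⁻¹ * (z * (m * c * m⁻¹)) * m := by group
        _ = m⁻¹ * (m * c * m⁻¹ * z) * m := by rw [h]
        _ = _ := by group
  rwa [key, key] at h1

/-- Inside `C ⊔ S` every Sylow subgroup may replace `S`. -/
theorem le_sup_of_sylow {s : ℕ} [Fact s.Prime] {T C S P : Subgroup G} (hST : S ≤ T) (hPT : P ≤ T)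
    (hS : Nat.card S = s ^ (Nat.card T).factorization s) (hP : Nat.card P = s ^ (Nat.card T).factorization s)
    (hC : T ≤ normalizer (C : Set G)) (hle : T ≤ C ⊔ S) : T ≤ C ⊔ P := by
  let P0 : Sylow s T := Sylow.ofCard (S.subgroupOf T)
    (by rw [Nat.card_congr (subgroupOfEquivOfLe hST).toEquiv, hS])
  let P1 : Sylow s T := Sylow.ofCard (P.subgroupOf T)
    (by rw [Nat.card_congr (subgroupOfEquivOfLe hPT).toEquiv, hP])
  obtain ⟨x, hx⟩ := MulAction.exists_smul_eq T P0 P1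
  have hS' : ∀ a ∈ S, (x : G) * a * (x : G)⁻¹ ∈ P := fun a ha => by
    have h1 : x * (⟨a, hST ha⟩ : T) * x⁻¹ ∈ (P1 : Subgroup T) := by
      rw [← hx, Sylow.coe_subgroup_smul]
      exact ⟨⟨a, hST ha⟩, mem_subgroupOf.mpr ha, rfl⟩
    exact mem_subgroupOf.mp h1
  intro z hz
  have hz' : (x : G)⁻¹ * z * x ∈ C ⊔ S := hle (mul_mem (mul_mem (inv_mem x.2) hz) x.2)
  have hmap : (C ⊔ S).map (MulAut.conj (x : G)).toMonoidHom ≤ C ⊔ P := by
    rw [Subgroup.map_sup]
    refine sup_le_sup ?_ ?_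
    · rintro _ ⟨a, ha, rfl⟩; exact (mem_normalizer_iff.mp (hC x.2) a).mp ha
    · rintro _ ⟨a, ha, rfl⟩; exact hS' a ha
  refine hmap ⟨_, hz', ?_⟩
  show (x : G) * ((x : G)⁻¹ * z * x) * (x : G)⁻¹ = z
  group

/-- The centralizers of the elements of order `p` of `P` whose centralizers have order `N`. -/
def kset (N p : ℕ) (P : Subgroup G) : Set (Subgroup G) :=
  (fun a => centralizer ({a} : Set G)) '' {a | orderOf a = p ∧ cc a = N ∧ a ∈ P}

/-- Central elements of the members commute. -/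
def Good (N : ℕ) (𝒞 : Set (Subgroup G)) : Prop :=
  ∀ a b : G, cc a = N → cc b = N → centralizer ({a} : Set G) ∈ 𝒞 → centralizer ({b} : Set G) ∈ 𝒞 → a * b = b * a

theorem good_kset {N p : ℕ} {P : Subgroup G} (hP : ∀ a ∈ P, ∀ b ∈ P, orderOf a = p → orderOf b = p →
    cc a = N → cc b = N → a * b = b * a) : Good N (kset N p P) := by
  rintro a b - - ⟨a0, ⟨hao, hac, haP⟩, ea⟩ ⟨b0, ⟨hbo, hbc, hbP⟩, eb⟩
  have h1 : a0 ∈ centralizer ({b} : Set G) := by
    rw [← show centralizer ({b0} : Set G) = centralizer ({b} : Set G) from eb]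
    exact mem_cent.mpr (hP a0 haP b0 hbP hao hbo hac hbc)
  have h2 : b ∈ centralizer ({a} : Set G) := by
    rw [← show centralizer ({a0} : Set G) = centralizer ({a} : Set G) from ea]
    exact mem_cent_symm h1
  exact (mem_cent.mp h2).symm

/-- A good set of centralizers of elements of order `p` lies in that of a Sylow subgroup. -/
theorem exists_sylow_kset {N p : ℕ} [Fact p.Prime] {𝒞 : Set (Subgroup G)} (hg : Good N 𝒞)
    (h : ∀ K ∈ 𝒞, ∃ a : G, orderOf a = p ∧ cc a = N ∧ centralizer ({a} : Set G) = K) :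
    ∃ P : Sylow p G, 𝒞 ⊆ kset N p P := by
  set T := {a : G | orderOf a = p ∧ cc a = N ∧ centralizer ({a} : Set G) ∈ 𝒞}
  have hcomm : ∀ x ∈ closure T, ∀ y ∈ closure T, x * y = y * x := by
    intro x hx y hy
    have h1 : ∀ a ∈ T, closure T ≤ centralizer ({a} : Set G) := fun a ha => (closure_le _).mpr fun b hb =>
      mem_cent.mpr (hg b a hb.2.1 ha.2.1 hb.2.2 ha.2.2)
    have h2 : closure T ≤ centralizer ({x} : Set G) := (closure_le _).mpr fun a ha => mem_cent_symm (h1 a ha hx)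
    exact (mem_cent.mp (h2 hy)).symm
  have hp : IsPGroup p (closure T) := fun x => ⟨1, Subtype.ext (by
    rw [pow_one, SubmonoidClass.coe_pow, OneMemClass.coe_one]
    refine closure_induction (p := fun z _ => z ^ p = 1) (fun z hz => hz.1 ▸ pow_orderOf_eq_one z) (one_pow _)
      (fun a b ha hb e1 e2 => by rw [(show Commute a b from hcomm a ha b hb).mul_pow, e1, e2, one_mul])
      (fun a _ e => by rw [inv_pow, e, inv_one]) x.2)⟩
  obtain ⟨P, hP⟩ := hp.exists_le_sylow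
  refine ⟨P, fun K hK => ?_⟩
  obtain ⟨a, hao, hac, rfl⟩ := h K hK
  exact ⟨a, ⟨hao, hac, hP (subset_closure ⟨hao, hac, hK⟩)⟩, rfl⟩

theorem kset_ncard_eq {N p : ℕ} [Fact p.Prime] (P P' : Sylow p G) :
    (kset N p (P : Subgroup G)).ncard = (kset N p (P' : Subgroup G)).ncard := by
  obtain ⟨g, hg⟩ := MulAction.exists_smul_eq G P P'
  have key : ∀ a : G, centralizer ({g * a * g⁻¹} : Set G) =
      (centralizer ({a} : Set G)).map (MulAut.conj g).toMonoidHom := fun a => by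
    ext z
    constructor
    · intro hz
      refine ⟨g⁻¹ * z * g, mem_cent.mpr ?_, by show g * (g⁻¹ * z * g) * g⁻¹ = z; group⟩
      calc g⁻¹ * z * g * a = g⁻¹ * (z * (g * a * g⁻¹)) * g := by group
        _ = g⁻¹ * (g * a * g⁻¹ * z) * g := by rw [mem_cent.mp hz]
        _ = _ := by group
    · rintro ⟨y, hy, rfl⟩
      exact mem_cent.mpr ((show Commute y a from mem_cent.mp hy).map (MulAut.conj g)).eq
  have hmem : ∀ a : G, a ∈ (P : Subgroup G) ↔ g * a * g⁻¹ ∈ (P' : Subgroup G) := fun a => by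
    rw [← hg, CfsgLib.TransferApps.mem_smul_iff, show g⁻¹ * (g * a * g⁻¹) * g = a by group]
  have e : kset N p (P' : Subgroup G) =
      (fun H : Subgroup G => H.map (MulAut.conj g).toMonoidHom) '' kset N p (P : Subgroup G) := by
    ext H
    constructor
    · rintro ⟨a, ⟨hao, hac, haP⟩, rfl⟩
      have ea : g * (g⁻¹ * a * g) * g⁻¹ = a := by group
      refine ⟨_, ⟨g⁻¹ * a * g, ⟨?_, ?_, (hmem _).mpr (ea.symm ▸ haP)⟩, rfl⟩, ?_⟩
      · rw [← MulEquiv.orderOf_eq (MulAut.conj g), MulAut.conj_apply, ea, hao]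
      · rw [← cc_conj g, ea, hac]
      · show (centralizer ({g⁻¹ * a * g} : Set G)).map (MulAut.conj g).toMonoidHom = centralizer {a}
        rw [← key, ea]
    · rintro ⟨_, ⟨a, ⟨hao, hac, haP⟩, rfl⟩, rfl⟩
      exact ⟨g * a * g⁻¹, ⟨(MulEquiv.orderOf_eq (MulAut.conj g) a).trans hao, (cc_conj g a).trans hac,
        (hmem a).mp haP⟩, key a⟩
  rw [e, Set.ncard_image_of_injective _ (Subgroup.map_injective (MulAut.conj g).injective)]

theorem QSide.good {t : G} {N D q : ℕ} (B : QSide t N D q) [Fact q.Prime] (Q : Sylow q G) :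
    Good N (kset N q (Q : Subgroup G)) :=
  good_kset fun _ ha _ hb hao hbo hac hbc => B.locA_comm Q (B.mem_locA_of_cc Q hao hac (B.sylow_le_locM Q ha))
    (B.mem_locA_of_cc Q hbo hbc (B.sylow_le_locM Q hb))

namespace Two

variable {t : G} {N D q r : ℕ} {v w : G} (B : Two t N D q r v w)
include B

/-- Deficiency at both primes. -/
def Deficient (_ : Two t N D q r v w) : Prop :=
  D.factorization q < N.factorization q ∧ D.factorization r < N.factorization r

/-- Elements of prime order outside `q`, `r` are central. -/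
theorem central_other (hd : B.Deficient) {s : ℕ} (hs : s.Prime) (hsq : s ≠ q) (hsr : s ≠ r) {x : G}
    (hx : x ∈ centralizer ({v} : Set G)) (hxs : ∃ i, orderOf x = s ^ i) :
    centralizer ({v} : Set G) ≤ centralizer ({x} : Set G) := by
  haveI := Fact.mk B.hr
  haveI := Fact.mk hs
  by_contra hnc
  set K := centralizer ({v} : Set G) with hK
  obtain ⟨H, hH, hHq, k, hk⟩ := exists_nilpotent_complement (G := K) B.hq (fun y => B.index_reg)
  have hfull : ∀ p : ℕ, p.Prime → p ≠ q → p ^ (Nat.card K).factorization p ∣ Nat.card H := fun p hp hpq => by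
    have h := Nat.ordProj_dvd (Nat.card K) p
    conv_rhs at h => rw [← H.card_mul_index, hk]
    exact (Nat.Coprime.pow _ _ ((Nat.coprime_primes hp B.hq).mpr hpq)).dvd_of_dvd_mul_right h
  obtain ⟨i, hi⟩ := hxs
  obtain ⟨c, -, hc⟩ := exists_conj_mem_of_full (M := K) (q := s) le_top
    (B := H) (by rw [card_top]; exact hfull s hs hsq) (u := ⟨x, hx⟩) (mem_top _)
    ⟨i, by rwa [Subgroup.orderOf_mk]⟩
  set x1 : K := c * ⟨x, hx⟩ * c⁻¹
  obtain ⟨R, hRH, hR, hRc⟩ := exists_qgroup_le r H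
  have hRx : R ≤ centralizer ({x1} : Set K) := fun u hu => by
    haveI := hH
    obtain ⟨j, hj⟩ := exists_orderOf_eq_pow hR hu
    refine mem_cent.mpr (congrArg Subtype.val (CfsgLib.Frob.commute_of_nilpotent_coprime (G := H)
      (a := ⟨u, hRH hu⟩) (b := ⟨x1, hc⟩) ?_).eq)
    rw [show orderOf (⟨u, hRH hu⟩ : H) = orderOf u from Subgroup.orderOf_mk _ _,
      show orderOf (⟨x1, hc⟩ : H) = orderOf x1 from Subgroup.orderOf_mk _ _, hj, show orderOf x1 = orderOf (⟨x, hx⟩ : K) from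
      (MulAut.conj c).orderOf_eq _, Subgroup.orderOf_mk, hi]
    exact Nat.Coprime.pow j i ((Nat.coprime_primes B.hr hs).mpr hsr.symm)
  have hcc : cc x1 = D := by
    rw [cc_conj, cc_sub]
    exact B.card_cent hx (fun hd' => hsq.symm ((Nat.prime_dvd_prime_iff_eq B.hq hs).mp
      (B.hq.dvd_of_dvd_pow (hi ▸ hd')))) hnc
  have h2 := (card_dvd_of_le hRx).trans (dvd_of_eq hcc)
  rw [hRc, B.hr.pow_dvd_iff_le_factorization B.D_ne] at h2
  have h3 := (B.hr.pow_dvd_iff_le_factorization Nat.card_pos.ne').mp (hfull r B.hr B.ne.symm)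
  rw [show Nat.card K = N from B.cv] at h3
  have := hd.2
  omega

variable [IsSimpleGroup G]

/-- No other centralizer of order `N` has a central element of order `q` in this one. -/
theorem cent_eq_of_mem (hd : B.Deficient) {a : G} (ha : orderOf a = q) (hca : cc a = N)
    (hav : a ∈ centralizer ({v} : Set G)) : centralizer ({a} : Set G) = centralizer ({v} : Set G) := by
  classical
  haveI := Fact.mk B.hq
  haveI := Fact.mk B.hr
  by_contra hne
  set K := centralizer ({v} : Set G) with hK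
  have hKN : Nat.card K = N := B.cv
  have hv1 := B.v_ne
  have hqN := B.hqN
  have hrN : r ∣ N := B.symm.hqN
  -- a Sylow subgroup of the centralizer through `a`
  obtain ⟨Q, hQv, haQ⟩ : ∃ Q : Sylow q G, (Q : Subgroup G) ≤ K ∧ a ∈ (Q : Subgroup G) := by
    obtain ⟨P, hP⟩ := exists_sylow_of_mem (x := (⟨a, hav⟩ : K)) (r := q) ⟨1, by rw [Subgroup.orderOf_mk, ha, pow_one]⟩
    refine ⟨Sylow.ofCard ((P : Subgroup K).map K.subtype) ?_, map_subtype_le _, ⟨⟨a, hav⟩, hP, rfl⟩⟩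
    rw [card_map_of_injective K.subtype_injective, P.card_eq_multiplicity, hKN, B.side.fac_eq B.hq hqN]
  have hQc : Nat.card (Q : Subgroup G) = q ^ N.factorization q := by
    rw [Q.card_eq_multiplicity, B.side.fac_eq B.hq hqN]
  have hvQ : v ∈ (Q : Subgroup G) := CfsgLib.TransferApps.mem_sylow_of_mem_normalizer Q
    (centralizer_le_normalizer _ (mem_centralizer_iff.mpr fun u hu => mem_cent.mp (hQv hu)))
    ⟨1, by rw [pow_one, ← B.ov, pow_orderOf_eq_one]⟩
  set 𝒦 := kset N q (Q : Subgroup G) with h𝒦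
  have hg := B.toQ.good Q
  -- the same set from the other prime
  obtain ⟨R', hR'⟩ : ∃ R' : Sylow r G, kset N r (R' : Subgroup G) = 𝒦 := by
    obtain ⟨R', hsub⟩ := exists_sylow_kset (p := r) hg fun K' hK' => by
      obtain ⟨a0, ⟨h1, h2, -⟩, rfl⟩ := hK'
      obtain ⟨c, hc⟩ := B.exists_partner hd.2 h1 h2
      exact ⟨c, hc.ow, hc.cw, hc.ceq⟩
    obtain ⟨Q'', hsub'⟩ := exists_sylow_kset (p := q) (B.symm.toQ.good R') fun K' hK' => by
      obtain ⟨a0, ⟨h1, h2, -⟩, rfl⟩ := hK'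
      obtain ⟨c, hc⟩ := B.symm.exists_partner hd.1 h1 h2
      exact ⟨c, hc.ow, hc.cw, hc.ceq⟩
    exact ⟨R', (Set.eq_of_subset_of_ncard_le hsub (le_trans (Set.ncard_le_ncard hsub') (kset_ncard_eq Q'' Q).le)).symm⟩
  -- representatives
  set T := {x : G | orderOf x = q ∧ cc x = N ∧ centralizer ({x} : Set G) ∈ 𝒦} with hT
  have hTin : ∀ {x : G}, orderOf x = q → cc x = N → x ∈ (Q : Subgroup G) → x ∈ T := fun h1 h2 h3 =>
    ⟨h1, h2, _, ⟨h1, h2, h3⟩, rfl⟩
  have hvT : v ∈ T := hTin B.ov B.cv hvQ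
  have haT : a ∈ T := hTin ha hca haQ
  set H := normalizer T with hH
  set A := closure T with hA
  set C0 := centralizer (A : Set G) with hC0
  have hTcomm : ∀ x ∈ T, ∀ y ∈ T, x * y = y * x := fun x hx y hy => hg x y hx.2.1 hy.2.1 hx.2.2 hy.2.2
  have hAcomm : ∀ x ∈ A, ∀ y ∈ A, x * y = y * x := by
    intro x hx y hy
    have h1 : ∀ a ∈ T, A ≤ centralizer ({a} : Set G) := fun a ha => (closure_le _).mpr fun b hb =>
      mem_cent.mpr (hTcomm b hb a ha)
    have h2 : A ≤ centralizer ({x} : Set G) := (closure_le _).mpr fun a ha => mem_cent_symm (h1 a ha hx)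
    exact (mem_cent.mp (h2 hy)).symm
  have hApow : ∀ x ∈ A, x ^ q = 1 := fun x hx =>
    closure_induction (p := fun z _ => z ^ q = 1) (fun z hz => hz.1 ▸ pow_orderOf_eq_one z) (one_pow _)
      (fun a b ha hb e1 e2 => by rw [(show Commute a b from hAcomm a ha b hb).mul_pow, e1, e2, one_mul])
      (fun a _ e => by rw [inv_pow, e, inv_one]) hx
  have hAq : IsPGroup q A := fun x => ⟨1, Subtype.ext (by rw [pow_one]; exact hApow x x.2)⟩
  have hAN : Nat.card A ∣ N := B.toQ.card_dvd_of_isPGroup hAq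
  have hvA : v ∈ A := subset_closure hvT
  have hAK : A ≤ K := fun x hx => mem_cent.mpr (hAcomm x hx v hvA)
  have hC0K : C0 ≤ K := fun x hx => mem_cent.mpr (mem_centralizer_iff.mp hx v hvA).symm
  have hHA : H ≤ normalizer (A : Set G) := by
    have key : ∀ h ∈ H, ∀ z ∈ A, h * z * h⁻¹ ∈ A := fun h hh z hz => by
      have hle : A.map (MulAut.conj h).toMonoidHom ≤ A := by
        rw [hA, MonoidHom.map_closure]
        refine closure_mono ?_
        rintro _ ⟨x, hx, rfl⟩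
        exact (mem_set_normalizer_iff.mp hh x).mp hx
      exact hle ⟨z, hz, rfl⟩
    exact fun h hh => mem_normalizer_iff.mpr fun z => ⟨key h hh z, fun hz => by
      have := key h⁻¹ (inv_mem hh) _ hz
      rwa [show h⁻¹ * (h * z * h⁻¹) * h⁻¹⁻¹ = z by group] at this⟩
  have hodd : Odd (Nat.card H) := by
    refine (B.side.odd_local (J := A) (fun e => hv1 (mem_bot.mp (e ▸ hvA))) hAN).of_dvd_nat (card_dvd_of_le hHA)
  have hHC : H ≤ normalizer (C0 : Set G) := fun h hh => mem_normalizer_iff.mpr fun z =>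
    ⟨mem_centralizer_conj (hHA hh), fun hz => by
      have := mem_centralizer_conj (inv_mem (hHA hh)) hz
      rwa [show h⁻¹ * (h * z * h⁻¹) * h⁻¹⁻¹ = z by group] at this⟩
  have hstable : ∀ g : G, (∀ K' ∈ 𝒦, ∃ x : G, centralizer ({x} : Set G) = K' ∧
      centralizer ({g * x * g⁻¹} : Set G) ∈ 𝒦) → ∀ x ∈ T, g * x * g⁻¹ ∈ T := fun g hg' x hx => by
    obtain ⟨y, hy, hy'⟩ := hg' _ hx.2.2
    exact ⟨(MulEquiv.orderOf_eq (MulAut.conj g) x).trans hx.1, (cc_conj g x).trans hx.2.1,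
      cent_conj_congr hy g ▸ hy'⟩
  have hmemH : ∀ W : Subgroup G, (∀ g ∈ W, ∀ x ∈ T, g * x * g⁻¹ ∈ T) → W ≤ H := fun W hW g hg' =>
    mem_set_normalizer_iff.mpr fun x => ⟨hW g hg' x, fun hx => by
      have := hW g⁻¹ (inv_mem hg') _ hx
      rwa [show g⁻¹ * (g * x * g⁻¹) * g⁻¹⁻¹ = x by group] at this⟩
  have hMH : B.toQ.locM Q ≤ H := hmemH _ fun g hg' => hstable g fun K' hK' => by
    obtain ⟨x, ⟨h1, h2, h3⟩, rfl⟩ := hK'
    have h4 := B.toQ.mem_locA_of_cc Q h1 h2 (B.toQ.sylow_le_locM Q h3)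
    exact ⟨x, rfl, _, ⟨(MulEquiv.orderOf_eq (MulAut.conj g) x).trans h1, (cc_conj g x).trans h2,
      B.toQ.locA_le Q ((mem_normalizer_iff.mp hg' x).mp h4)⟩, rfl⟩
  have hR'H : (R' : Subgroup G) ≤ H := hmemH _ fun g hg' => hstable g fun K' hK' => by
    rw [← hR'] at hK' ⊢
    obtain ⟨x, ⟨h1, h2, h3⟩, rfl⟩ := hK'
    exact ⟨x, rfl, _, ⟨(MulEquiv.orderOf_eq (MulAut.conj g) x).trans h1, (cc_conj g x).trans h2,
      mul_mem (mul_mem hg' h3) (inv_mem hg')⟩, rfl⟩
  have hQH : (Q : Subgroup G) ≤ H := (B.toQ.sylow_le_locM Q).trans hMH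
  -- transitivity
  have htrans : ∀ K' ∈ 𝒦, ∃ m ∈ H, centralizer ({m * v * m⁻¹} : Set G) = K' := by
    rintro _ ⟨x, ⟨h1, h2, h3⟩, rfl⟩
    obtain ⟨P, hP⟩ := exists_sylow_le' (x := x) (r := q) (by rw [h2, B.side.fac_eq B.hq hqN]; exact Nat.ordProj_dvd N q)
    obtain ⟨g, hg'⟩ := MulAction.exists_smul_eq G P Q
    set x' := g * x * g⁻¹
    have hQx : (Q : Subgroup G) ≤ centralizer ({x'} : Set G) := by
      intro u hu
      rw [← hg', CfsgLib.TransferApps.mem_smul_iff] at hu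
      have h4 := mem_cent.mp (hP hu)
      rw [mem_cent]
      calc u * (g * x * g⁻¹) = g * (g⁻¹ * u * g * x) * g⁻¹ := by group
        _ = g * (x * (g⁻¹ * u * g)) * g⁻¹ := by rw [h4]
        _ = _ := by simp only [x']; group
    have hxo : orderOf x' = q := (MulEquiv.orderOf_eq (MulAut.conj g) x).trans h1
    have hx'K : x' ∈ K := mem_cent_symm (hQx hvQ)
    have hx'1 : x' ≠ 1 := fun e => B.hq.one_lt.ne (by rw [← hxo, e, orderOf_one])
    have heq := B.central_of_sylow hd.1 hx'1 (fun hd' => B.ne.symm ((Nat.prime_dvd_prime_iff_eq B.hr B.hq).mp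
      (hxo ▸ hd'))) hx'K hQv hQc hQx
    have hx'Q : x' ∈ (Q : Subgroup G) :=
      B.toQ.locA_le Q (B.toQ.central_mem_locA Q (hxo ▸ pow_orderOf_eq_one x') hQx)
    obtain ⟨m, hm, hma⟩ := B.toQ.control Q (S := {x'}) (Set.singleton_subset_iff.mpr hx'Q) (g := g⁻¹)
      (by rintro _ rfl; rw [show g⁻¹ * x' * g⁻¹⁻¹ = x by simp only [x']; group]; exact h3)
    refine ⟨m, hMH hm, ?_⟩
    rw [← cent_conj_congr heq m, ← hma x' rfl, show g⁻¹ * x' * g⁻¹⁻¹ = x by simp only [x']; group]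
  -- a full Sylow subgroup for the second prime in the stabilizer
  obtain ⟨R, hRK, hRH, hR, hRc⟩ : ∃ R : Subgroup G, R ≤ K ∧ R ≤ H ∧ IsPGroup r R ∧
      Nat.card R = r ^ N.factorization r := by
    obtain ⟨z, hz1, hzo, hzR, hzc⟩ := exists_central_sylow (hrN.trans (Dvd.intro_left _ B.side.prod)) R'
    obtain ⟨i, hi⟩ := hzo
    have hi0 : i ≠ 0 := fun e => hz1 (by simpa [e] using hi)
    set c := z ^ (orderOf z / r)
    have hco : orderOf c = r := orderOf_pow_orderOf_div (orderOf_pos z).ne' (hi ▸ dvd_pow_self r hi0)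
    have hc1 : c ≠ 1 := fun e => B.hr.one_lt.ne (by rw [← hco, e, orderOf_one])
    have hRcc : (R' : Subgroup G) ≤ centralizer ({c} : Set G) := hzc.trans (cent_le_pow z _)
    have hcc : cc c = N := (B.side.val_odd hc1 (hco ▸ hrN)).resolve_right fun e => by
      have h2 := card_dvd_of_le hRcc
      rw [show Nat.card (centralizer ({c} : Set G)) = D from e, R'.card_eq_multiplicity, B.side.fac_eq B.hr hrN,
        B.hr.pow_dvd_iff_le_factorization B.D_ne] at h2
      have := hd.2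
      omega
    have hK1 : centralizer ({c} : Set G) ∈ 𝒦 := hR' ▸ ⟨c, ⟨hco, hcc, pow_mem hzR _⟩, rfl⟩
    obtain ⟨m, hm, hme⟩ := htrans _ hK1
    refine ⟨(R' : Subgroup G).map (MulAut.conj m⁻¹).toMonoidHom, ?_, ?_, R'.2.map _, ?_⟩
    · rintro _ ⟨u, hu, rfl⟩
      show m⁻¹ * u * m⁻¹⁻¹ ∈ K
      have h1 := mem_cent.mp (hme ▸ hRcc hu : u ∈ centralizer ({m * v * m⁻¹} : Set G))
      rw [hK, mem_cent]
      calc m⁻¹ * u * m⁻¹⁻¹ * v = m⁻¹ * (u * (m * v * m⁻¹)) * m := by group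
        _ = m⁻¹ * (m * v * m⁻¹ * u) * m := by rw [h1]
        _ = _ := by group
    · rintro _ ⟨u, hu, rfl⟩
      exact mul_mem (mul_mem (inv_mem hm) (hR'H hu)) (inv_mem (inv_mem hm))
    · rw [card_map_of_injective (MulAut.conj m⁻¹).injective, R'.card_eq_multiplicity, B.side.fac_eq B.hr hrN]
  -- it cannot centralize the representatives
  suffices hRC : R ≤ C0 by
    have hnc : ¬ centralizer ({w} : Set G) ≤ centralizer ({a} : Set G) := by
      rw [B.ceq]
      exact fun hle => hne (eq_of_le_of_card_ge hle (hca.trans B.cv.symm).le).symm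
    have h1 := B.symm.card_cent (x := a) (by rw [B.ceq]; exact hav)
      (fun hd' => B.ne.symm ((Nat.prime_dvd_prime_iff_eq B.hr B.hq).mp (ha ▸ hd'))) hnc
    rw [B.ceq] at h1
    have h2 := card_dvd_of_le (le_inf hRK fun u hu =>
      mem_cent.mpr (mem_centralizer_iff.mp (hRC hu) a (subset_closure haT)).symm : R ≤ K ⊓ centralizer {a})
    rw [h1, hRc, B.hr.pow_dvd_iff_le_factorization B.D_ne] at h2
    have := hd.2
    omega
  by_contra hRC
  haveI hHs : Group.IsSolvable H := B.side.isSolvable hodd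
  have hC0H : C0 ≤ H := fun c hc => mem_set_normalizer_iff.mpr fun x => by
    constructor
    · intro hx
      rw [← mem_centralizer_iff.mp hc x (subset_closure hx), mul_inv_cancel_right]; exact hx
    · intro hx
      have h1 := mem_centralizer_iff.mp hc _ (subset_closure hx)
      rw [inv_mul_cancel_right] at h1
      rw [mul_left_cancel h1.symm] at hx
      exact hx
  obtain ⟨s, hs, TL, S, hCT, hTH, hHT, hST, hS, hSc, hTS, hSC⟩ := exists_layer hHs hC0H hHC
    (fun h => hRC (hRH.trans h))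
  haveI := Fact.mk hs
  -- the prime of the layer is of the other kind
  have hsN : ¬ s ∣ N := by
    intro hsN
    obtain ⟨P, hPK, hPH, hP, hPc⟩ : ∃ P : Subgroup G, P ≤ K ∧ P ≤ H ∧ IsPGroup s P ∧
        Nat.card P = s ^ N.factorization s := by
      by_cases hsq : s = q
      · subst hsq; exact ⟨Q, hQv, hQH, Q.2, hQc⟩
      by_cases hsr : s = r
      · subst hsr; exact ⟨R, hRK, hRH, hR, hRc⟩
      obtain ⟨P, hPK, hP, hPc⟩ := exists_qgroup_le s K
      refine ⟨P, hPK, fun u hu => hC0H (mem_centralizer_iff.mpr fun x hx => ?_), hP, hKN ▸ hPc⟩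
      exact mem_cent.mp (B.central_other hd hs hsq hsr (hPK hu) (exists_orderOf_eq_pow hP hu) (hAK hx))
    have hTK : ∀ K' ∈ 𝒦, TL ≤ K' := by
      intro K' hK'
      obtain ⟨m, hm, hme⟩ := htrans K' hK'
      set P' := P.map (MulAut.conj m).toMonoidHom
      have hP'H : P' ≤ H := by
        rintro _ ⟨u, hu, rfl⟩; exact mul_mem (mul_mem hm (hPH hu)) (inv_mem hm)
      have hP'K : P' ≤ K' := by
        rintro _ ⟨u, hu, rfl⟩
        rw [← hme, mem_cent]
        exact ((show Commute u v from mem_cent.mp (hPK hu)).map (MulAut.conj m)).eq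
      have hndvd : ¬ s ∣ P'.relIndex H := by
        intro hd'
        have h4 : Nat.card P' * P'.relIndex H = Nat.card H := by
          rw [relIndex, ← Nat.card_congr (subgroupOfEquivOfLe hP'H).toEquiv]
          exact (P'.subgroupOf H).card_mul_index
        have h5 := (mul_dvd_mul_left (Nat.card P') hd').trans ((dvd_of_eq h4).trans (card_subgroup_dvd_card H))
        rw [card_map_of_injective (MulAut.conj m).injective, hPc, ← pow_succ,
          hs.pow_dvd_iff_le_factorization Nat.card_pos.ne', B.side.fac_eq hs hsN] at h5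
        omega
      have hndvd' := CfsgLib.StrongFusion.not_dvd_relIndex_inf hP'H (hP.map _) hndvd hTH
        fun y hy c hc => (mem_normalizer_iff.mp (hHT hy) c).mp hc
      have hcard : Nat.card (P' ⊓ TL : Subgroup G) = s ^ (Nat.card TL).factorization s := by
        obtain ⟨j, hj⟩ := ((hP.map (MulAut.conj m).toMonoidHom).to_le (inf_le_left : P' ⊓ TL ≤ P')).exists_card_eq
        have h4 : Nat.card (P' ⊓ TL : Subgroup G) * (P' ⊓ TL).relIndex TL = Nat.card TL := by
          rw [relIndex, ← Nat.card_congr (subgroupOfEquivOfLe (inf_le_right : P' ⊓ TL ≤ TL)).toEquiv]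
          exact ((P' ⊓ TL).subgroupOf TL).card_mul_index
        rw [← h4, hj, Nat.factorization_mul (pow_ne_zero _ hs.ne_zero)
          (show (P' ⊓ TL).relIndex TL ≠ 0 from index_ne_zero_of_finite),
          Finsupp.add_apply, hs.factorization_pow, Finsupp.single_eq_same,
          Nat.factorization_eq_zero_of_not_dvd hndvd', add_zero]
      refine (le_sup_of_sylow hST inf_le_right hSc hcard (hTH.trans hHC) hTS).trans (sup_le ?_ (inf_le_left.trans hP'K))
      obtain ⟨x, hx, rfl⟩ := hK'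
      exact fun c hc => mem_cent.mpr (mem_centralizer_iff.mp hc x (subset_closure (hTin hx.1 hx.2.1 hx.2.2))).symm
    refine hSC fun σ hσ => mem_centralizer_iff.mpr fun x hx => ?_
    refine closure_induction (p := fun z _ => z * σ = σ * z) (fun z hz => ?_) (by simp) ?_ ?_ hx
    · exact (mem_cent.mp (hTK _ hz.2.2 (hST hσ))).symm
    · intro a b _ _ e1 e2
      exact ((show Commute a σ from e1).mul_left (show Commute b σ from e2)).eq
    · intro a _ e1
      exact ((show Commute a σ from e1).inv_left).eq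
  have hSt : ∀ {σ : G}, σ ∈ S → orderOf σ ∣ cc t := fun {σ} hσ => by
    obtain ⟨i, hi⟩ := exists_orderOf_eq_pow hS hσ
    have h1 : s ^ i ∣ cc t * N := B.side.prod.symm ▸ hi ▸ orderOf_dvd_natCard σ
    exact hi ▸ ((hs.coprime_iff_not_dvd.mpr hsN).pow_left i).dvd_of_dvd_mul_right h1
  -- the centre of `S` is cyclic
  set Z := (center S).map S.subtype with hZ
  have hZS : Z ≤ S := map_subtype_le _
  have hS1 : Nontrivial S := (nontrivial_iff_ne_bot S).mpr fun e => hSC (e ▸ bot_le)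
  haveI := hS.center_nontrivial
  obtain ⟨⟨⟨z0, hz0⟩, hz0c⟩, hz01⟩ := exists_ne (1 : center S)
  have hz0Z : z0 ∈ Z := ⟨⟨z0, hz0⟩, hz0c, rfl⟩
  have hz0' : z0 ≠ 1 := fun e => hz01 (Subtype.ext (Subtype.ext e))
  haveI hZc : IsMulCommutative Z := ⟨⟨by
    rintro ⟨_, ⟨x, hx, rfl⟩⟩ ⟨_, ⟨y, -, rfl⟩⟩
    exact Subtype.ext (congrArg Subtype.val (mem_center_iff.mp hx y)).symm⟩⟩
  haveI hcyc : IsCyclic Z := by
    by_contra hnc
    have hZA : Z ≤ normalizer (A : Set G) := (hZS.trans (hST.trans hTH)).trans hHA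
    obtain ⟨i, hi⟩ := (hS.to_le hZS).exists_card_eq
    have hgen := CfsgLib.coprime_generated_by_centralizers hnc hZA
      (by rw [hi]; exact (hs.coprime_iff_not_dvd.mpr fun hd' => hsN (hd'.trans hAN)).pow_left i)
    have hbot : (⨆ e ∈ {e : G | e ∈ Z ∧ e ≠ 1}, A ⊓ centralizer {e}) = ⊥ := by
      refine le_bot_iff.mp (iSup₂_le fun e he x hx => mem_bot.mpr ?_)
      obtain ⟨hxA, hxe⟩ := mem_inf.mp hx
      by_contra hx1
      exact B.side.not_commute_order he.2 hx1 (hSt (hZS he.1)) (B.side.mem_type hAN hxA) (mem_cent.mp hxe).symm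
    exact hv1 (mem_bot.mp (hbot ▸ hgen.symm ▸ hvA))
  have hNZ : normalizer (S : Set G) ≤ normalizer (Z : Set G) := by
    rw [hZ]
    exact (CfsgLib.le_normalizer_map_characteristic le_rfl (center S)).1
  -- modulo the centralizer the stabilizer in `K` is abelian
  have hab : ∀ x ∈ H ⊓ K, ∀ u ∈ H ⊓ K, x * u * x⁻¹ * u⁻¹ ∈ C0 := by
    have hdec : ∀ x ∈ H ⊓ K, ∃ c ∈ C0, c * x ∈ K ⊓ normalizer (S : Set G) := by
      rintro x ⟨hxH, hxK⟩
      obtain ⟨y, hy, hyx⟩ := exists_frattini hST hSc (hHT hxH)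
      obtain ⟨c, hc, s0, hs0, he⟩ := CfsgLib.mem_sup_of_le_normalizer ((hST.trans hTH).trans hHC) (hTS (inv_mem hy))
      refine ⟨c⁻¹, inv_mem hc, mem_inf.mpr ⟨mul_mem (inv_mem (hC0K hc)) hxK, ?_⟩⟩
      have := mul_mem (le_normalizer hs0 : s0 ∈ normalizer (S : Set G)) hyx
      rwa [show s0 * (y * x) = c⁻¹ * x by
        rw [show s0 = c⁻¹ * y⁻¹ by rw [← he]; group]; group] at this
    intro x hx u hu
    obtain ⟨c, hc, hcx⟩ := hdec x hx
    obtain ⟨d, hd', hdu⟩ := hdec u hu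
    have hcomm : c * x * (d * u) = d * u * (c * x) := by
      let f := Subgroup.normalizerMonoidHom Z
      set X : normalizer (Z : Set G) := ⟨c * x, hNZ hcx.2⟩
      set U : normalizer (Z : Set G) := ⟨d * u, hNZ hdu.2⟩
      have h1 : f (X * U * X⁻¹ * U⁻¹) = 1 := by
        refine (IsCyclic.mulAutMulEquiv Z).injective ?_
        rw [map_mul f, map_mul f, map_mul f, map_inv f, map_inv f, map_mul, map_mul, map_mul, map_inv, map_inv,
          map_one, mul_comm ((IsCyclic.mulAutMulEquiv Z) (f X))]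
        group
      set k := c * x * (d * u) * (c * x)⁻¹ * (d * u)⁻¹
      have h2 : k * z0 * k⁻¹ = z0 := congrArg (fun φ : MulAut Z => ((φ ⟨z0, hz0Z⟩ : Z) : G)) h1
      have hkK : k ∈ K := mul_mem (mul_mem (mul_mem hcx.1 hdu.1) (inv_mem hcx.1)) (inv_mem hdu.1)
      have hk1 : k = 1 := by
        by_contra hk1
        exact B.side.not_commute_order hz0' hk1 (hSt hz0) (B.ord_dvd hkK) (mul_inv_eq_iff_eq_mul.mp h2).symm
      rwa [mul_inv_eq_one, mul_inv_eq_iff_eq_mul] at hk1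
    set C0' := C0.subgroupOf H
    haveI : C0'.Normal := ⟨fun n hn g => mem_subgroupOf.mpr
      ((mem_normalizer_iff.mp (hHC g.2) _).mp (mem_subgroupOf.mp hn))⟩
    set g := QuotientGroup.mk' C0'
    have hc1 : g ⟨c, hC0H hc⟩ = 1 := (QuotientGroup.eq_one_iff _).mpr (mem_subgroupOf.mpr hc)
    have hd1 : g ⟨d, hC0H hd'⟩ = 1 := (QuotientGroup.eq_one_iff _).mpr (mem_subgroupOf.mpr hd')
    have h3 := congrArg g (show (⟨c, hC0H hc⟩ : H) * ⟨x, hx.1⟩ * (⟨d, hC0H hd'⟩ * ⟨u, hu.1⟩) =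
      ⟨d, hC0H hd'⟩ * ⟨u, hu.1⟩ * (⟨c, hC0H hc⟩ * ⟨x, hx.1⟩) from Subtype.ext hcomm)
    rw [map_mul g, map_mul g, map_mul g, map_mul g, map_mul g, map_mul g, hc1, hd1, one_mul, one_mul] at h3
    have h4 : g (⟨x, hx.1⟩ * ⟨u, hu.1⟩ * ⟨x, hx.1⟩⁻¹ * ⟨u, hu.1⟩⁻¹) = 1 := by
      rw [map_mul g, map_mul g, map_mul g, map_inv g, map_inv g, h3]; group
    exact mem_subgroupOf.mp ((QuotientGroup.eq_one_iff _).mp h4)
  -- an element of `R` moving a representative
  obtain ⟨x, hxR, hxC⟩ := SetLike.not_le_iff_exists.mp hRC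
  let φ : A →* A :=
    { toFun := fun b => ⟨x * b * x⁻¹ * (b : G)⁻¹,
        mul_mem ((mem_normalizer_iff.mp (hHA (hRH hxR)) b).mp b.2) (inv_mem b.2)⟩
      map_one' := Subtype.ext (by simp)
      map_mul' := fun b b' => Subtype.ext (by
        show x * ((b : G) * b') * x⁻¹ * ((b : G) * b')⁻¹ = x * b * x⁻¹ * (b : G)⁻¹ * (x * b' * x⁻¹ * (b' : G)⁻¹)
        have h1 : Commute (b : G)⁻¹ (x * b' * x⁻¹ * (b' : G)⁻¹) := hAcomm _ (inv_mem b.2) _
          (mul_mem ((mem_normalizer_iff.mp (hHA (hRH hxR)) b').mp b'.2) (inv_mem b'.2))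
        rw [mul_assoc (x * (b : G) * x⁻¹), h1.eq]
        group) }
  set W := φ.range.map A.subtype
  have hWA : W ≤ A := map_subtype_le _
  by_cases hW : W = ⊥
  · refine hxC (mem_centralizer_iff.mpr fun b hb => ?_)
    have h1 : x * b * x⁻¹ * b⁻¹ = 1 := mem_bot.mp (hW ▸ ⟨φ ⟨b, hb⟩, ⟨⟨b, hb⟩, rfl⟩, rfl⟩)
    rw [mul_inv_eq_one, mul_inv_eq_iff_eq_mul] at h1
    exact h1.symm
  have hQW : (Q : Subgroup G) ≤ normalizer (W : Set G) := by
    have key : ∀ u ∈ (Q : Subgroup G), ∀ y ∈ W, u * y * u⁻¹ ∈ W := by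
      rintro u hu _ ⟨_, ⟨b, rfl⟩, rfl⟩
      have hub : u * b * u⁻¹ ∈ A := (mem_normalizer_iff.mp (hHA (hQH hu)) b).mp b.2
      refine ⟨φ ⟨_, hub⟩, ⟨⟨_, hub⟩, rfl⟩, ?_⟩
      show x * (u * b * u⁻¹) * x⁻¹ * (u * b * u⁻¹)⁻¹ = u * (x * b * x⁻¹ * (b : G)⁻¹) * u⁻¹
      have h1 := hab x ⟨hRH hxR, hRK hxR⟩ u ⟨hQH hu, hQv hu⟩
      have h3 : x * b * x⁻¹ ∈ A := (mem_normalizer_iff.mp (hHA (hRH hxR)) b).mp b.2
      have h4 : u * (x * b * x⁻¹) * u⁻¹ ∈ A := (mem_normalizer_iff.mp (hHA (hQH hu)) _).mp h3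
      have h2 := mem_centralizer_iff.mp h1 _ h4
      calc x * (u * b * u⁻¹) * x⁻¹ * (u * b * u⁻¹)⁻¹
          = x * u * x⁻¹ * u⁻¹ * (u * (x * b * x⁻¹) * u⁻¹) * (x * u * x⁻¹ * u⁻¹)⁻¹ * (u * b * u⁻¹)⁻¹ := by group
        _ = u * (x * b * x⁻¹) * u⁻¹ * (x * u * x⁻¹ * u⁻¹) * (x * u * x⁻¹ * u⁻¹)⁻¹ * (u * b * u⁻¹)⁻¹ := by rw [h2]
        _ = _ := by group
    exact fun u hu => mem_normalizer_iff.mpr fun y => ⟨key u hu y, fun hy => by
      have := key u⁻¹ (inv_mem hu) _ hy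
      rwa [show u⁻¹ * (u * y * u⁻¹) * u⁻¹⁻¹ = y by group] at this⟩
  have hWQ : W ≤ (Q : Subgroup G) :=
    le_sup_left.trans (Q.is_maximal' ((hAq.to_le hWA).to_sup_of_normal_left' Q.2 hQW) le_sup_right).le
  haveI : (W.subgroupOf (Q : Subgroup G)).Normal := (normal_subgroupOf_iff_le_normalizer hWQ).mpr hQW
  haveI := Q.2.isNilpotent
  have hWne : W.subgroupOf (Q : Subgroup G) ≠ ⊥ := fun e => hW ((Subgroup.eq_bot_iff_forall W).mpr fun y hy => by
    have : (⟨y, hWQ hy⟩ : (Q : Subgroup G)) ∈ W.subgroupOf (Q : Subgroup G) := mem_subgroupOf.mpr hy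
    rw [e, mem_bot] at this
    exact congrArg Subtype.val this)
  obtain ⟨y, hy, hy1⟩ : ∃ y ∈ W.subgroupOf (Q : Subgroup G) ⊓ center (Q : Subgroup G), y ≠ 1 := by
    by_contra hc
    push Not at hc
    exact CfsgLib.inf_center_ne_bot_of_nilpotent hWne ((Subgroup.eq_bot_iff_forall _).mpr hc)
  obtain ⟨hyW, hyc⟩ := mem_inf.mp hy
  have hy1' : (y : G) ≠ 1 := fun e => hy1 (Subtype.ext e)
  have hyo : orderOf (y : G) = q := orderOf_eq_prime (hApow _ (hWA (mem_subgroupOf.mp hyW))) hy1'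
  have heq := B.central_of_sylow hd.1 hy1' (fun hd' => B.ne.symm ((Nat.prime_dvd_prime_iff_eq B.hr B.hq).mp
    (hyo ▸ hd'))) (hAK (hWA (mem_subgroupOf.mp hyW))) hQv hQc
    (fun u hu => mem_cent.mpr (congrArg Subtype.val (mem_center_iff.mp hyc ⟨u, hu⟩)))
  obtain ⟨_, ⟨b, rfl⟩, hb⟩ := mem_subgroupOf.mp hyW
  have hb' : x * b * x⁻¹ * (b : G)⁻¹ = y := hb
  have hxy : x * y = y * x := mem_cent.mp (heq.symm ▸ hRK hxR)
  have hxb : x * b * x⁻¹ = y * b := by rw [← hb']; group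
  have hpow : ∀ n : ℕ, x ^ n * b * (x ^ n)⁻¹ = (y : G) ^ n * b := by
    intro n
    induction n with
    | zero => simp
    | succ n ih =>
      calc x ^ (n + 1) * b * (x ^ (n + 1))⁻¹ = x * (x ^ n * b * (x ^ n)⁻¹) * x⁻¹ := by
            rw [pow_succ']; group
        _ = x * (y : G) ^ n * b * x⁻¹ := by rw [ih]; group
        _ = (y : G) ^ n * x * b * x⁻¹ := by rw [((show Commute x (y : G) from hxy).pow_right n).eq]
        _ = (y : G) ^ n * (x * b * x⁻¹) := by simp only [mul_assoc]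
        _ = (y : G) ^ (n + 1) * b := by rw [hxb, ← mul_assoc, ← pow_succ]
  have h1 := hpow (orderOf x)
  rw [pow_orderOf_eq_one, one_mul, inv_one, mul_one] at h1
  obtain ⟨j, hj⟩ := exists_orderOf_eq_pow hR hxR
  refine hy1' (orderOf_eq_one_iff.mp (Nat.eq_one_of_dvd_coprimes
    (((Nat.coprime_primes B.hq B.hr).mpr B.ne).pow_right j) (dvd_of_eq hyo) ?_))
  exact hj ▸ orderOf_dvd_of_pow_eq_one (mul_eq_right.mp h1.symm)

end Two

end CfsgLib.ConjRankFour
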