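import Cfsg.Agent.Lib.ConjRankFour.Five.Clique
import Cfsg.Agent.S1442
import Cfsg.Agent.Lib.PRegularClass

set_option autoImplicit false
set_option linter.style.haveILetI false

/-!
A centralizer of order `N` with two primes in its centre is nilpotent.
-/

namespace CfsgLib.ConjRankFour

open Cfsg Subgroup CfsgLib.ConjRankThree
open scoped commutatorElement

universe u

variable {G : Type u} [Group G] [Finite G] [IsSimpleGroup G]

namespace Two

variable {t : G} {N D q r : ℕ} {v w : G} (B : Two t N D q r v w)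
include B

theorem deficient_symm (hd : B.Deficient) : B.symm.Deficient := ⟨hd.2, hd.1⟩

theorem cent_le_of_q (hd : B.Deficient) {x : G} (hx : x ∈ centralizer ({v} : Set G))
    (hxq : ∃ i, orderOf x = q ^ i) (hnc : ¬ centralizer ({v} : Set G) ≤ centralizer ({x} : Set G)) :
    cc x = D ∧ centralizer ({x} : Set G) ≤ centralizer ({v} : Set G) := by
  obtain ⟨i, hi⟩ := hxq
  have hx1 : x ≠ 1 := fun e => hnc (e ▸ fun u _ => mem_cent.mpr (by simp))
  have hi0 : i ≠ 0 := fun e => hx1 (by simpa [e] using hi)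
  set x' := x ^ (orderOf x / q)
  have hx'o : orderOf x' = q := orderOf_pow_orderOf_div (orderOf_pos x).ne' (hi ▸ dvd_pow_self q hi0)
  have hx'1 : x' ≠ 1 := fun e => B.hq.one_lt.ne (by rw [← hx'o, e, orderOf_one])
  have hD : cc x = D := by
    refine (B.side.val_odd hx1 (B.ord_dvd hx)).resolve_left fun h => ?_
    have hle := cent_le_pow x (orderOf x / q)
    have hx'N : cc x' = N := by
      refine (B.side.val_odd hx'1 (hx'o ▸ B.hqN)).resolve_right fun e => B.side.ne (Nat.dvd_antisymm B.side.dvd ?_)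
      exact e ▸ h ▸ cc_le_of_le hle
    have e1 := B.cent_eq_of_mem hd hx'o hx'N (pow_mem hx _)
    have e2 : centralizer ({x} : Set G) = centralizer ({x'} : Set G) :=
      eq_of_le_of_card_ge hle (hx'N.trans h.symm).le
    exact hnc (e1.ge.trans e2.ge)
  refine ⟨hD, ?_⟩
  have hnc' : ¬ centralizer ({w} : Set G) ≤ centralizer ({x} : Set G) := by rw [B.ceq]; exact hnc
  have h1 := B.symm.card_cent (x := x) (by rw [B.ceq]; exact hx)
    (fun hd' => B.ne.symm ((Nat.prime_dvd_prime_iff_eq B.hr B.hq).mp (B.hr.dvd_of_dvd_pow (hi ▸ hd')))) hnc'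
  rw [B.ceq] at h1
  exact (eq_of_le_of_card_ge inf_le_right (hD.trans h1.symm).le).ge.trans inf_le_left

theorem cent_le_of_r (hd : B.Deficient) {x : G} (hx : x ∈ centralizer ({v} : Set G))
    (hxr : ∃ i, orderOf x = r ^ i) (hnc : ¬ centralizer ({v} : Set G) ≤ centralizer ({x} : Set G)) :
    cc x = D ∧ centralizer ({x} : Set G) ≤ centralizer ({v} : Set G) := by
  have h := B.symm.cent_le_of_q (B.deficient_symm hd) (x := x) (by rw [B.ceq]; exact hx) hxr (by rw [B.ceq]; exact hnc)
  rwa [B.ceq] at h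

/-- Commuting non-central elements of orders powers of `q` and of `r` have one centralizer. -/
theorem cent_eq_pair (hd : B.Deficient) {a b : G} (hav : a ∈ centralizer ({v} : Set G))
    (hbv : b ∈ centralizer ({v} : Set G)) (haq : ∃ i, orderOf a = q ^ i) (hbr : ∃ i, orderOf b = r ^ i)
    (hna : ¬ centralizer ({v} : Set G) ≤ centralizer ({a} : Set G))
    (hnb : ¬ centralizer ({v} : Set G) ≤ centralizer ({b} : Set G)) (hab : Commute a b) :
    centralizer ({a} : Set G) = centralizer ({b} : Set G) := by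
  obtain ⟨hDa, -⟩ := B.cent_le_of_q hd hav haq hna
  obtain ⟨hDb, -⟩ := B.cent_le_of_r hd hbv hbr hnb
  have hco := coprime_of_not_eq B.hq B.hr B.ne haq hbr
  have hmul := mul_cent hab hco
  have ha1 : a ≠ 1 := fun e => hna (e ▸ fun u _ => mem_cent.mpr (by simp))
  have hval := B.side.val_odd (mul_ne_one_of_coprime ha1 hco) (B.ord_dvd (mul_mem hav hbv))
  have hD : cc (a * b) = D := hval.resolve_left fun h =>
    B.side.ne (Nat.dvd_antisymm B.side.dvd (h ▸ hDa ▸ cc_le_of_le (hmul.le.trans inf_le_left)))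
  exact (eq_of_le_of_card_ge (hmul.le.trans inf_le_left) (hDa.trans hD.symm).le).symm.trans
    (eq_of_le_of_card_ge (hmul.le.trans inf_le_right) (hDb.trans hD.symm).le)

/-- The `q`-core of the centralizer is central. -/
theorem core_central (hd : B.Deficient) :
    ∀ c ∈ (pCore q (centralizer ({v} : Set G))).map (centralizer ({v} : Set G)).subtype,
      centralizer ({v} : Set G) ≤ centralizer ({c} : Set G) := by
  classical
  haveI := Fact.mk B.hq
  haveI := Fact.mk B.hr
  set K := centralizer ({v} : Set G) with hK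
  have hKN : Nat.card K = N := B.cv
  set U := (pCore q K).map K.subtype with hU
  intro c0 hc0
  by_contra hnc0
  have hUK : U ≤ K := map_subtype_le _
  have hUq : IsPGroup q U := (isPGroup_pCore q).map _
  have hKU : K ≤ normalizer (U : Set G) := le_normalizer_map_of_normal _
  have hUord : ∀ {c : G}, c ∈ U → ∃ i, orderOf c = q ^ i := fun hc => exists_orderOf_eq_pow hUq hc
  -- the central part
  set Zk := K ⊓ centralizer (K : Set G) with hZk
  have hcen : ∀ {x : G}, x ∈ K → (x ∈ Zk ↔ K ≤ centralizer ({x} : Set G)) := fun {x} hx => by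
    refine ⟨fun h u hu => mem_cent.mpr (mem_centralizer_iff.mp h.2 u hu), fun h => mem_inf.mpr ⟨hx, ?_⟩⟩
    exact mem_centralizer_iff.mpr fun u hu => mem_cent.mp (h hu)
  -- the elements of `r`-power order in centralizers
  obtain ⟨R, hRK, hR, hRc⟩ := exists_qgroup_le r K
  rw [hKN] at hRc
  obtain ⟨Rz, hRzK, hRz, hRzc⟩ := exists_qgroup_le r Zk
  have hZK : Zk ≤ K := inf_le_left
  -- a non-central element of order a power of `r` centralizing `c0`
  obtain ⟨b, hbK, hbc, hbr, hnb⟩ : ∃ b ∈ K, b ∈ centralizer ({c0} : Set G) ∧ (∃ i, orderOf b = r ^ i) ∧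
      ¬ K ≤ centralizer ({b} : Set G) := by
    obtain ⟨hDc, hcK⟩ := B.cent_le_of_q hd (hUK hc0) (hUord hc0) hnc0
    obtain ⟨P, hPC, hP, hPc⟩ := exists_qgroup_le r (centralizer ({c0} : Set G))
    rw [show Nat.card (centralizer ({c0} : Set G)) = D from hDc] at hPc
    by_contra hall
    push Not at hall
    have hPZ : P ≤ Zk := fun x hx => (hcen (hcK (hPC hx))).mpr
      (hall x (hcK (hPC hx)) (hPC hx) (exists_orderOf_eq_pow hP hx))
    -- some non-central element of `R`
    obtain ⟨b, hbR, hnb⟩ : ∃ b ∈ R, ¬ K ≤ centralizer ({b} : Set G) := by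
      by_contra hc
      push Not at hc
      have h1 : R ≤ centralizer ({c0} : Set G) := fun x hx => mem_cent_symm (hc x hx (hUK hc0))
      have h2 := card_dvd_of_le h1
      rw [show Nat.card (centralizer ({c0} : Set G)) = D from hDc, hRc,
        B.hr.pow_dvd_iff_le_factorization B.D_ne] at h2
      have := hd.2
      omega
    obtain ⟨hDb, -⟩ := B.cent_le_of_r hd (hRK hbR) (exists_orderOf_eq_pow hR hbR) hnb
    obtain ⟨i, hi⟩ := exists_orderOf_eq_pow hR hbR
    have hn : zpowers b ≤ normalizer (Rz : Set G) := zpowers_le.mpr (centralizer_le_normalizer _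
      (mem_centralizer_iff.mpr fun z hz => (mem_centralizer_iff.mp (mem_inf.mp (hRzK hz)).2 b (hRK hbR)).symm))
    have hJ : IsPGroup r (Rz ⊔ zpowers b : Subgroup G) :=
      hRz.to_sup_of_normal_left' (IsPGroup.of_card (n := i) (by rw [Nat.card_zpowers, hi])) hn
    have hJC : Rz ⊔ zpowers b ≤ centralizer ({b} : Set G) := sup_le
      (fun z hz => mem_cent.mpr (mem_centralizer_iff.mp (mem_inf.mp (hRzK hz)).2 b (hRK hbR)).symm)
      (zpowers_le.mpr (self_mem b))
    have h1 := card_dvd_of_le hPZ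
    rw [hPc, B.hr.pow_dvd_iff_le_factorization Nat.card_pos.ne'] at h1
    have h2 : Nat.card (Rz ⊔ zpowers b : Subgroup G) ∣ D := hDb ▸ card_dvd_of_le hJC
    have e := eq_of_qgroup (q := r) (Nat.card_pos (α := Zk)).ne' hJ le_sup_left hRzc (by
      obtain ⟨j, hj⟩ := hJ.exists_card_eq
      rw [hj] at h2 ⊢
      exact (Nat.pow_dvd_pow r (((B.hr.pow_dvd_iff_le_factorization B.D_ne).mp h2).trans h1)).trans (Nat.ordProj_dvd _ r))
    exact hnb ((hcen (hRK hbR)).mp (hRzK (e ▸ mem_sup_right (mem_zpowers b))))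
  -- `b` centralizes the core
  set A := zpowers b
  have hbU : U ≤ centralizer ({b} : Set G) := by
    obtain ⟨i, hi⟩ := hbr
    have hle := Cfsg.Agent.S1442.result U A hUq.isNilpotent (zpowers_le.mpr (hKU hbK)) (by
      obtain ⟨j, hj⟩ := hUq.exists_card_eq
      rw [Nat.card_zpowers, hi, hj]
      exact Nat.Coprime.pow i j ((Nat.coprime_primes B.hr B.hq).mpr B.ne.symm)) (by
      intro x hx
      obtain ⟨hxU, hxC⟩ := mem_inf.mp hx
      have hc0A : c0 ∈ U ⊓ centralizer (A : Set G) := by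
        refine mem_inf.mpr ⟨hc0, mem_centralizer_iff.mpr fun z hz => ?_⟩
        obtain ⟨j, rfl⟩ := hz
        exact ((show Commute b c0 from mem_cent.mp hbc).zpow_left j).eq
      have hxc : x ∈ centralizer ({c0} : Set G) := mem_cent.mpr (mem_centralizer_iff.mp hxC c0 hc0A).symm
      rw [B.cent_eq_pair hd (hUK hc0) hbK (hUord hc0) ⟨i, hi⟩ hnc0 hnb (mem_cent.mp hbc).symm] at hxc
      refine mem_inf.mpr ⟨hxU, mem_centralizer_iff.mpr fun z hz => ?_⟩
      obtain ⟨j, rfl⟩ := hz
      exact ((show Commute x b from mem_cent.mp hxc).symm.zpow_left j).eq)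
    exact fun x hx => mem_cent.mpr (mem_centralizer_iff.mp (hle (mem_zpowers b)) x hx)
  have hsame : ∀ c ∈ U, ¬ K ≤ centralizer ({c} : Set G) → centralizer ({c} : Set G) = centralizer ({b} : Set G) :=
    fun c hc hnc => B.cent_eq_pair hd (hUK hc) hbK (hUord hc) hbr hnc hnb (mem_cent.mp (hbU hc))
  set C0 := centralizer ({b} : Set G)
  obtain ⟨hDb, hC0K⟩ := B.cent_le_of_r hd hbK hbr hnb
  have hC0n : K ≤ normalizer (C0 : Set G) := by
    intro k hk
    have hk0 : k * c0 * k⁻¹ ∈ U := (mem_normalizer_iff.mp (hKU hk) c0).mp hc0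
    have hnk : ¬ K ≤ centralizer ({k * c0 * k⁻¹} : Set G) := fun hle => hnc0 fun u hu => by
      have h1 : Commute (k * u * k⁻¹) (k * c0 * k⁻¹) :=
        mem_cent.mp (hle (mul_mem (mul_mem hk hu) (inv_mem hk)))
      have h2 := h1.map (MulAut.conj k⁻¹)
      simp only [MulAut.conj_apply] at h2
      refine mem_cent.mpr ?_
      rw [show k⁻¹ * (k * u * k⁻¹) * k⁻¹⁻¹ = u by group, show k⁻¹ * (k * c0 * k⁻¹) * k⁻¹⁻¹ = c0 by group] at h2
      exact h2.eq
    rw [mem_normalizer_iff]
    intro z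
    show z ∈ centralizer ({b} : Set G) ↔ k * z * k⁻¹ ∈ centralizer ({b} : Set G)
    conv_lhs => rw [show centralizer ({b} : Set G) = centralizer ({c0} : Set G) from (hsame c0 hc0 hnc0).symm]
    conv_rhs => rw [show centralizer ({b} : Set G) = centralizer ({k * c0 * k⁻¹} : Set G) from (hsame _ hk0 hnk).symm]
    simp only [mem_cent]
    rw [show k * z * k⁻¹ * (k * c0 * k⁻¹) = k * (z * c0) * k⁻¹ by group,
      show k * c0 * k⁻¹ * (k * z * k⁻¹) = k * (c0 * z) * k⁻¹ by group]
    exact ⟨fun h => by rw [h], fun h => mul_left_cancel (mul_right_cancel h)⟩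
  -- the elements of `q`-power order of `C0` form the core
  have hqC : ∀ a ∈ C0, (∃ i, orderOf a = q ^ i) → a ∈ U := by
    have hcomm : ∀ a a' : G, a ∈ C0 → a' ∈ C0 → (∃ i, orderOf a = q ^ i) → Commute a a' := by
      intro a a' ha ha' haq
      by_cases hna : K ≤ centralizer ({a} : Set G)
      · exact (show Commute a' a from mem_cent.mp (hna (hC0K ha'))).symm
      · have e := B.cent_eq_pair hd (hC0K ha) hbK haq hbr hna hnb (mem_cent.mp ha)
        exact (show Commute a' a from mem_cent.mp (e.symm ▸ ha' : a' ∈ centralizer ({a} : Set G))).symm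
    let W : Subgroup G :=
      { carrier := {a | a ∈ C0 ∧ ∃ i, orderOf a = q ^ i}
        one_mem' := ⟨one_mem _, 0, by simp⟩
        mul_mem' := fun {a a'} ha ha' => by
          obtain ⟨i, hi⟩ := ha.2
          obtain ⟨j, hj⟩ := ha'.2
          obtain ⟨l, -, hl⟩ := (Nat.dvd_prime_pow B.hq).mp
            (((hcomm a a' ha.1 ha'.1 ha.2).orderOf_mul_dvd_lcm.trans (Nat.lcm_dvd_mul _ _)).trans
              (dvd_of_eq (by rw [hi, hj, ← pow_add])))
          exact ⟨mul_mem ha.1 ha'.1, l, hl⟩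
        inv_mem' := fun {a} ha => ⟨inv_mem ha.1, by simpa using ha.2⟩ }
    haveI hWn : (W.subgroupOf K).Normal := ⟨fun a ha k => by
      rw [mem_subgroupOf] at ha ⊢
      obtain ⟨h1, i, hi⟩ := ha
      exact ⟨(mem_normalizer_iff.mp (hC0n k.2) _).mp h1, i, ((MulAut.conj (k : G)).orderOf_eq (a : G)).trans hi⟩⟩
    have hWq : IsPGroup q W := fun a => by
      obtain ⟨i, hi⟩ := a.2.2
      exact ⟨i, Subtype.ext (show (a : G) ^ q ^ i = 1 by rw [← hi, pow_orderOf_eq_one])⟩
    intro a ha haq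
    have hp : IsPGroup q (W.subgroupOf K) := hWq.comap_subtype
    exact ⟨⟨a, hC0K ha⟩, CfsgLib.le_pCore hp (mem_subgroupOf.mpr ⟨ha, haq⟩), rfl⟩
  have hUC0 : U ≤ C0 := hbU
  -- an element of `r`-power order outside `C0`
  obtain ⟨x, hxR, hxC⟩ : ∃ x ∈ R, x ∉ C0 := by
    by_contra hc
    push Not at hc
    have h2 := card_dvd_of_le (show R ≤ C0 from hc)
    rw [show Nat.card C0 = D from hDb, hRc, B.hr.pow_dvd_iff_le_factorization B.D_ne] at h2
    have := hd.2
    omega
  have hxK := hRK hxR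
  obtain ⟨jx, hjx⟩ := exists_orderOf_eq_pow hR hxR
  have hnx : ¬ K ≤ centralizer ({x} : Set G) := fun h => hxC (mem_cent_symm (h hbK))
  have hUx : ∀ c ∈ U, x * c = c * x → K ≤ centralizer ({c} : Set G) := by
    intro c hc hcx
    by_contra hnc
    exact hxC (hsame c hc hnc ▸ mem_cent.mpr hcx)
  obtain ⟨hDx, hxCK⟩ := B.cent_le_of_r hd hxK ⟨jx, hjx⟩ hnx
  -- an element of `q`-power order centralizing `x` outside the core
  obtain ⟨u, huK, hux, ⟨iu, hiu⟩, huU⟩ : ∃ u ∈ K, u * x = x * u ∧ (∃ i, orderOf u = q ^ i) ∧ u ∉ U := by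
    obtain ⟨P, hPC, hP, hPc⟩ := exists_qgroup_le q (centralizer ({x} : Set G))
    rw [show Nat.card (centralizer ({x} : Set G)) = D from hDx] at hPc
    obtain ⟨P0, hP0C, hP0, hP0c⟩ := exists_qgroup_le q C0
    rw [show Nat.card C0 = D from hDb] at hP0c
    by_contra hall
    push Not at hall
    have hPU : P ≤ U := fun y hy => hall y (hxCK (hPC hy)) (mem_cent.mp (hPC hy)) (exists_orderOf_eq_pow hP hy)
    have hUP0 : U ≤ P := by
      refine (eq_of_le_of_card_ge hPU ?_).ge
      obtain ⟨j, hj⟩ := hUq.exists_card_eq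
      have h1 := card_dvd_of_le hUC0
      rw [show Nat.card C0 = D from hDb, hj, B.hq.pow_dvd_iff_le_factorization B.D_ne] at h1
      rw [hj, hPc]
      exact Nat.pow_le_pow_right B.hq.pos h1
    exact hnc0 (hUx c0 hc0 (mem_cent.mp (hPC (hUP0 hc0))).symm)
  -- a non-central element of the core moved centrally by `u`
  obtain ⟨c, hcU, hnc, hcu⟩ : ∃ c ∈ U, ¬ K ≤ centralizer ({c} : Set G) ∧
      K ≤ centralizer ({⁅c, u⁆} : Set G) := by
    set P1 := U ⊔ zpowers u
    have hP1 : IsPGroup q P1 := hUq.to_sup_of_normal_left'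
      (IsPGroup.of_card (n := iu) (by rw [Nat.card_zpowers, hiu])) (zpowers_le.mpr (hKU huK))
    haveI : Group.IsNilpotent P1 := hP1.isNilpotent
    obtain ⟨n, hn⟩ := Subgroup.nilpotent_iff_lowerCentralSeries.mp (inferInstance : Group.IsNilpotent P1)
    have hex : ∃ i, ∀ z : P1, z ∈ Subgroup.lowerCentralSeries (⊤ : Subgroup P1) i → (z : G) ∈ U →
        K ≤ centralizer ({(z : G)} : Set G) :=
      ⟨n, fun z hz _ => by
        rw [hn, mem_bot] at hz
        subst hz
        exact fun k _ => mem_cent.mpr (by simp)⟩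
    have h0 := Nat.find_spec hex
    rcases hm : Nat.find hex with - | m
    · rw [hm] at h0
      exact absurd (h0 ⟨c0, mem_sup_left hc0⟩ (mem_top _) hc0) hnc0
    · rw [hm] at h0
      have hlt : ¬ ∀ z : P1, z ∈ Subgroup.lowerCentralSeries (⊤ : Subgroup P1) m → (z : G) ∈ U →
          K ≤ centralizer ({(z : G)} : Set G) := Nat.find_min hex (by omega)
      push Not at hlt
      obtain ⟨z, hz, hzU, hzn⟩ := hlt
      refine ⟨z, hzU, hzn, h0 ⁅z, ⟨u, mem_sup_right (mem_zpowers u)⟩⁆
        (Subgroup.commutator_mem_commutator hz (mem_top _)) ?_⟩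
      show (z : G) * u * (z : G)⁻¹ * u⁻¹ ∈ U
      rw [show (z : G) * u * (z : G)⁻¹ * u⁻¹ = (z : G) * (u * (z : G)⁻¹ * u⁻¹) by group]
      exact mul_mem hzU ((mem_normalizer_iff.mp (hKU huK) _).mp (inv_mem hzU))
  -- it commutes with `u`
  set z := ⁅c, u⁆ with hz
  have hzU : z ∈ U := by
    rw [hz, commutatorElement_def, show c * u * c⁻¹ * u⁻¹ = c * (u * c⁻¹ * u⁻¹) by group]
    exact mul_mem hcU ((mem_normalizer_iff.mp (hKU huK) _).mp (inv_mem hcU))
  have hzc : ∀ k ∈ K, k * z = z * k := fun k hk => mem_cent.mp (hcu hk)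
  -- conjugates of `c` by powers of `x`
  let d : ℕ → G := fun i => x ^ i * c * (x ^ i)⁻¹
  have hdU : ∀ i, d i ∈ U := fun i => (mem_normalizer_iff.mp (hKU (pow_mem hxK i)) c).mp hcU
  have hdu : ∀ i, d i * u * (d i)⁻¹ = z * u := fun i => by
    have h1 : Commute (x ^ i) u := (show Commute u x from hux).symm.pow_left i
    have h2 : c * u * c⁻¹ = z * u := by rw [hz, commutatorElement_def]; group
    calc d i * u * (d i)⁻¹ = x ^ i * c * ((x ^ i)⁻¹ * (u * x ^ i)) * c⁻¹ * (x ^ i)⁻¹ := by simp only [d]; group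
      _ = x ^ i * c * ((x ^ i)⁻¹ * (x ^ i * u)) * c⁻¹ * (x ^ i)⁻¹ := by rw [h1.eq]
      _ = x ^ i * (c * u * c⁻¹) * (x ^ i)⁻¹ := by group
      _ = x ^ i * z * (u * (x ^ i)⁻¹) := by rw [h2]; group
      _ = z * x ^ i * ((x ^ i)⁻¹ * u) := by rw [hzc _ (pow_mem hxK i), h1.inv_left.eq]
      _ = z * u := by group
  have hUcomm : ∀ a ∈ U, ∀ a' ∈ U, a * a' = a' * a := fun a ha a' ha' => by
    by_cases hna : K ≤ centralizer ({a} : Set G)
    · exact (mem_cent.mp (hna (hUK ha'))).symm
    · exact (mem_cent.mp (hsame a ha hna ▸ hUC0 ha' : a' ∈ centralizer ({a} : Set G))).symm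
  let π : ℕ → G := fun n => Nat.rec 1 (fun i p => p * d i) n
  have hπU : ∀ n, π n ∈ U := fun n => by
    induction n with
    | zero => exact one_mem _
    | succ n ih => exact mul_mem ih (hdU n)
  have hπu : ∀ n, π n * u * (π n)⁻¹ = z ^ n * u := fun n => by
    induction n with
    | zero => simp [π]
    | succ n ih =>
      calc π (n + 1) * u * (π (n + 1))⁻¹ = π n * (d n * u * (d n)⁻¹) * (π n)⁻¹ := by
            simp only [π]; group
        _ = π n * z * u * (π n)⁻¹ := by rw [hdu]; group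
        _ = z * (π n * u * (π n)⁻¹) := by rw [hzc (π n) (hUK (hπU n))]; group
        _ = z ^ (n + 1) * u := by rw [ih, ← mul_assoc, ← pow_succ']
  have hshift : ∀ n, x * π n * x⁻¹ * c = π n * d n := fun n => by
    induction n with
    | zero => simp [π, d]
    | succ n ih =>
      have e1 : x * d n * x⁻¹ = d (n + 1) := by simp only [d, pow_succ']; group
      calc x * π (n + 1) * x⁻¹ * c = x * π n * x⁻¹ * (d (n + 1) * c) := by
            rw [← e1]; simp only [π]; group
        _ = x * π n * x⁻¹ * c * d (n + 1) := by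
            rw [hUcomm _ (hdU (n + 1)) c hcU, mul_assoc (x * π n * x⁻¹) c]
        _ = π (n + 1) * d (n + 1) := by rw [ih]
  have hx0 := hshift (orderOf x)
  rw [show d (orderOf x) = c by simp [d, pow_orderOf_eq_one]] at hx0
  have hπx : x * π (orderOf x) * x⁻¹ = π (orderOf x) := mul_right_cancel hx0
  have hπc := hUx _ (hπU (orderOf x)) (mul_inv_eq_iff_eq_mul.mp hπx)
  have h1 := hπu (orderOf x)
  rw [(mem_cent.mp (hπc huK)).symm, mul_inv_cancel_right] at h1
  have hzn : z ^ orderOf x = 1 := mul_eq_right.mp h1.symm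
  obtain ⟨iz, hiz⟩ := hUord hzU
  have hz1 : z = 1 := orderOf_eq_one_iff.mp (Nat.eq_one_of_dvd_coprimes
    (Nat.Coprime.pow iz jx ((Nat.coprime_primes B.hq B.hr).mpr B.ne)) (dvd_of_eq hiz)
    (hjx ▸ orderOf_dvd_of_pow_eq_one hzn))
  rw [hz, commutatorElement_eq_one_iff_mul_comm] at hz1
  exact huU (hqC u (hsame c hcU hnc ▸ mem_cent.mpr hz1.symm) ⟨iu, hiu⟩)

theorem not_deficient (hd : B.Deficient) : False := by
  haveI := Fact.mk B.hq
  haveI := Fact.mk B.hr
  set K := centralizer ({v} : Set G) with hK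
  have hKN : Nat.card K = N := B.cv
  haveI : Group.IsSolvable K := B.side.isSolvable (by rw [hKN]; exact B.side.odd)
  have hF : fittingSubgroup K ≤ center K := by
    rw [CfsgLib.fittingSubgroup_eq_iSup_pCore]
    refine iSup_le fun s c hc => ?_
    have hcen : K ≤ centralizer ({(c : G)} : Set G) := by
      rcases eq_or_ne (s : ℕ) q with e | e
      · exact B.core_central hd c ⟨c, e ▸ hc, rfl⟩
      rcases eq_or_ne (s : ℕ) r with e' | e'
      · have key : ∀ H H' : Subgroup G, H = H' → ∀ x ∈ (pCore r H).map H.subtype,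
            x ∈ (pCore r H').map H'.subtype := by
          rintro _ _ rfl x hx; exact hx
        have h := B.symm.core_central (B.deficient_symm hd) c (key _ _ B.ceq.symm c ⟨c, e' ▸ hc, rfl⟩)
        rwa [B.ceq] at h
      · haveI := Fact.mk s.2
        obtain ⟨i, hi⟩ := exists_orderOf_eq_pow (isPGroup_pCore (G := K) (s : ℕ)) hc
        exact B.central_other hd s.2 e e' c.2 ⟨i, by rw [Subgroup.orderOf_coe]; exact hi⟩
    exact mem_center_iff.mpr fun u => Subtype.ext (mem_cent.mp (hcen u.2))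
  refine B.side.nonabelian B.cv fun a ha b' hb => ?_
  have h1 : ∀ x : K, x ∈ center K := fun x => hF (centralizer_fitting_le_of_solvable
    (mem_centralizer_iff.mpr fun y hy => (mem_center_iff.mp (hF hy) x).symm))
  exact congrArg Subtype.val (mem_center_iff.mp (h1 ⟨b', hb⟩) ⟨a, ha⟩)

/-- The centralizer is nilpotent. -/
theorem isNilpotent : Group.IsNilpotent (centralizer ({v} : Set G)) := by
  have hle : ∀ p, D.factorization p ≤ N.factorization p :=
    (Nat.factorization_le_iff_dvd B.D_ne B.side.N_pos.ne').mpr B.side.dvd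
  by_cases hq' : D.factorization q = N.factorization q
  · exact B.nilpotent_of_full hq'
  by_cases hr' : D.factorization r = N.factorization r
  · exact B.ceq ▸ B.symm.nilpotent_of_full hr'
  exact (B.not_deficient ⟨lt_of_le_of_ne (hle q) hq', lt_of_le_of_ne (hle r) hr'⟩).elim

end Two

end CfsgLib.ConjRankFour
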