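import Cfsg.Agent.Lib.ConjRankFour.Five.Isolated
import Cfsg.Agent.Lib.ConjRankFour.Five.ClassPow
import Cfsg.Agent.Lib.PRegularClass
import Cfsg.Agent.S4035
import Cfsg.Agent.S2969

set_option autoImplicit false
set_option linter.style.haveILetI false

/-!
Five values, the second head having an abelian centralizer containing those of its elements: every
centralizer of an involution has a normal 2-complement.
-/

namespace CfsgLib.ConjRankFour

open Cfsg Subgroup CfsgLib.ConjRankThree

universe u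

variable {G : Type u} [Group G] [Finite G]

/-- Without a normal 2-complement some element of odd order has class of even size. -/
theorem exists_odd_even_class {M : Type u} [Group M] [Finite M] (h : ¬ HasNormalPComplement 2 M) :
    ∃ y : M, Odd (orderOf y) ∧ 2 ∣ (centralizer ({y} : Set M)).index := by
  haveI := Fact.mk Nat.prime_two
  by_contra hc
  push Not at hc
  obtain ⟨P⟩ : Nonempty (Sylow 2 M) := inferInstance
  obtain ⟨-, H, hHn, hH2, -, hsup⟩ := Cfsg.Agent.S4035.result (p := 2) (fun y hy => by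
    rw [CfsgLib.ncard_carrier_eq_index_centralizer]
    exact hc y (Nat.coprime_two_right.mp hy)) P
  haveI := hHn
  refine h (hasNormalPComplement_of_index (N := H) ((Nat.prime_two.coprime_iff_not_dvd.mpr hH2).symm) fun q hq hd => ?_)
  have h1 : H.index ∣ Nat.card (P : Subgroup M) := by
    rw [← relIndex_top_right, ← hsup, relIndex_sup_right]
    exact relIndex_dvd_card _ _
  obtain ⟨j, hj⟩ := P.2.exists_card_eq
  exact (Nat.prime_dvd_prime_iff_eq hq Nat.prime_two).mp (hq.dvd_of_dvd_pow (hj ▸ hd.trans h1))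

/-- Five values with an abelian second centralizer. -/
theorem all_good [IsSimpleGroup G] (hna : ¬ IsMulCommutative G) {x1 x2 : G} (hx1 : x1 ≠ 1) (hx2 : x2 ≠ 1)
    {p : ℕ} (hp : p.Prime) (ho : ∃ k, orderOf x1 = p ^ k)
    (hco : (centralizer ({x1} : Set G)).index.Coprime (centralizer ({x2} : Set G)).index)
    (hJ : (cc x1).Coprime (cc x2)) (hprod : cc x1 * cc x2 = Nat.card G)
    (hcomm : ∀ a ∈ centralizer ({x2} : Set G), ∀ b ∈ centralizer ({x2} : Set G), a * b = b * a)
    (hcent : ∀ a ∈ centralizer ({x2} : Set G), a ≠ 1 → centralizer ({a} : Set G) = centralizer {x2})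
    (hdo : ∀ y : G, y ≠ 1 → cc y ∣ cc x1 ∨ cc y ∣ cc x2) (hhead : ∀ y : G, y ≠ 1 → cc x1 ∣ cc y → cc y = cc x1)
    (h2 : 2 ∣ cc x1) (h5 : (orders G).ncard ≤ 5) :
    ∀ t : G, orderOf t = 2 → HasNormalPComplement 2 (centralizer ({t} : Set G)) := by
  haveI := Fact.mk Nat.prime_two
  haveI := mono_of_simple hna
  have hnboth : ∀ y : G, y ≠ 1 → cc y ∣ cc x1 → ¬ cc y ∣ cc x2 := fun y hy h1 h2' => hy (orderOf_eq_one_iff.mp
    (Nat.eq_one_of_dvd_coprimes hJ ((orderOf_dvd_cc (self_mem y)).trans h1) ((orderOf_dvd_cc (self_mem y)).trans h2')))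
  have hinv : ∀ v : G, orderOf v = 2 → cc v ∣ cc x1 ∧ cc v ≠ cc x1 := by
    intro v hv
    have hv1 : v ≠ 1 := fun e => by simp [e] at hv
    have hd : cc v ∣ cc x1 := (hdo v hv1).resolve_right fun hd => by
      have := Nat.eq_one_of_dvd_coprimes hJ h2 ((hv ▸ orderOf_dvd_cc (self_mem v)).trans hd)
      omega
    refine ⟨hd, fun e => no_involution hna hv hx2 (index_coprime_iff.mpr fun r hr => ?_) (e ▸ hJ) (e ▸ hprod) hcomm hcent⟩
    rw [e]
    exact index_coprime_iff.mp hco r hr
  have hfull : ∀ y : G, cc y = cc x1 → 2 ^ (Nat.card G).factorization 2 ∣ cc y := by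
    intro y e
    rw [e]
    rcases index_coprime_iff.mp hco 2 Nat.prime_two with h | h
    · exact h
    · exfalso
      have := Nat.eq_one_of_dvd_coprimes hJ h2 ((dvd_pow_self 2
        (Nat.prime_two.factorization_pos_of_dvd Nat.card_pos.ne' (two_dvd_card hna)).ne').trans h)
      omega
  have hiso : ∀ y : G, cc y = cc x1 → ∀ s : ℕ, s.Prime → (∃ k, orderOf y = s ^ k) → y ≠ 1 → Iso y s := by
    intro y e s hs hso hy
    refine ⟨hs, fun hs2 => ?_, hso, hy, fun g hg => ?_, hfull y e⟩
    · obtain ⟨k, hk⟩ := hso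
      subst hs2
      obtain ⟨j, rfl⟩ : ∃ j, k = j + 1 := Nat.exists_eq_succ_of_ne_zero fun e0 => hy (by simpa [e0] using hk)
      have hv : orderOf (y ^ 2 ^ j) = 2 := by
        rw [orderOf_pow_of_dvd (pow_pos two_pos j).ne' (hk ▸ pow_dvd_pow 2 (Nat.le_succ j)), hk, pow_succ,
          Nat.mul_div_cancel_left _ (pow_pos two_pos j)]
      have hne : y ^ 2 ^ j ≠ 1 := fun e0 => by simp [e0] at hv
      exact (hinv _ hv).2 (hhead _ hne (e ▸ cc_le_of_le (cent_le_pow y _)))
    · have hc : (centralizer ({y} : Set G)).index.Coprime (centralizer ({x2} : Set G)).index :=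
        index_coprime_iff.mpr fun r hr => e.symm ▸ index_coprime_iff.mp hco r hr
      have h1 := mem_cent.mp (isolated_of_cc hna hy hx2 hc (e.symm ▸ hJ) (e.symm ▸ hprod) hcomm hcent g⁻¹
        (mem_cent.mpr (by rw [inv_inv]; exact hg.eq.symm)))
      calc g * y * g⁻¹ = g * (y * g⁻¹) := mul_assoc _ _ _
        _ = g * (g⁻¹ * y) := by rw [h1]
        _ = y := mul_inv_cancel_left g y
  have I := hiso x1 rfl p hp ho hx1
  set H := centralizer ({x1} : Set G) with hH
  obtain ⟨i, hi, hiH, hle⟩ := I.exists_not_le hna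
  intro t ht
  by_contra hbad
  obtain ⟨hid, hine⟩ := hinv i hi
  have hi1 : i ≠ 1 := fun e => by simp [e] at hi
  have hix : Commute i x1 := mem_cent.mp hiH
  have hcop : ∀ {u : G} {s : ℕ}, s.Prime → s ≠ 2 → (∃ k, orderOf u = s ^ k) → (orderOf i).Coprime (orderOf u) :=
    fun hs hs2 hu => coprime_of_not_eq Nat.prime_two hs hs2.symm ⟨1, by rw [hi, pow_one]⟩ hu
  have hY := mul_cent hix (hcop hp I.odd ho)
  set y0 := i * x1 with hy0d
  have hy0 : y0 ≠ 1 := mul_ne_one_of_coprime hi1 (hcop hp I.odd ho)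
  have hγα : cc y0 ∣ cc i := cc_le_of_le (hY.le.trans inf_le_left)
  have hγ1 : cc y0 ∣ cc x1 := cc_le_of_le (hY.le.trans inf_le_right)
  have hγne : cc y0 ≠ cc i := fun e => hle (by
    rw [← (eq_of_le_of_card_ge (hY.le.trans inf_le_left) e.ge : centralizer ({y0} : Set G) = _)]
    exact hY.le.trans inf_le_right)
  have hγ2 : (cc y0).factorization 2 = (cc i).factorization 2 := by
    refine le_antisymm ((Nat.factorization_le_iff_dvd (cc_pos y0).ne' (cc_pos i).ne').mpr hγα 2)
      ((Nat.prime_two.pow_dvd_iff_le_factorization (cc_pos y0).ne').mp ?_)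
    show _ ∣ Nat.card (centralizer ({y0} : Set G))
    rw [hY]
    exact I.full_two hi hiH
  -- an odd prime dividing the index of the intersection
  obtain ⟨f, hf⟩ := hγα
  have hf0 : f ≠ 0 := by rintro rfl; simp at hf; exact (cc_pos i).ne' hf
  obtain ⟨r, hr, hrf⟩ := Nat.exists_prime_and_dvd (n := f) fun e => hγne (by rw [hf, e, mul_one])
  have hfac : ∀ s : ℕ, (cc i).factorization s = (cc y0).factorization s + f.factorization s := fun s => by
    rw [hf, Nat.factorization_mul (cc_pos y0).ne' hf0, Finsupp.add_apply]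
  have hrpos := hr.factorization_pos_of_dvd hf0 hrf
  haveI := Fact.mk hr
  have hr2 : r ≠ 2 := by rintro rfl; have := hfac 2; omega
  obtain ⟨U, hUY, hU, hUc⟩ := exists_qgroup_le r (centralizer ({y0} : Set G))
  obtain ⟨hUi, hUx⟩ := le_inf_iff.mp (hUY.trans hY.le)
  obtain ⟨R, hRC, hR, hRc⟩ := exists_qgroup_le r (centralizer ({i} : Set G))
  -- conjugate `R` over `U`
  obtain ⟨R', hR'C, hR', hR'c, hUR⟩ : ∃ R' : Subgroup G, R' ≤ centralizer ({i} : Set G) ∧ IsPGroup r R' ∧
      Nat.card R' = r ^ (cc i).factorization r ∧ U ≤ R' := by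
    obtain ⟨S, hS⟩ := (hU.of_equiv (subgroupOfEquivOfLe hUi).symm).exists_le_sylow
    refine ⟨(S : Subgroup _).map (centralizer ({i} : Set G)).subtype, map_subtype_le _, S.2.map _, ?_, ?_⟩
    · rw [card_map_of_injective (f := (centralizer ({i} : Set G)).subtype) (subtype_injective _),
        S.card_eq_multiplicity]; rfl
    · exact fun u hu => ⟨⟨u, hUi hu⟩, hS hu, rfl⟩
  have hUlt : U < R' := lt_of_le_of_ne hUR fun e => by
    have h1 := hUc.symm.trans ((congrArg (fun K : Subgroup G => Nat.card K) e).trans hR'c)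
    have h2 := Nat.pow_right_injective hr.two_le h1
    have h3 : (Nat.card (centralizer ({y0} : Set G))).factorization r = (cc y0).factorization r := rfl
    have := hfac r
    omega
  have hrp : r ≠ p := fun e => by
    subst e
    have h3 := (hr.pow_dvd_iff_le_factorization Nat.card_pos.ne').mp
      (I.full_self (C := centralizer ({i} : Set G)) (mem_cent_symm hiH))
    rw [← hY] at h3
    have : (Nat.card (centralizer ({i} : Set G))).factorization r = (cc i).factorization r := rfl
    have : (Nat.card (centralizer ({y0} : Set G))).factorization r = (cc y0).factorization r := rfl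
    have := hfac r
    omega
  haveI := hR'.isNilpotent
  obtain ⟨n, ⟨hnR, hnN⟩, hnU⟩ : ∃ n, n ∈ R' ⊓ normalizer (U : Set G) ∧ n ∉ U := by
    obtain ⟨n, hn1, hn2⟩ := SetLike.exists_of_lt (Group.normalizerCondition_of_isNilpotent (U.subgroupOf R')
      (lt_top_iff_ne_top.mpr fun e => hUlt.not_ge (subgroupOf_eq_top.mp e)))
    refine ⟨n, ⟨n.2, mem_normalizer_iff.mpr fun u => ⟨fun hu => ?_, fun hu => ?_⟩⟩, fun h => hn2 (mem_subgroupOf.mpr h)⟩
    · exact mem_subgroupOf.mp ((mem_normalizer_iff.mp hn1 ⟨u, hUR hu⟩).mp hu)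
    · have h1 : u ∈ R' := by
        have := mul_mem (mul_mem (inv_mem n.2) (hUR hu)) n.2
        simpa [mul_assoc] using this
      exact mem_subgroupOf.mp ((mem_normalizer_iff.mp hn1 ⟨u, h1⟩).mpr hu)
  -- an `r`-element outside `H` commuting with `U`
  obtain ⟨w, ⟨hwi, hwU⟩, hwr, hwH⟩ : ∃ w, w ∈ centralizer ({i} : Set G) ⊓ centralizer (U : Set G) ∧
      (∃ k, orderOf w = r ^ k) ∧ w ∉ H := by
    by_contra hc
    push Not at hc
    set X := centralizer ({i} : Set G)
    haveI := Fact.mk hp
    have hnorm : X ⊓ normalizer (U : Set G) ≤ normalizer ((X ⊓ centralizer (U : Set G) : Subgroup G) : Set G) :=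
      fun m hm => mem_normalizer_iff.mpr fun z => by
        obtain ⟨hm1, hm2⟩ := mem_inf.mp hm
        constructor
        · intro hz
          obtain ⟨h1, h2⟩ := mem_inf.mp hz
          refine mem_inf.mpr ⟨mul_mem (mul_mem hm1 h1) (inv_mem hm1), mem_centralizer_iff.mpr fun u hu => ?_⟩
          have := mem_centralizer_iff.mp h2 _ ((mem_normalizer_iff.mp (inv_mem hm2) u).mp hu)
          rw [inv_inv] at this
          calc u * (m * z * m⁻¹) = m * (m⁻¹ * u * m * z) * m⁻¹ := by group
            _ = m * (z * (m⁻¹ * u * m)) * m⁻¹ := by rw [this]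
            _ = _ := by group
        · intro hz
          obtain ⟨h1, h2⟩ := mem_inf.mp hz
          refine mem_inf.mpr ⟨by simpa [mul_assoc] using mul_mem (mul_mem (inv_mem hm1) h1) hm1,
            mem_centralizer_iff.mpr fun u hu => ?_⟩
          have := mem_centralizer_iff.mp h2 _ ((mem_normalizer_iff.mp hm2 u).mp hu)
          calc u * z = m⁻¹ * (m * u * m⁻¹ * (m * z * m⁻¹)) * m := by group
            _ = m⁻¹ * (m * z * m⁻¹ * (m * u * m⁻¹)) * m := by rw [this]
            _ = _ := by group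
    have hN := (Cfsg.Agent.S2969.result (p := p) x1 ho I.iso).2 (X ⊓ normalizer (U : Set G))
      (X ⊓ centralizer (U : Set G)) (inf_le_inf_left _ (centralizer_le_normalizer _))
      hnorm
      ⟨mem_cent_symm hiH, mem_centralizer_iff.mpr fun u hu => mem_cent.mp (hUx hu)⟩
    -- every `r`-element of the centralizer of `U` lies in `H`
    haveI := Fact.mk hr
    set C := X ⊓ centralizer (U : Set G)
    set N := X ⊓ normalizer (U : Set G)
    have hCN : C ≤ N := inf_le_inf_left _ (centralizer_le_normalizer _)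
    have hidx : (N ⊓ H).relIndex N ∣ (C ⊓ H).relIndex C := by
      rw [inf_relIndex_left, inf_relIndex_left]
      refine dvd_of_eq ?_
      let f : C ⧸ H.subgroupOf C → N ⧸ H.subgroupOf N := Quotient.map' (inclusion hCN) fun a b h => by
        rw [QuotientGroup.leftRel_apply] at h ⊢
        simpa [mem_subgroupOf] using h
      refine (Nat.card_eq_of_bijective f ⟨?_, ?_⟩).symm
      · rintro ⟨a⟩ ⟨b⟩ h
        exact QuotientGroup.eq.mpr (by simpa [mem_subgroupOf] using QuotientGroup.eq.mp h)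
      · rintro ⟨m⟩
        have hm : (m : G) ∈ C ⊔ (N ⊓ H) := hN.symm ▸ m.2
        obtain ⟨c, hc', d, hd, hcd⟩ := CfsgLib.mem_sup_of_le_normalizer (fun y hy => hnorm (mem_inf.mp hy).1) hm
        refine ⟨QuotientGroup.mk ⟨c, hc'⟩, QuotientGroup.eq.mpr ?_⟩
        rw [mem_subgroupOf]
        show c⁻¹ * (m : G) ∈ H
        rw [← hcd, inv_mul_cancel_left]
        exact (mem_inf.mp hd).2
    have hnd : ¬ r ∣ (C ⊓ H).relIndex C := by
      obtain ⟨S⟩ : Nonempty (Sylow r C) := inferInstance
      have hle : (S : Subgroup C) ≤ (C ⊓ H).subgroupOf C := fun u hu => mem_subgroupOf.mpr ⟨u.2, hc u u.2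
        (by obtain ⟨k, hk⟩ := exists_orderOf_eq_pow S.2 hu; exact ⟨k, by rw [Subgroup.orderOf_coe]; exact hk⟩)⟩
      exact fun hd => S.not_dvd_index (hd.trans (index_dvd_of_le hle))
    have hd2 : ¬ r ∣ (N ⊓ H).relIndex N := fun hd => hnd (hd.trans hidx)
    have hUN : U ⊔ zpowers n ≤ N := sup_le (le_inf hUi le_normalizer) (zpowers_le.mpr ⟨hR'C hnR, hnN⟩)
    have hUnp : IsPGroup r (U ⊔ zpowers n : Subgroup G) := hR'.to_le (sup_le hUR (zpowers_le.mpr hnR))
    have h4 : Nat.card (U ⊔ zpowers n : Subgroup G) ∣ r ^ (Nat.card U : ℕ).factorization r := by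
      have h5 : Nat.card N = Nat.card (N ⊓ H : Subgroup G) * (N ⊓ H).relIndex N := by
        rw [relIndex, ← (N ⊓ H).subgroupOf N |>.card_mul_index]
        congr 1
        exact Nat.card_congr (subgroupOfEquivOfLe inf_le_left).toEquiv
      have h6 : Nat.card (N ⊓ H : Subgroup G) ∣ Nat.card (centralizer ({y0} : Set G)) :=
        card_dvd_of_le (hY.symm ▸ inf_le_inf inf_le_left le_rfl)
      obtain ⟨j, hj⟩ := hUnp.exists_card_eq
      have h7 : Nat.card (U ⊔ zpowers n : Subgroup G) ∣ Nat.card N := card_dvd_of_le hUN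
      rw [hj, h5] at h7
      have h8 := (Nat.Coprime.dvd_of_dvd_mul_right ((hr.coprime_iff_not_dvd.mpr hd2).pow_left j) h7).trans h6
      rw [hj, hUc, hr.factorization_pow, Finsupp.single_eq_same]
      exact Nat.pow_dvd_pow r ((hr.pow_dvd_iff_le_factorization Nat.card_pos.ne').mp h8)
    have h9 : U = U ⊔ zpowers n := by
      refine eq_of_le_of_card_ge le_sup_left ?_
      refine (Nat.le_of_dvd (pow_pos hr.pos _) h4).trans (le_of_eq ?_)
      obtain ⟨j, hj⟩ := hU.exists_card_eq
      rw [hj, hr.factorization_pow, Finsupp.single_eq_same]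
    exact hnU (h9.ge (mem_sup_right (mem_zpowers n)))
  -- the third value
  have hiw : Commute i w := (show Commute w i from mem_cent.mp hwi).symm
  have hcw := hcop hr hr2 hwr
  have hη := mul_cent hiw hcw
  set y1 := i * w with hy1d
  have hy1 : y1 ≠ 1 := mul_ne_one_of_coprime hi1 hcw
  have hηα : cc y1 ∣ cc i := cc_le_of_le (hη.le.trans inf_le_left)
  have hηne : cc y1 ≠ cc i := fun e => hwH (mem_cent_symm ((hη.le.trans inf_le_right)
    ((eq_of_le_of_card_ge (hη.le.trans inf_le_left) e.ge : centralizer ({y1} : Set G) = _).symm ▸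
      (mem_cent_symm hiH))))
  have hηγ : ¬ cc y1 ∣ cc y0 := fun hd => by
    have hsub : U ⊔ zpowers w ≤ centralizer ({y1} : Set G) := by
      rw [hη]
      exact sup_le (le_inf hUi fun u hu => mem_cent.mpr (mem_centralizer_iff.mp hwU u hu))
        (zpowers_le.mpr ⟨mem_cent.mpr hiw.symm.eq, self_mem w⟩)
    obtain ⟨k, hk⟩ := hwr
    have hP : IsPGroup r (zpowers w) := IsPGroup.of_card (n := k) (by rw [Nat.card_zpowers, hk])
    have hn : zpowers w ≤ normalizer (U : Set G) := zpowers_le.mpr (centralizer_le_normalizer _ hwU)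
    have he := eq_of_qgroup (n := Nat.card (centralizer ({y0} : Set G))) Nat.card_pos.ne'
      (hU.to_sup_of_normal_left' hP hn) le_sup_left hUc ((card_dvd_of_le hsub).trans hd)
    exact hwH (hUx (he ▸ mem_sup_right (mem_zpowers w)))
  -- the five values
  have hval : ∀ y : G, y ≠ 1 → cc y = cc x1 ∨ cc y = cc x2 ∨ cc y = cc i ∨ cc y = cc y0 ∨ cc y = cc y1 := by
    have hs : orders G = {cc x1, cc x2, cc i, cc y0, cc y1} := by
      symm
      refine Set.eq_of_subset_of_ncard_le ?_ ?_ orders_finite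
      · rintro _ (rfl | rfl | rfl | rfl | rfl)
        exacts [⟨_, hx1, rfl⟩, ⟨_, hx2, rfl⟩, ⟨_, hi1, rfl⟩, ⟨_, hy0, rfl⟩, ⟨_, hy1, rfl⟩]
      · have n12 : cc x1 ≠ cc x2 := fun e => hnboth x1 hx1 dvd_rfl (e ▸ dvd_rfl)
        have n10 : cc x1 ≠ cc y0 := fun e => hine (Nat.dvd_antisymm hid (e.symm ▸ (Dvd.intro f hf.symm)))
        have n11 : cc x1 ≠ cc y1 := fun e => hine (Nat.dvd_antisymm hid (e.symm ▸ hηα))
        have n2i : cc x2 ≠ cc i := fun e => hnboth i hi1 hid (e ▸ dvd_rfl)
        have n20 : cc x2 ≠ cc y0 := fun e => hnboth y0 hy0 hγ1 (e ▸ dvd_rfl)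
        have n21 : cc x2 ≠ cc y1 := fun e => hnboth y1 hy1 (hηα.trans hid) (e ▸ dvd_rfl)
        have n01 : cc y0 ≠ cc y1 := fun e => hηγ (e ▸ dvd_rfl)
        rw [Set.ncard_insert_of_notMem (by simp [n12, hine.symm, n10, n11]),
          Set.ncard_insert_of_notMem (by simp [n2i, n20, n21]),
          Set.ncard_insert_of_notMem (by simp [hγne.symm, hηne.symm]), Set.ncard_pair n01]
        exact h5
    intro y hy
    have hm : cc y ∈ orders G := ⟨y, hy, rfl⟩
    rw [hs] at hm
    simpa using hm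
  -- the three small values do not all have the same 2-part
  have hdiff : (cc y1).factorization 2 ≠ (cc i).factorization 2 := by
    intro e
    obtain ⟨z, hz, hz2⟩ := exists_odd_even_class hbad
    have hzo : Odd (orderOf (z : G)) := by rwa [Subgroup.orderOf_coe]
    have hcz : (orderOf t).Coprime (orderOf (z : G)) := by rw [ht]; exact Nat.coprime_two_left.mpr hzo
    have hmul := mul_cent (show Commute t (z : G) from (mem_cent.mp z.2).symm) hcz
    have hδ : cc z = cc (t * (z : G)) := by rw [cc_sub, ← hmul]; rfl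
    have hm := (centralizer ({z} : Set (centralizer ({t} : Set G)))).card_mul_index
    have hlt : (cc (t * (z : G))).factorization 2 < (cc t).factorization 2 := by
      rw [show Nat.card (centralizer ({z} : Set (centralizer ({t} : Set G)))) = cc (t * (z : G)) from hδ] at hm
      have h1 := congrArg (fun n => n.factorization 2) hm
      simp only [Nat.factorization_mul (cc_pos (t * (z : G))).ne' index_ne_zero_of_finite, Finsupp.add_apply] at h1
      have := Nat.prime_two.factorization_pos_of_dvd index_ne_zero_of_finite hz2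
      show _ < (Nat.card (centralizer ({t} : Set G))).factorization 2
      omega
    have ht1 : t ≠ 1 := fun e0 => by simp [e0] at ht
    have hδd : cc (t * (z : G)) ∣ cc t := cc_le_of_le (hmul.le.trans inf_le_left)
    have hsmall : ∀ y : G, y ≠ 1 → cc y ∣ cc x1 → cc y ≠ cc x1 → (cc y).factorization 2 = (cc i).factorization 2 :=
      fun y hy hd hne => by
        rcases hval y hy with e1 | e1 | e1 | e1 | e1
        · exact absurd e1 hne
        · exact absurd (e1 ▸ dvd_rfl) (hnboth y hy hd)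
        · rw [e1]
        · rw [e1, hγ2]
        · rw [e1, e]
    have h1 := hsmall t ht1 (hinv t ht).1 (hinv t ht).2
    have h2' := hsmall _ (mul_ne_one_of_coprime ht1 hcz) (hδd.trans (hinv t ht).1)
      fun e1 => (hinv t ht).2 (Nat.dvd_antisymm (hinv t ht).1 (e1 ▸ hδd))
    omega
  have hγη : ¬ cc y0 ∣ cc y1 := fun hd => hdiff (le_antisymm
    ((Nat.factorization_le_iff_dvd (cc_pos y1).ne' (cc_pos i).ne').mpr hηα 2)
    (hγ2 ▸ (Nat.factorization_le_iff_dvd (cc_pos y0).ne' (cc_pos y1).ne').mpr hd 2))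
  -- a conjugate of the first element in the centralizer of `w`, none in that of `i * w`
  have hno : ∀ g : G, g * x1 * g⁻¹ ∉ centralizer ({y1} : Set G) := by
    intro g hg
    have hg' := hη ▸ hg
    obtain ⟨c, hc, hcg⟩ := I.exists_conj (mem_cent_symm hiH : x1 ∈ centralizer ({i} : Set G)) hg'.1
    have hwc : c * w * c⁻¹ ∈ H := by
      have h1 := mem_cent.mp hg'.2
      have h2 := mem_cent.mp hcg
      have e1 : c * (g * x1 * g⁻¹) * c⁻¹ = x1 := by
        rw [show c * (g * x1 * g⁻¹) * c⁻¹ = c * g * x1 * (c * g)⁻¹ by group, h2, mul_inv_cancel_right]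
      rw [mem_cent]
      calc c * w * c⁻¹ * x1 = c * w * c⁻¹ * (c * (g * x1 * g⁻¹) * c⁻¹) := by rw [e1]
        _ = c * (w * (g * x1 * g⁻¹)) * c⁻¹ := by group
        _ = c * ((g * x1 * g⁻¹) * w) * c⁻¹ := by rw [h1]
        _ = c * (g * x1 * g⁻¹) * c⁻¹ * (c * w * c⁻¹) := by group
        _ = _ := by rw [e1]
    have hwi' : c * w * c⁻¹ ∈ centralizer ({i} : Set G) := mul_mem (mul_mem hc hwi) (inv_mem hc)
    set w' := c * w * c⁻¹
    have hw1 : w ≠ 1 := fun e => hwH (e ▸ one_mem _)
    have hw'o : ∃ k, orderOf w' = r ^ k := by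
      rwa [show orderOf w' = orderOf w from by rw [show w' = MulAut.conj c w from rfl, MulEquiv.orderOf_eq]]
    have e2 : c * y1 * c⁻¹ = i * w' := by
      rw [hy1d, show c * (i * w) * c⁻¹ = c * i * c⁻¹ * (c * w * c⁻¹) by group, mem_cent.mp hc, mul_inv_cancel_right]
    have hmul := mul_cent (show Commute i w' from (mem_cent.mp hwi').symm) (hcop hr hr2 hw'o)
    have hz1 : i * w' ≠ 1 := mul_ne_one_of_coprime hi1 (hcop hr hr2 hw'o)
    have hcy : cc (i * w') = cc y1 := e2 ▸ cc_conj c y1
    -- the common value of `i`, `x1` and the conjugate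
    have hco3 : (orderOf (i * w')).Coprime (orderOf x1) := by
      refine Nat.Coprime.coprime_dvd_left ((show Commute i w' from (mem_cent.mp hwi').symm).orderOf_mul_dvd_lcm.trans
        (Nat.lcm_dvd_mul _ _)) ?_
      exact Nat.Coprime.mul_left (hcop hp I.odd ho) (coprime_of_not_eq hr hp hrp hw'o ho)
    have hmul3 := mul_cent ((show Commute i x1 from hix).mul_left
      (show Commute w' x1 from mem_cent.mp hwc)) hco3
    have hd1 : cc (i * w' * x1) ∣ cc y1 := hcy ▸ cc_le_of_le (hmul3.le.trans inf_le_left)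
    have hd0 : cc (i * w' * x1) ∣ cc y0 := cc_le_of_le (by
      rw [hY, hmul3, hmul]
      exact le_inf (inf_le_left.trans inf_le_left) inf_le_right)
    rcases hval _ (mul_ne_one_of_coprime hz1 hco3) with e | e | e | e | e
    · exact hine (Nat.dvd_antisymm hid (e ▸ hd1.trans hηα))
    · exact hnboth _ (mul_ne_one_of_coprime hz1 hco3) (hd0.trans hγ1) (e ▸ dvd_rfl)
    · exact hηne (Nat.dvd_antisymm hηα (e ▸ hd1))
    · exact hγη (e ▸ hd1)
    · exact hηγ (e ▸ hd0)
  have hw1 : w ≠ 1 := fun e => hwH (e ▸ one_mem _)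
  have hηp : (cc y1).factorization p < (cc i).factorization p := by
    haveI := Fact.mk hp
    refine lt_of_le_of_ne ((Nat.factorization_le_iff_dvd (cc_pos y1).ne' (cc_pos i).ne').mpr hηα p) fun e => ?_
    obtain ⟨c, -, hc⟩ := exists_conj_mem_of_full (q := p) (hη.le.trans inf_le_left : centralizer ({y1} : Set G) ≤ _)
      (by rw [show (Nat.card (centralizer ({i} : Set G))).factorization p = (cc y1).factorization p from e.symm]
          exact Nat.ordProj_dvd _ p) (mem_cent_symm hiH) ho
    exact hno c hc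
  obtain ⟨g, hgw⟩ : ∃ g : G, g * x1 * g⁻¹ ∈ centralizer ({w} : Set G) := by
    obtain ⟨S, hS⟩ := exists_sylow_of_mem hwr
    have hfullr : r ^ (Nat.card G).factorization r ∣ cc x1 := by
      rcases index_coprime_iff.mp hco r hr with h | h
      · exact h
      · exfalso
        have h1 : r ∣ cc x2 := (dvd_pow_self r
          (hr.factorization_pos_of_dvd Nat.card_pos.ne' ((dvd_pow_self r (by
            intro e0; have := hfac r; omega : (cc i).factorization r ≠ 0)).trans
            ((Nat.ordProj_dvd _ r).trans (cc_dvd i)))).ne').trans h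
        have h2' : r ∣ cc x1 := (dvd_pow_self r (by
            intro e0; have := hfac r; omega : (cc i).factorization r ≠ 0)).trans ((Nat.ordProj_dvd _ r).trans hid)
        exact hr.ne_one (Nat.eq_one_of_dvd_coprimes hJ h2' h1)
    obtain ⟨g, hg⟩ := exists_sylow_le S hfullr
    exact ⟨g, mem_cent_symm (hg hS)⟩
  set x1' := g * x1 * g⁻¹
  have hx1' : x1' ≠ 1 := fun e => hx1 (by rw [show x1 = g⁻¹ * x1' * g by simp [x1', mul_assoc], e]; group)
  have I' := hiso x1' (cc_conj g x1) p hp
    (by rw [show x1' = MulAut.conj g x1 from rfl, MulEquiv.orderOf_eq]; exact ho) hx1'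
  have hwx : Commute w x1' := (mem_cent.mp hgw).symm
  have hcwx := coprime_of_not_eq hr hp hrp hwr I'.ord
  have hε := mul_cent hwx hcwx
  set y2 := w * x1' with hy2d
  have hy2 : y2 ≠ 1 := mul_ne_one_of_coprime hw1 hcwx
  have hiy1 : i ∈ centralizer ({w} : Set G) := mem_cent_symm hwi
  have hni : i ∉ centralizer ({y2} : Set G) := fun h => hno g (by
    rw [hη]
    exact ⟨mem_cent_symm (hε.le h).2, hgw⟩)
  have hcw1 : cc y1 ∣ cc w := cc_le_of_le (hη.le.trans inf_le_right)
  have hpw : (cc y2).factorization p = (cc w).factorization p := by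
    refine le_antisymm ((Nat.factorization_le_iff_dvd (cc_pos y2).ne' (cc_pos w).ne').mpr
      (cc_le_of_le (hε.le.trans inf_le_left)) p) ?_
    have h3 := (hp.pow_dvd_iff_le_factorization Nat.card_pos.ne').mp (I'.full_self (C := centralizer ({w} : Set G)) hgw)
    rw [← hε] at h3
    exact h3
  -- the value of `w`
  rcases hval w hw1 with e | e | e | e | e
  · -- then `w` is isolated
    have J := hiso w e r hr hwr hw1
    have h1 := J.full_two hi hiy1
    rw [← hη] at h1
    refine hdiff (le_antisymm ((Nat.factorization_le_iff_dvd (cc_pos y1).ne' (cc_pos i).ne').mpr hηα 2)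
      ((Nat.prime_two.pow_dvd_iff_le_factorization (cc_pos y1).ne').mp h1))
  · exact hnboth y1 hy1 (hηα.trans hid) (e ▸ hcw1)
  · -- the value of the centralizer of an involution
    have hlt : cc y2 ≠ cc i := fun e2 => hni
      ((eq_of_le_of_card_ge (hε.le.trans inf_le_left) (e2.trans e.symm).ge : centralizer ({y2} : Set G) = _).symm ▸ hiy1)
    have hεd : cc y2 ∣ cc i := e ▸ cc_le_of_le (hε.le.trans inf_le_left)
    rcases hval y2 hy2 with e2 | e2 | e2 | e2 | e2
    · exact hine (Nat.dvd_antisymm hid (e2 ▸ hεd))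
    · exact hnboth y2 hy2 (hεd.trans hid) (e2 ▸ dvd_rfl)
    · exact hlt e2
    · -- a conjugate of `i` commutes with `x1'` and `w`
      haveI := Fact.mk Nat.prime_two
      obtain ⟨c, hc, hci⟩ := exists_conj_mem_of_full (q := 2) (hε.le.trans inf_le_left : centralizer ({y2} : Set G) ≤ _)
        (u := i) (by
          rw [show (Nat.card (centralizer ({w} : Set G))).factorization 2 = (cc y2).factorization 2 by
            rw [e2, hγ2, ← e]; rfl]
          exact Nat.ordProj_dvd _ 2) hiy1 ⟨1, by rw [hi, pow_one]⟩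
      refine hno (c⁻¹ * g) ?_
      have hcx : Commute (c * i * c⁻¹) x1' := mem_cent.mp (hε.le hci).2
      rw [hη]
      refine mem_inf.mpr ⟨?_, ?_⟩
      · rw [mem_cent]
        calc c⁻¹ * g * x1 * (c⁻¹ * g)⁻¹ * i = c⁻¹ * (x1' * (c * i * c⁻¹)) * c := by simp only [x1']; group
          _ = c⁻¹ * (c * i * c⁻¹ * x1') * c := by rw [hcx.eq]
          _ = i * (c⁻¹ * g * x1 * (c⁻¹ * g)⁻¹) := by simp only [x1']; group
      · rw [show c⁻¹ * g * x1 * (c⁻¹ * g)⁻¹ = c⁻¹ * x1' * c by simp only [x1']; group]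
        exact mul_mem (mul_mem (inv_mem hc) hgw) hc
    · -- the wrong `p`-part
      rw [e2, e] at hpw
      exact hηp.ne hpw
  · exact hηγ (e ▸ hcw1)
  · have hdq : centralizer ({w} : Set G) = centralizer {y1} :=
      (eq_of_le_of_card_ge (hη.le.trans inf_le_right) e.le).symm
    exact hno g (hdq ▸ hgw)

end CfsgLib.ConjRankFour
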