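import Cfsg.Agent.Lib.ConjRankFour.Poset
import Cfsg.Agent.Lib.Isolated
import Cfsg.Agent.S2969
import Cfsg.Agent.Lib.Bender.GoodAll
import Cfsg.Agent.Lib.SuzukiRankOne.Main
import Cfsg.Agent.Lib.Coprime

set_option autoImplicit false
set_option linter.style.haveILetI false

/-!
An isolated element of odd prime power order whose centralizer has odd index.
-/

namespace CfsgLib.ConjRankFour

open Cfsg Subgroup CfsgLib.ConjRankThree

universe u

variable {G : Type u} [Group G] [Finite G]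

/-- An isolated element of prime power order for an odd prime, with class of odd size. -/
structure Iso (x : G) (p : ℕ) : Prop where
  hp : p.Prime
  odd : p ≠ 2
  ord : ∃ k, orderOf x = p ^ k
  ne : x ≠ 1
  iso : Cfsg.IsIsolated x
  full : 2 ^ (Nat.card G).factorization 2 ∣ cc x

namespace Iso

variable {x : G} {p : ℕ} (I : Iso x p)
include I

/-- Two conjugates of the element in a subgroup are conjugate in it. -/
theorem exists_conj {C : Subgroup G} {g : G} (hx : x ∈ C) (hg : g * x * g⁻¹ ∈ C) :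
    ∃ c ∈ C, c * g ∈ centralizer ({x} : Set G) := by
  haveI := Fact.mk I.hp
  obtain ⟨k, hk⟩ := I.ord
  have hA : IsPGroup p (zpowers x) := IsPGroup.of_card (n := k) (by rw [Nat.card_zpowers, hk])
  have hB : IsPGroup p (zpowers (g * x * g⁻¹)) := IsPGroup.of_card (n := k) (by
    rw [Nat.card_zpowers, ← MulAut.conj_apply, MulEquiv.orderOf_eq, hk])
  obtain ⟨c, hc, Q, hQ, -, hxQ, hcQ⟩ := CfsgLib.Local.exists_conj_isPGroup hA hB (zpowers_le.mpr hx) (zpowers_le.mpr hg)
  refine ⟨c, hc, mem_cent.mpr (mul_inv_eq_iff_eq_mul.mp ?_)⟩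
  refine CfsgLib.Local.isolated_unique hQ (hxQ (mem_zpowers x)) I.iso (hcQ ⟨_, mem_zpowers _, ?_⟩)
  simp [mul_assoc]

/-- The centralizer controls fusion in itself. -/
theorem fusion {u g : G} (hu : u ∈ centralizer ({x} : Set G)) (hg : g * u * g⁻¹ ∈ centralizer ({x} : Set G)) :
    ∃ h ∈ centralizer ({x} : Set G), h * u * h⁻¹ = g * u * g⁻¹ := by
  have h1 : g * x * g⁻¹ ∈ centralizer ({g * u * g⁻¹} : Set G) := by
    rw [mem_cent, show g * x * g⁻¹ * (g * u * g⁻¹) = g * (x * u) * g⁻¹ by group, ← mem_cent.mp hu]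
    group
  obtain ⟨c, hc, hcg⟩ := I.exists_conj (mem_cent_symm hg) h1
  refine ⟨c * g, hcg, ?_⟩
  rw [show c * g * u * (c * g)⁻¹ = c * (g * u * g⁻¹) * c⁻¹ by group, mem_cent.mp hc, mul_inv_cancel_right]

/-- The centralizer meets that of each of its involutions in a full Sylow 2-subgroup. -/
theorem full_two {i : G} (hi : orderOf i = 2) (hix : i ∈ centralizer ({x} : Set G)) :
    2 ^ (cc i).factorization 2 ∣ Nat.card (centralizer {i} ⊓ centralizer ({x} : Set G) : Subgroup G) := by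
  haveI := Fact.mk Nat.prime_two
  obtain ⟨T, hTC, hT, hTc⟩ := exists_qgroup_le 2 (centralizer ({i} : Set G))
  have hiT : i ∈ T := by
    have hP : IsPGroup 2 (zpowers i) := IsPGroup.of_card (n := 1) (by rw [Nat.card_zpowers, hi, pow_one])
    have hn : zpowers i ≤ normalizer (T : Set G) := zpowers_le.mpr (centralizer_le_normalizer (T : Set G)
      fun u hu => mem_cent.mp (hTC hu))
    exact eq_of_qgroup (cc_pos i).ne' (hT.to_sup_of_normal_left' hP hn) le_sup_left hTc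
      (card_dvd_of_le (sup_le hTC (zpowers_le.mpr (self_mem i)))) ▸ mem_sup_right (mem_zpowers i)
  obtain ⟨P, hP⟩ := hT.exists_le_sylow
  obtain ⟨g, hg⟩ := exists_sylow_le P I.full
  have hj : g⁻¹ * i * g⁻¹⁻¹ ∈ centralizer ({x} : Set G) := by
    have h1 := mem_cent.mp (hg (hP hiT))
    rw [mem_cent, inv_inv, show g⁻¹ * i * g * x = g⁻¹ * (i * (g * x * g⁻¹)) * g by group, h1]
    group
  obtain ⟨h, hh, he⟩ := I.fusion hix hj
  rw [← show Nat.card T = 2 ^ (cc i).factorization 2 from hTc, ← card_map_of_injective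
    (f := (MulAut.conj (h⁻¹ * g⁻¹)).toMonoidHom) (MulAut.conj (h⁻¹ * g⁻¹)).injective]
  refine card_dvd_of_le ?_
  rintro _ ⟨u, hu, rfl⟩
  show h⁻¹ * g⁻¹ * u * (h⁻¹ * g⁻¹)⁻¹ ∈ centralizer ({i} : Set G) ⊓ centralizer {x}
  refine mem_inf.mpr ⟨?_, ?_⟩
  · have h1 := mem_cent.mp (hTC hu)
    have e : g⁻¹ * i * g = h * i * h⁻¹ := by rw [he, inv_inv]
    rw [mem_cent, show i = h⁻¹ * (g⁻¹ * i * g) * h by rw [e]; group]
    calc h⁻¹ * g⁻¹ * u * (h⁻¹ * g⁻¹)⁻¹ * (h⁻¹ * (g⁻¹ * i * g) * h) = h⁻¹ * g⁻¹ * (u * i) * g * h := by group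
      _ = h⁻¹ * g⁻¹ * (i * u) * g * h := by rw [h1]
      _ = _ := by group
  · have h1 := mem_cent.mp (hg (hP hu))
    have h2 : g⁻¹ * u * g ∈ centralizer ({x} : Set G) := by
      rw [mem_cent, show g⁻¹ * u * g * x = g⁻¹ * (u * (g * x * g⁻¹)) * g by group, h1]
      group
    rw [show h⁻¹ * g⁻¹ * u * (h⁻¹ * g⁻¹)⁻¹ = h⁻¹ * (g⁻¹ * u * g) * h by group]
    exact mul_mem (mul_mem (inv_mem hh) h2) hh

/-- The centralizer holds a full Sylow subgroup, for the prime of the element, of each subgroup through it. -/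
theorem full_self {C : Subgroup G} (hx : x ∈ C) :
    p ^ (Nat.card C).factorization p ∣ Nat.card (C ⊓ centralizer ({x} : Set G) : Subgroup G) := by
  haveI := Fact.mk I.hp
  obtain ⟨k, hk⟩ := I.ord
  obtain ⟨P, hP⟩ := exists_sylow_of_mem (x := (⟨x, hx⟩ : C)) (r := p) ⟨k, by rw [Subgroup.orderOf_mk]; exact hk⟩
  have hle := (Cfsg.Agent.S2969.result (p := p) x I.ord I.iso).1 ((P : Subgroup C).map C.subtype) (P.2.map _)
    ⟨⟨x, hx⟩, hP, rfl⟩
  rw [← P.card_eq_multiplicity, ← card_map_of_injective (f := C.subtype) C.subtype_injective]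
  exact card_dvd_of_le (le_inf (map_subtype_le _) (le_normalizer.trans hle))

/-- The centralizer is not strongly embedded: it does not contain the centralizers of all its involutions. -/
theorem exists_not_le [IsSimpleGroup G] (hna : ¬ IsMulCommutative G) :
    ∃ i : G, orderOf i = 2 ∧ i ∈ centralizer ({x} : Set G) ∧
      ¬ centralizer ({i} : Set G) ≤ centralizer ({x} : Set G) := by
  haveI := Fact.mk Nat.prime_two
  haveI := mono_of_simple hna
  by_contra hc
  push Not at hc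
  set H := centralizer ({x} : Set G) with hH
  have hSE : Cfsg.IsStronglyEmbedded H := by
    refine ⟨cent_ne_top I.ne, even_iff_two_dvd.mpr ((dvd_pow_self 2
      (Nat.prime_two.factorization_pos_of_dvd Nat.card_pos.ne' (two_dvd_card hna)).ne').trans I.full), fun g hg => ?_⟩
    rw [← Nat.not_even_iff_odd, even_iff_two_dvd]
    intro hd
    obtain ⟨u, hu, huo, -⟩ := exists_orderOf_dvd Nat.prime_two hd
    obtain ⟨huH, y, hy, hyu⟩ := hu
    have hyu' : g * y * g⁻¹ = u := hyu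
    obtain ⟨h, hh, he⟩ := I.fusion hy (hyu' ▸ huH)
    have hyo : orderOf y = 2 := by
      rw [← huo, ← hyu', ← MulAut.conj_apply, MulEquiv.orderOf_eq]
    have h1 : h⁻¹ * g ∈ centralizer ({y} : Set G) := by
      rw [mem_cent]
      calc h⁻¹ * g * y = h⁻¹ * (g * y * g⁻¹) * g := by group
        _ = h⁻¹ * (h * y * h⁻¹) * g := by rw [he]
        _ = _ := by group
    exact hg (by simpa using mul_mem hh (hc y hyo hy h1))
  have hcore := CfsgLib.Bender.normalCore_eq_bot hSE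
  have h4 := CfsgLib.Bender.hasFour_of_simple hSE
  obtain ⟨Q, hQ1, hQ2, hQ3, hQ4⟩ :=
    (CfsgLib.Bender.Assembly.benderHyp CfsgLib.Bender.Assembly.goodAll) G H hSE hcore h4
  obtain ⟨t, ht, hS⟩ := CfsgLib.Bender.setup hSE hQ1 hQ2 hQ3 hQ4
  haveI := CfsgLib.Bender.faithful hcore
  have hQp : IsPGroup 2 Q := (CfsgLib.SuzukiRankOne.concl hS h4).1
  set a : G ⧸ H := ((1 : G) : G ⧸ H)
  have hst : MulAction.stabilizer G a = H := by
    ext y
    rw [MulAction.mem_stabilizer_iff, CfsgLib.Bender.smul_mk, QuotientGroup.eq, mul_one, mul_one, inv_mem_iff]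
  have hxs : x ∈ Q ⊔ (MulAction.stabilizer G a ⊓ MulAction.stabilizer G (t • a)) := by
    rw [hS.sup_eq, hst]; exact self_mem x
  obtain ⟨v, hv, j, hj, hvj⟩ := CfsgLib.mem_sup_of_le_normalizer (fun y hy => mem_normalizer_iff.mpr fun z =>
    ⟨fun hz => hS.conj_mem y (mem_inf.mp hy).1 z hz, fun hz => by
      have := hS.conj_mem y⁻¹ (inv_mem (mem_inf.mp hy).1) _ hz
      simpa [mul_assoc] using this⟩) hxs
  have hjx : Commute x j := ((mem_cent.mp (hst ▸ hj.1 : j ∈ H)) : Commute j x).symm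
  have hv1 : v = 1 := by
    obtain ⟨k, hk⟩ := I.ord
    have e : v = x * j⁻¹ := eq_mul_inv_of_mul_eq hvj
    have hd : orderOf v ∣ orderOf x * orderOf j⁻¹ := e ▸ hjx.inv_right.orderOf_mul_dvd_lcm.trans (Nat.lcm_dvd_mul _ _)
    have hodd : Odd (orderOf x * orderOf j⁻¹) := by
      refine Odd.mul (hk ▸ (I.hp.odd_of_ne_two I.odd).pow) ?_
      rw [orderOf_inv]
      exact hS.odd_card.of_dvd_nat (Subgroup.orderOf_dvd_natCard _ hj)
    obtain ⟨l, hl⟩ := exists_orderOf_eq_pow hQp hv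
    rw [← orderOf_eq_one_iff]
    exact Nat.eq_one_of_dvd_coprimes ((Nat.coprime_two_left.mpr hodd).pow_left l) (dvd_of_eq hl) hd
  rw [hv1, one_mul] at hvj
  subst hvj
  have h1 : t⁻¹ * j * t⁻¹⁻¹ ∈ H := by
    have h2 := MulAction.mem_stabilizer_iff.mp hj.2
    rw [CfsgLib.Bender.smul_mk, CfsgLib.Bender.smul_mk, mul_one, QuotientGroup.eq] at h2
    rw [show t⁻¹ * j * t⁻¹⁻¹ = ((j * t)⁻¹ * t)⁻¹ by group]
    exact inv_mem h2
  have h3 := I.iso t⁻¹ (show j * (t⁻¹ * j * t⁻¹⁻¹) = t⁻¹ * j * t⁻¹⁻¹ * j from (mem_cent.mp h1).symm)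
  refine ht (mem_cent.mpr ?_)
  rw [inv_inv] at h3
  calc t * j = t * (t⁻¹ * j * t) := by rw [h3]
    _ = j * t := by group

end Iso

end CfsgLib.ConjRankFour
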