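import Cfsg.Agent.Lib.ConjRankFour.Five.CaseA
import Cfsg.Agent.Lib.ConjRankFour.Five.Beta

set_option autoImplicit false
set_option linter.style.haveILetI false

/-!
A simple group has no odd side.
-/

namespace CfsgLib.ConjRankFour

open Cfsg Subgroup CfsgLib.ConjRankThree

universe u

variable {G : Type u} [Group G] [Finite G] {t : G} {N D : ℕ}

namespace OddSide

variable (S : OddSide t N D)
include S

theorem N_ne_card : N ≠ Nat.card G := fun e => by
  have h1 : cc t * N = N := S.prod.trans e.symm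
  have := orderOf_dvd_cc (self_mem t)
  rw [(mul_eq_right₀ S.N_pos.ne').mp h1, S.inv] at this
  omega

theorem ne_one_of_cc {y : G} (hy : cc y = N) : y ≠ 1 := fun e => S.N_ne_card <| hy.symm.trans <|
  (congrArg (fun H : Subgroup G => Nat.card H)
    (eq_top_iff.mpr fun g _ => mem_cent.mpr (by simp [e]))).trans card_top

/-- If every element with the largest centralizer has prime power order the other primes are full in `D`. -/
theorem full_of_primary (hall : ∀ y : G, cc y = N → ∃ s k : ℕ, s.Prime ∧ orderOf y = s ^ k) {v : G} {q : ℕ}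
    (hq : q.Prime) (hv : cc v = N) (hvq : ∃ k, orderOf v = q ^ k) {s : ℕ} (hs : s.Prime) (hsq : s ≠ q) :
    N.factorization s ≤ D.factorization s := by
  haveI := Fact.mk hs
  by_cases hsN : s ∣ N
  swap
  · simp [Nat.factorization_eq_zero_of_not_dvd hsN]
  have hv1 := S.ne_one_of_cc hv
  obtain ⟨R, hRC, hR, hRc⟩ := exists_qgroup_le s (centralizer ({v} : Set G))
  rw [show Nat.card (centralizer ({v} : Set G)) = N from hv] at hRc
  haveI : Nontrivial R := by
    rw [← Finite.one_lt_card_iff_nontrivial, hRc]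
    exact Nat.one_lt_pow (hs.factorization_pos_of_dvd S.N_pos.ne' hsN).ne' hs.one_lt
  haveI := hR.center_nontrivial
  obtain ⟨⟨⟨z, hz⟩, hzc⟩, hz1⟩ := exists_ne (1 : center R)
  have hz1' : z ≠ 1 := fun e => hz1 (Subtype.ext (Subtype.ext e))
  obtain ⟨i, hi⟩ := exists_orderOf_eq_pow hR hz
  obtain ⟨j, hj⟩ := hvq
  have hi0 : i ≠ 0 := fun e => hz1' (by simpa [e] using hi)
  have hj0 : j ≠ 0 := fun e => hv1 (by simpa [e] using hj)
  have hco : (orderOf v).Coprime (orderOf z) := coprime_of_not_eq hq hs hsq.symm ⟨j, hj⟩ ⟨i, hi⟩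
  have hcm : Commute v z := (show Commute z v from mem_cent.mp (hRC hz)).symm
  have hmul := mul_cent hcm hco
  have hvN : orderOf v ∣ N := hv ▸ orderOf_dvd_cc (self_mem v)
  have hzN : orderOf z ∣ N := hv ▸ orderOf_dvd_cc (hRC hz)
  have hord : orderOf (v * z) = q ^ j * s ^ i := by
    rw [hcm.orderOf_mul_eq_mul_orderOf_of_coprime hco, hj, hi]
  have hD : cc (v * z) = D := by
    refine (S.val_odd (mul_ne_one_of_coprime hv1 hco) (hord ▸ hj ▸ hi ▸ hco.mul_dvd_of_dvd_of_dvd hvN hzN)).resolve_left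
      fun h => ?_
    obtain ⟨l, k, hl, hk⟩ := hall _ h
    rw [hord] at hk
    have h1 : q = l := (Nat.prime_dvd_prime_iff_eq hq hl).mp
      (hq.dvd_of_dvd_pow (hk ▸ (dvd_pow_self q hj0).mul_right _))
    have h2 : s = l := (Nat.prime_dvd_prime_iff_eq hs hl).mp
      (hs.dvd_of_dvd_pow (hk ▸ (dvd_pow_self s hi0).mul_left _))
    exact hsq (h2.trans h1.symm)
  have hle : R ≤ centralizer ({v * z} : Set G) := hmul ▸ le_inf hRC fun u hu =>
    mem_cent.mpr (congrArg Subtype.val (mem_center_iff.mp hzc ⟨u, hu⟩))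
  have h1 := card_dvd_of_le hle
  rw [show Nat.card (centralizer ({v * z} : Set G)) = D from hD, hRc,
    hs.pow_dvd_iff_le_factorization (fun e => by
      obtain ⟨u, -, hu⟩ := S.exD
      exact (cc_pos u).ne' (hu.trans e))] at h1
  exact h1

/-- No simple group has an odd side. -/
theorem false_of_simple [IsSimpleGroup G] (hna : ¬ IsMulCommutative G) : False := by
  classical
  obtain ⟨u, hu1, hu⟩ := S.exD
  have hD0 : D ≠ 0 := hu ▸ (cc_pos u).ne'
  by_cases hall : ∀ y : G, cc y = N → ∃ s k : ℕ, s.Prime ∧ orderOf y = s ^ k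
  · obtain ⟨v, hv1, hv⟩ := S.exN
    obtain ⟨q, k, hq, hk⟩ := hall v hv
    by_cases hpure : ∀ y : G, cc y = N → ∃ j, orderOf y = q ^ j
    · exact (⟨S, hq, hpure⟩ : Pure t N D q).false_of_simple hna
    push Not at hpure
    obtain ⟨y, hy, hyq⟩ := hpure
    obtain ⟨r, l, hr, hl⟩ := hall y hy
    have hrq : r ≠ q := fun e => hyq l (e ▸ hl)
    refine S.ne (Nat.eq_of_factorization_eq hD0 S.N_pos.ne' fun s => ?_)
    by_cases hs : s.Prime
    swap
    · simp [Nat.factorization_eq_zero_of_not_prime _ hs]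
    refine le_antisymm ((Nat.factorization_le_iff_dvd hD0 S.N_pos.ne').mpr S.dvd s) ?_
    by_cases hsq : s = q
    · exact S.full_of_primary hall hr hy ⟨l, hl⟩ hs (hsq ▸ hrq.symm)
    · exact S.full_of_primary hall hq hv ⟨k, hk⟩ hs hsq
  push Not at hall
  obtain ⟨y, hy, hyp⟩ := hall
  have hy1 := S.ne_one_of_cc hy
  obtain ⟨q, hq, hqd⟩ := Nat.exists_prime_and_dvd (n := orderOf y) (fun e => hy1 (orderOf_eq_one_iff.mp e))
  obtain ⟨r, hr, hrd, hrq⟩ : ∃ r : ℕ, r.Prime ∧ r ∣ orderOf y ∧ r ≠ q := by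
    by_contra hc
    push Not at hc
    exact hyp q _ hq (Nat.eq_prime_pow_of_unique_prime_dvd (orderOf_pos y).ne' fun {d} hd hdd => hc d hd hdd)
  have key : ∀ {s : ℕ}, s.Prime → s ∣ orderOf y → orderOf (y ^ (orderOf y / s)) = s ∧
      centralizer ({y ^ (orderOf y / s)} : Set G) = centralizer ({y} : Set G) := by
    intro s hs hsd
    have ho : orderOf (y ^ (orderOf y / s)) = s := orderOf_pow_orderOf_div (orderOf_pos y).ne' hsd
    refine ⟨ho, ?_⟩
    have hle := cent_le_pow y (orderOf y / s)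
    have h1 : N ∣ cc (y ^ (orderOf y / s)) := hy ▸ cc_le_of_le hle
    have hne : y ^ (orderOf y / s) ≠ 1 := fun e => hs.one_lt.ne (by rw [← ho, e, orderOf_one])
    have h2 : cc (y ^ (orderOf y / s)) = N := by
      refine (S.val_odd hne ((dvd_of_eq ho).trans (hsd.trans (hy ▸ orderOf_dvd_cc (self_mem y))))).resolve_right fun e => ?_
      exact S.ne (Nat.dvd_antisymm S.dvd (e ▸ h1))
    exact (eq_of_le_of_card_ge hle (h2.trans hy.symm).le).symm
  obtain ⟨hov, hcv⟩ := key hq hqd
  obtain ⟨how, hcw⟩ := key hr hrd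
  exact (⟨S, hq, hr, hrq.symm, hov, how, (congrArg (fun H : Subgroup G => Nat.card H) hcv).trans hy,
    hcw.trans hcv.symm⟩ : Two t N D q r _ _).false hna

end OddSide

end CfsgLib.ConjRankFour
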