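import Cfsg.Agent.Lib.ConjRankFour.Poset
import Cfsg.Agent.Lib.ConjRankFour.Five.ClassPow

set_option autoImplicit false
set_option linter.style.haveILetI false

/-!
With five values two heads cannot have a common non-trivial element in their centralizers.
-/

namespace CfsgLib.ConjRankFour

open Cfsg Subgroup CfsgLib.ConjRankThree

universe u

variable {G : Type u} [Group G] [Finite G] [IsSimpleGroup G]

theorem cent_le_of_zpowers {x y : G} (h : y ∈ zpowers x) : centralizer ({x} : Set G) ≤ centralizer {y} := by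
  obtain ⟨n, rfl⟩ := h
  exact fun u hu => mem_cent.mpr ((show Commute u x from mem_cent.mp hu).zpow_right n).eq

omit [Finite G] [IsSimpleGroup G] in
theorem conj_ne_one (g : G) {x : G} (hx : x ≠ 1) : g * x * g⁻¹ ≠ 1 := fun e => hx (by
  rw [show x = g⁻¹ * (g * x * g⁻¹) * g by group, e]; group)

/-- Two heads whose centralizers meet, with one further value on each side and one common value. -/
structure Meet (x1 x2 v w : G) (p q b : ℕ) : Prop where
  hna : ¬ IsMulCommutative G
  head : TwoHeaded x1 x2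
  hp : p.Prime
  hq : q.Prime
  hpq : p ≠ q
  ox1 : ∃ k, orderOf x1 = p ^ k
  ox2 : ∃ k, orderOf x2 = q ^ k
  ov : ∃ k, orderOf v = p ^ k
  ow : ∃ k, orderOf w = q ^ k
  hv : v ∈ (centralizer {x1} ⊓ centralizer ({x2} : Set G) : Subgroup G)
  hw : w ∈ (centralizer {x1} ⊓ centralizer ({x2} : Set G) : Subgroup G)
  hv1 : v ≠ 1
  hw1 : w ≠ 1
  vd : cc v ∣ cc x1
  vn : ¬ cc v ∣ cc x2
  wd : cc w ∣ cc x2
  wn : ¬ cc w ∣ cc x1
  bv : b ∣ cc v
  bw : b ∣ cc w
  val : ∀ u : G, u ≠ 1 → cc u = cc x1 ∨ cc u = cc x2 ∨ cc u = cc v ∨ cc u = cc w ∨ cc u = b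

namespace Meet

variable {x1 x2 v w : G} {p q b : ℕ} (M : Meet x1 x2 v w p q b)
include M

theorem symm : Meet x2 x1 w v q p b :=
  ⟨M.hna, M.head.symm, M.hq, M.hp, M.hpq.symm, M.ox2, M.ox1, M.ow, M.ov, ⟨M.hw.2, M.hw.1⟩, ⟨M.hv.2, M.hv.1⟩,
    M.hw1, M.hv1, M.wd, M.wn, M.vd, M.vn, M.bw, M.bv, fun u hu => by
      rcases M.val u hu with e | e | e | e | e <;> simp [e]⟩

theorem eq_b {u : G} (hu : u ≠ 1) (h1 : cc u ∣ cc x1) (h2 : cc u ∣ cc x2) : cc u = b := by
  rcases M.val u hu with e | e | e | e | e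
  · exact absurd (e ▸ h2) M.head.not_dvd
  · exact absurd (e ▸ h1) M.head.not_dvd'
  · exact absurd (e ▸ h2) M.vn
  · exact absurd (e ▸ h1) M.wn
  · exact e

theorem not_commute {a c : G} (ha : a ≠ 1) (hc : c ≠ 1) (ea : cc a = cc x1) (ec : cc c = cc x2) : a * c ≠ c * a :=
  TwoHeaded.not_commute_of_eq M.hna M.head ha hc ea ec

theorem below_v {u : G} (hu : u ≠ 1) (h : cc u ∣ cc v) : cc u = cc v ∨ cc u = b := by
  rcases M.val u hu with e | e | e | e | e
  · exfalso
    exact M.not_commute M.hv1 M.head.ne2 (Nat.dvd_antisymm M.vd (e ▸ h)) rfl (mem_cent.mp M.hv.2)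
  · exact absurd (e ▸ h.trans M.vd) M.head.not_dvd'
  · exact Or.inl e
  · exact absurd (e ▸ h.trans M.vd) M.wn
  · exact Or.inr e

theorem above_v {u : G} (hu : u ≠ 1) (h : cc v ∣ cc u) : cc u = cc v ∨ cc u = cc x1 := by
  rcases M.val u hu with e | e | e | e | e
  · exact Or.inr e
  · exact absurd (e ▸ h) M.vn
  · exact Or.inl e
  · exact absurd ((e ▸ h).trans M.wd) M.vn
  · exact absurd ((e ▸ h).trans (M.bw.trans M.wd)) M.vn

/-- A common element of coprime order times the first element has the common value. -/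
theorem mix {u : G} {s : ℕ} (hs : s.Prime) (hsp : s ≠ p) (hu1 : u ≠ 1) (hso : ∃ k, orderOf u = s ^ k)
    (hu : u ∈ (centralizer {x1} ⊓ centralizer ({x2} : Set G) : Subgroup G)) :
    Nat.card (centralizer {u} ⊓ centralizer ({x1} : Set G) : Subgroup G) = b := by
  have hco := coprime_of_not_eq hs M.hp hsp hso M.ox1
  have hmul := mul_cent (show Commute u x1 from mem_cent.mp hu.1) hco
  have hne : u * x1 ≠ 1 := mul_ne_one_of_coprime hu1 hco
  have h1 : cc (u * x1) ∣ cc x1 := cc_le_of_le (hmul.le.trans inf_le_right)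
  have hu' : cc (u * x1) ∣ cc u := cc_le_of_le (hmul.le.trans inf_le_left)
  have hne' : cc (u * x1) ≠ cc u := fun e => by
    have h2 : centralizer ({u * x1} : Set G) = centralizer {u} :=
      eq_of_le_of_card_ge (hmul.le.trans inf_le_left) e.ge
    have h3 : x2 ∈ centralizer ({u * x1} : Set G) := h2 ▸ mem_cent_symm hu.2
    exact M.not_commute M.head.ne1 M.head.ne2 rfl rfl (mem_cent.mp (hmul.le.trans inf_le_right h3)).symm
  show Nat.card (centralizer {u} ⊓ centralizer ({x1} : Set G) : Subgroup G) = b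
  rw [← hmul]
  show cc (u * x1) = b
  rcases M.val u hu1 with e | e | e | e | e
  · exact absurd (mem_cent.mp hu.2) (M.not_commute hu1 M.head.ne2 e rfl)
  · exact absurd (mem_cent.mp hu.1).symm (M.not_commute M.head.ne1 hu1 rfl e)
  · exact (M.below_v hne (e ▸ hu')).resolve_left fun e' => hne' (e'.trans e.symm)
  · exact M.eq_b hne h1 ((e ▸ hu').trans M.wd)
  · exact M.eq_b hne h1 ((e ▸ hu').trans (M.bw.trans M.wd))

theorem b_eq : Nat.card (centralizer {x1} ⊓ centralizer ({x2} : Set G) : Subgroup G) = b := by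
  set J := centralizer {x1} ⊓ centralizer ({x2} : Set G) with hJ
  refine Nat.dvd_antisymm ?_ ?_
  · have hb0 : b ≠ 0 := fun e => (cc_pos v).ne' (Nat.eq_zero_of_zero_dvd (e ▸ M.bv))
    rw [← Nat.factorization_le_iff_dvd Nat.card_pos.ne' hb0]
    intro r
    by_cases hr : r.Prime
    swap
    · rw [Nat.factorization_eq_zero_of_not_prime _ hr]; exact Nat.zero_le _
    by_cases hrJ : r ∣ Nat.card J
    swap
    · rw [Nat.factorization_eq_zero_of_not_dvd hrJ]; exact Nat.zero_le _
    haveI := Fact.mk hr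
    obtain ⟨R, hRJ, hR, hRc⟩ := exists_qgroup_le r J
    have hR0 : R ≠ ⊥ := fun e => by
      rw [e, card_bot, eq_comm] at hRc
      exact (Nat.one_lt_pow (hr.factorization_pos_of_dvd Nat.card_pos.ne' hrJ).ne' hr.one_lt).ne' hRc
    haveI := (nontrivial_iff_ne_bot R).mpr hR0
    haveI := hR.center_nontrivial
    obtain ⟨⟨⟨u, hu⟩, huc⟩, hu1⟩ := exists_ne (1 : center R)
    have hu1' : u ≠ 1 := fun e => hu1 (Subtype.ext (Subtype.ext e))
    have hRu : R ≤ centralizer ({u} : Set G) := fun a ha =>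
      mem_cent.mpr (congrArg Subtype.val (mem_center_iff.mp huc ⟨a, ha⟩))
    rw [← hr.pow_dvd_iff_le_factorization hb0, ← hRc]
    by_cases hrp : r = p
    · rw [← M.symm.mix hr (hrp ▸ M.hpq) hu1' (exists_orderOf_eq_pow hR hu) ⟨(hRJ hu).2, (hRJ hu).1⟩]
      exact card_dvd_of_le (le_inf hRu (hRJ.trans inf_le_right))
    · rw [← M.mix hr hrp hu1' (exists_orderOf_eq_pow hR hu) (hRJ hu)]
      exact card_dvd_of_le (le_inf hRu (hRJ.trans inf_le_left))
  · have h1 : b ∣ Nat.card J * (centralizer ({x2} : Set G)).index := M.head.card_inf.symm ▸ M.bv.trans M.vd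
    have h2 : b ∣ Nat.card J * (centralizer ({x1} : Set G)).index := by
      have := M.head.symm.card_inf
      rw [inf_comm] at this
      exact this.symm ▸ M.bw.trans M.wd
    have := Nat.dvd_gcd h1 h2
    rwa [Nat.gcd_mul_left, M.head.coprime.symm.gcd_eq_one, mul_one] at this

/-- The second prime divides the value of `v` no further than the intersection. -/
theorem fac_v : (cc v).factorization q = b.factorization q := by
  have hi : ¬ q ∣ (centralizer ({x2} : Set G)).index := by
    intro hc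
    obtain ⟨k, hk⟩ := M.ox2
    have hnf := M.head.symm.not_full M.hna M.hq hk
    rcases index_coprime_iff.mp M.head.coprime q M.hq with h1 | h1
    · exact hnf h1
    · have h2 := mul_dvd_mul h1 hc
      rw [show cc x2 * (centralizer ({x2} : Set G)).index = Nat.card G from
        (centralizer ({x2} : Set G)).card_mul_index, ← pow_succ,
        M.hq.pow_dvd_iff_le_factorization Nat.card_pos.ne'] at h2
      omega
  have hb0 : b ≠ 0 := fun e => (cc_pos v).ne' (Nat.eq_zero_of_zero_dvd (e ▸ M.bv))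
  refine le_antisymm ?_ ((Nat.factorization_le_iff_dvd hb0 (cc_pos v).ne').mpr M.bv q)
  refine ((Nat.factorization_le_iff_dvd (cc_pos v).ne' (cc_pos x1).ne').mpr M.vd q).trans (le_of_eq ?_)
  rw [← M.head.card_inf, M.b_eq, Nat.factorization_mul hb0 index_ne_zero_of_finite, Finsupp.add_apply,
    Nat.factorization_eq_zero_of_not_dvd hi, add_zero]

/-- The product of the two elements has order prime to the second prime. -/
theorem not_dvd_order (hz : cc (x1 * x2) = cc v) : ¬ q ∣ orderOf (x1 * x2) := by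
  haveI := Fact.mk M.hq
  intro hd
  set z := x1 * x2 with hzd
  obtain ⟨a, c, hac, -, ha, hc, haz, -⟩ := CfsgLib.Blocks.exists_pPart M.hq z
  have ha1 : a ≠ 1 := fun e => hc (by rw [e, one_mul] at hac; rw [hac]; exact hd)
  have hle : centralizer ({z} : Set G) ≤ centralizer {a} := cent_le_of_zpowers haz
  have hJz : (centralizer {x1} ⊓ centralizer ({x2} : Set G) : Subgroup G) ≤ centralizer {z} := cent_mul_le x1 x2
  rcases M.above_v ha1 (hz ▸ cc_le_of_le hle) with e | e
  · have heq : centralizer ({z} : Set G) = centralizer {a} := eq_of_le_of_card_ge hle (e.trans hz.symm).le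
    obtain ⟨d, hd', hda⟩ := exists_conj_mem_of_full (q := q) hJz (u := a)
      (by rw [show (Nat.card (centralizer ({z} : Set G))).factorization q = b.factorization q from
            (congrArg (fun n => n.factorization q) hz).trans M.fac_v, M.b_eq]
          exact Nat.ordProj_dvd b q)
      (heq ▸ self_mem a) ha
    have hfix : d * a * d⁻¹ = a := by
      have : d * a = a * d := mem_cent.mp (heq ▸ hd')
      rw [this, mul_inv_cancel_right]
    rw [hfix] at hda
    have h1 : x1 ∈ centralizer ({z} : Set G) := heq ▸ mem_cent_symm hda.1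
    have h2 : x1 * (x1 * x2) = x1 * x2 * x1 := mem_cent.mp h1
    rw [mul_assoc x1 x2 x1] at h2
    exact M.not_commute M.head.ne1 M.head.ne2 rfl rfl (mul_left_cancel h2)
  · have hzv : z ∈ centralizer ({v} : Set G) := mem_cent_symm (hJz M.hv)
    have hav : a ∈ centralizer ({v} : Set G) := (zpowers_le.mpr hzv) haz
    obtain ⟨d, -, hda⟩ := exists_conj_mem_of_full (q := q) (H := centralizer ({v} : Set G))
      (B := centralizer {v} ⊓ centralizer ({x2} : Set G)) inf_le_left
      (by rw [show (Nat.card (centralizer ({v} : Set G))).factorization q = b.factorization q from M.fac_v,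
            M.symm.mix M.hp M.hpq M.hv1 M.ov ⟨M.hv.2, M.hv.1⟩]
          exact Nat.ordProj_dvd b q) hav ha
    exact M.not_commute (conj_ne_one d ha1) M.head.ne2 ((cc_conj d a).trans e) rfl (mem_cent.mp hda.2)

/-- In the centralizer of `w` only the second prime enlarges the common value. -/
theorem fac_w {r : ℕ} (hr : r.Prime) (hrq : r ≠ q) : (cc w).factorization r = b.factorization r := by
  by_cases hrp : r = p
  · exact hrp ▸ M.symm.fac_v
  haveI := Fact.mk hr
  haveI := Fact.mk M.hp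
  have hb0 : b ≠ 0 := fun e => (cc_pos v).ne' (Nat.eq_zero_of_zero_dvd (e ▸ M.bv))
  have hle := (Nat.factorization_le_iff_dvd hb0 (cc_pos w).ne').mpr M.bw r
  by_contra hne
  obtain ⟨R, hRW, hR, hRc⟩ := exists_qgroup_le r (centralizer ({w} : Set G))
  have hR0 : R ≠ ⊥ := fun e => by
    rw [e, card_bot, eq_comm, Nat.pow_eq_one] at hRc
    have : 0 < (cc w).factorization r := by omega
    rcases hRc with h | h
    · exact hr.one_lt.ne' h
    · exact this.ne' h
  haveI := (nontrivial_iff_ne_bot R).mpr hR0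
  haveI := hR.center_nontrivial
  obtain ⟨⟨⟨t, ht⟩, htc⟩, ht1'⟩ := exists_ne (1 : center R)
  have ht1 : t ≠ 1 := fun e => ht1' (Subtype.ext (Subtype.ext e))
  have hto := exists_orderOf_eq_pow hR ht
  have hco := coprime_of_not_eq hr M.hq hrq hto M.ow
  have hmul := mul_cent (show Commute t w from mem_cent.mp (hRW ht)) hco
  have htw : centralizer ({t * w} : Set G) = centralizer {w} := by
    refine eq_of_le_of_card_ge (hmul.le.trans inf_le_right) ?_
    rcases M.symm.below_v (mul_ne_one_of_coprime ht1 hco) (cc_le_of_le (hmul.le.trans inf_le_right)) with e | e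
    · exact e.ge
    · exfalso
      have h1 : R ≤ centralizer ({t * w} : Set G) := hmul.symm ▸ le_inf
        (fun a ha => mem_cent.mpr (congrArg Subtype.val (mem_center_iff.mp htc ⟨a, ha⟩))) hRW
      have h2 := card_dvd_of_le h1
      rw [hRc, show Nat.card (centralizer ({t * w} : Set G)) = b from e,
        hr.pow_dvd_iff_le_factorization hb0] at h2
      have : (Nat.card (centralizer ({w} : Set G))).factorization r = (cc w).factorization r := rfl
      omega
  have hwt : centralizer ({w} : Set G) ≤ centralizer {t} := htw ▸ hmul.le.trans inf_le_left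
  have htJ : t ∈ (centralizer {x1} ⊓ centralizer ({x2} : Set G) : Subgroup G) :=
    ⟨mem_cent_symm (hwt (mem_cent_symm M.hw.1)), mem_cent_symm (hwt (mem_cent_symm M.hw.2))⟩
  have hct : centralizer ({w} : Set G) = centralizer {t} := by
    refine eq_of_le_of_card_ge hwt ?_
    rcases M.symm.above_v ht1 (cc_le_of_le hwt) with e | e
    · exact e.le
    · exact absurd (mem_cent.mp htJ.1).symm (M.not_commute M.head.ne1 ht1 rfl e)
  obtain ⟨d, -, hd⟩ := exists_conj_mem_of_full (q := p) (H := centralizer ({w} : Set G))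
    (B := centralizer {w} ⊓ centralizer ({x2} : Set G)) inf_le_left (u := x1)
    (by rw [hct, M.symm.mix hr hrq ht1 hto ⟨htJ.2, htJ.1⟩, ← hct,
          show (Nat.card (centralizer ({w} : Set G))).factorization p = b.factorization p from M.symm.fac_v]
        exact Nat.ordProj_dvd b p) (mem_cent_symm M.hw.1) M.ox1
  exact M.not_commute (conj_ne_one d M.head.ne1) M.head.ne2 (cc_conj d x1) rfl (mem_cent.mp hd.2)

theorem core (hz : cc (x1 * x2) = cc v) : False := by
  haveI := Fact.mk M.hp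
  haveI := Fact.mk M.hq
  set X := centralizer ({w} : Set G)
  have hx1 : x1 ∈ X := mem_cent_symm M.hw.1
  have hx2 : x2 ∈ X := mem_cent_symm M.hw.2
  have hb0 : b ≠ 0 := fun e => (cc_pos v).ne' (Nat.eq_zero_of_zero_dvd (e ▸ M.bv))
  have hb : cc (⟨x1, hx1⟩ : X) = b := by
    rw [cc_sub]; exact M.mix M.hq M.hpq.symm M.hw1 M.ow M.hw
  have hmul := (centralizer ({(⟨x1, hx1⟩ : X)} : Set X)).card_mul_index
  rw [show Nat.card (centralizer ({(⟨x1, hx1⟩ : X)} : Set X)) = b from hb] at hmul
  obtain ⟨i, hi⟩ : ∃ i, (centralizer ({(⟨x1, hx1⟩ : X)} : Set X)).index = q ^ i := by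
    refine ⟨_, Nat.eq_prime_pow_of_unique_prime_dvd index_ne_zero_of_finite fun {r} hr hd => ?_⟩
    by_contra hne
    have h1 := congrArg (fun n => n.factorization r) hmul
    simp only [Nat.factorization_mul hb0 index_ne_zero_of_finite, Finsupp.add_apply] at h1
    rw [show (Nat.card X).factorization r = b.factorization r from M.fac_w hr hne] at h1
    have := hr.factorization_pos_of_dvd index_ne_zero_of_finite hd
    omega
  have hord : ∀ (y : G) (hy : y ∈ X), orderOf (⟨y, hy⟩ : X) = orderOf y := fun y hy => Subgroup.orderOf_mk y hy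
  obtain ⟨k, hk⟩ := M.ox1
  obtain ⟨l, hl⟩ := M.ox2
  obtain ⟨c, hc⟩ := isConj_iff.mp (isConj_mul_of_class_pow M.hpq (x := (⟨x1, hx1⟩ : X)) (y := ⟨x2, hx2⟩)
    ⟨k, by rw [hord]; exact hk⟩ ⟨l, by rw [hord]; exact hl⟩ hi
    (by rw [show (⟨x1, hx1⟩ : X) * ⟨x2, hx2⟩ = ⟨x1 * x2, mul_mem hx1 hx2⟩ from rfl, hord]; exact M.not_dvd_order hz))
  have e : (c : G) * x1 * (c : G)⁻¹ = x1 * x2 := congrArg Subtype.val hc
  exact cc_mul_ne M.hna M.head.ne1 M.head.ne2 M.head.coprime (e ▸ cc_conj (c : G) x1)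

end Meet

/-- With five values the intersection of the centralizers of two heads is trivial. -/
theorem TwoHeaded.card_inf_eq_one_five {x1 x2 : G} (h : TwoHeaded x1 x2) (hna : ¬ IsMulCommutative G)
    (h5 : (orders G).ncard ≤ 5) :
    Nat.card (centralizer {x1} ⊓ centralizer ({x2} : Set G) : Subgroup G) = 1 := by
  by_contra hne
  obtain ⟨p, k, hp, hk⟩ := h.primary1
  obtain ⟨q, l, hq, hl⟩ := h.primary2
  obtain ⟨hpq, v, w, hv, hw, hv1, hw1, hvo, hwo, hvd, hv', hwd, hw'⟩ := h.exists_inf_data hna hp hk hq hl hne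
  have hco := coprime_of_not_eq hp hq hpq hvo ⟨l, hl⟩
  have hmul := mul_cent (show Commute v x2 from mem_cent.mp hv.2) hco
  have hu1 : v * x2 ≠ 1 := mul_ne_one_of_coprime hv1 hco
  set b := cc (v * x2) with hb
  have hbv : b ∣ cc v := cc_le_of_le (hmul.le.trans inf_le_left)
  have hb2 : b ∣ cc x2 := cc_le_of_le (hmul.le.trans inf_le_right)
  have e1 : cc v ≠ cc x1 := fun e => not_commute_of_eq hna h hv1 h.ne2 e rfl (mem_cent.mp hv.2)
  have e2 : cc w ≠ cc x2 := fun e => not_commute_of_eq hna h h.ne1 hw1 rfl e (mem_cent.mp hw.1).symm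
  have hall : orders G = {cc x1, cc x2, cc v, cc w, b} := by
    symm
    refine Set.eq_of_subset_of_ncard_le ?_ ?_ orders_finite
    · rintro _ (rfl | rfl | rfl | rfl | rfl)
      exacts [⟨_, h.ne1, rfl⟩, ⟨_, h.ne2, rfl⟩, ⟨_, hv1, rfl⟩, ⟨_, hw1, rfl⟩, ⟨_, hu1, rfl⟩]
    · have hb1 := hbv.trans hvd
      have n12 : cc x1 ≠ cc x2 := fun e => h.not_dvd (e ▸ dvd_rfl)
      have n1w : cc x1 ≠ cc w := fun e => hw' (e ▸ dvd_rfl)
      have n1b : cc x1 ≠ b := fun e => h.not_dvd (e ▸ hb2)
      have n2v : cc x2 ≠ cc v := fun e => hv' (e ▸ dvd_rfl)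
      have n2b : cc x2 ≠ b := fun e => h.not_dvd' (e ▸ hb1)
      have nvw : cc v ≠ cc w := fun e => hv' (e ▸ hwd)
      have nvb : cc v ≠ b := fun e => hv' (e ▸ hb2)
      have nwb : cc w ≠ b := fun e => hw' (e ▸ hb1)
      rw [Set.ncard_insert_of_notMem (by simp [n12, e1.symm, n1w, n1b]), Set.ncard_insert_of_notMem (by simp [n2v, e2.symm, n2b]),
        Set.ncard_insert_of_notMem (by simp [nvw, nvb]), Set.ncard_pair nwb]
      exact h5
  have hval : ∀ u : G, u ≠ 1 → cc u = cc x1 ∨ cc u = cc x2 ∨ cc u = cc v ∨ cc u = cc w ∨ cc u = b := fun u hu => by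
    have hm : cc u ∈ orders G := ⟨u, hu, rfl⟩
    rw [hall] at hm
    simpa using hm
  have hbw : b ∣ cc w := by
    have hco' := coprime_of_not_eq hq hp hpq.symm hwo ⟨k, hk⟩
    have hmul' := mul_cent (show Commute w x1 from mem_cent.mp hw.1) hco'
    have h1 : cc (w * x1) ∣ cc x1 := cc_le_of_le (hmul'.le.trans inf_le_right)
    have h2 : cc (w * x1) ∣ cc w := cc_le_of_le (hmul'.le.trans inf_le_left)
    have h3 : cc (w * x1) ∣ cc x2 := h2.trans hwd
    rcases hval _ (mul_ne_one_of_coprime hw1 hco') with e | e | e | e | e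
    · exact absurd (e ▸ h3) h.not_dvd
    · exact absurd (e ▸ h1) h.not_dvd'
    · exact absurd (e ▸ h3) hv'
    · exact absurd (e ▸ h1) hw'
    · exact e ▸ h2
  have M : Meet x1 x2 v w p q b :=
    ⟨hna, h, hp, hq, hpq, ⟨k, hk⟩, ⟨l, hl⟩, hvo, hwo, hv, hw, hv1, hw1, hvd, hv', hwd, hw', hbv, hbw, hval⟩
  have hz1 : x1 * x2 ≠ 1 := mul_ne_one_of_coprime h.ne1 (coprime_of_not_eq hp hq hpq ⟨k, hk⟩ ⟨l, hl⟩)
  rcases hval _ hz1 with e | e | e | e | e
  · exact cc_mul_ne hna h.ne1 h.ne2 h.coprime e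
  · exact cc_mul_ne' hna h.ne1 h.ne2 h.coprime e
  · exact M.core e
  · exact M.symm.core (by rw [show x2 * x1 = x2 * (x1 * x2) * x2⁻¹ by group, cc_conj]; exact e)
  · have hJ : (centralizer {x1} ⊓ centralizer ({x2} : Set G) : Subgroup G) = centralizer {x1 * x2} :=
      eq_of_le_of_card_ge (cent_mul_le x1 x2) (by rw [M.b_eq]; exact e.le)
    have h1 : x1 * x2 * x1 = x1 * (x1 * x2) := mem_cent.mp ((hJ.symm ▸ self_mem (x1 * x2) :
      x1 * x2 ∈ (centralizer {x1} ⊓ centralizer ({x2} : Set G) : Subgroup G))).1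
    rw [mul_assoc] at h1
    exact not_commute_of_eq hna h h.ne1 h.ne2 rfl rfl (mul_left_cancel h1).symm

end CfsgLib.ConjRankFour
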