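import Cfsg.Agent.Lib.ConjRankFour.Inv
import Cfsg.Agent.Lib.ConjRankFour.Five.NoOddSide
import Cfsg.Agent.Lib.ConjRankFour.Five.FourOne
import Cfsg.Agent.Lib.ConjRankFour.Five.TwoHeadG

set_option autoImplicit false
set_option linter.style.haveILetI false

/-!
Five orders of centralizers with a number of heads other than three.
-/

namespace CfsgLib.ConjRankFour

open Cfsg Subgroup CfsgLib.ConjRankThree

universe u

variable {G : Type u} [Group G] [Finite G] [IsSimpleGroup G]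

/-- The second centralizer is abelian if its order is minimal. -/
theorem TwoHeaded.abelian_of_single {x1 x2 : G} (h : TwoHeaded x1 x2) (hna : ¬ IsMulCommutative G)
    (hco : (cc x1).Coprime (cc x2)) (hprod : cc x1 * cc x2 = Nat.card G)
    (hsingle : ∀ x : G, x ≠ 1 → cc x ∣ cc x2 → cc x = cc x2) :
    (∀ a ∈ centralizer ({x2} : Set G), ∀ b ∈ centralizer ({x2} : Set G), a * b = b * a) ∧
      ∀ a ∈ centralizer ({x2} : Set G), a ≠ 1 → centralizer ({a} : Set G) = centralizer {x2} := by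
  haveI := mono_of_simple hna
  obtain ⟨q', l, hq', hl⟩ := h.primary2
  have hmin : MinC x2 := ⟨h.ne2, fun y hy hd => hsingle y hy hd⟩
  have hK : ∀ a ∈ centralizer ({x2} : Set G), a ≠ 1 → cc a = cc x2 := fun a ha ha1 => by
    refine hsingle a ha1 ((h.dvd_or a ha1).resolve_left fun hd => ?_)
    exact ha1 (orderOf_eq_one_iff.mp
      (Nat.eq_one_of_dvd_coprimes hco ((orderOf_dvd_cc (self_mem a)).trans hd) (orderOf_dvd_cc ha)))
  obtain ⟨r, hr, hrq, hrd⟩ : ∃ r : ℕ, r.Prime ∧ r ≠ q' ∧ r ∣ cc x2 := by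
    by_contra hc
    push Not at hc
    obtain ⟨j, hj⟩ : ∃ j, cc x2 = q' ^ j := ⟨_, Nat.eq_prime_pow_of_unique_prime_dvd (cc_pos x2).ne' fun {d} hd hdd =>
      by_contra fun hne' => hc d hd hne' hdd⟩
    exact index_not_primePow h.ne1 hq' (k := j) (hj ▸ hprod.symm)
  obtain ⟨u, hu, huo, hu1⟩ := exists_orderOf_dvd hr hrd
  have huco : ∀ a : G, (∃ j, orderOf a = q' ^ j) → (orderOf u).Coprime (orderOf a) := fun a ha =>
    coprime_of_not_eq hr hq' hrq ⟨1, by rw [huo, pow_one]⟩ ha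
  have hCu : centralizer ({u} : Set G) = centralizer {x2} :=
    (eq_of_le_of_card_ge (hmin.le (mem_cent.mp hu).symm (huco x2 ⟨l, hl⟩).symm) (hK u hu hu1).le).symm
  have humin : MinC u := ⟨hu1, fun y hy hd => by
    rw [hK u hu hu1] at hd ⊢
    exact hsingle y hy hd⟩
  have hcomm : ∀ a ∈ centralizer ({x2} : Set G), ∀ b ∈ centralizer ({x2} : Set G), a * b = b * a := by
    intro a ha b hb
    obtain ⟨i, j, hj, hij⟩ := Nat.exists_eq_pow_mul_and_not_dvd (orderOf_pos a).ne' q' hq'.ne_one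
    have hc := (Nat.Prime.coprime_iff_not_dvd hq').mpr hj
    have hj0 : j ≠ 0 := fun e => hj (e ▸ dvd_zero q')
    have e : a ^ ((q' ^ i : ℕ) * (q' ^ i).gcdA j + (j : ℕ) * (q' ^ i).gcdB j : ℤ) = a := by
      rw [← Nat.gcd_eq_gcd_ab, Nat.Coprime.gcd_eq_one (hc.pow_left i), Nat.cast_one, zpow_one]
    have h1 : Commute (a ^ q' ^ i) b := by
      have hco' : (orderOf x2).Coprime (orderOf (a ^ q' ^ i)) := by
        rw [hl, orderOf_pow_of_dvd (pow_pos hq'.pos i).ne' (hij ▸ dvd_mul_right _ _), hij,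
          Nat.mul_div_cancel_left _ (pow_pos hq'.pos i)]
        exact hc.pow_left l
      exact (mem_cent.mp (hmin.le ((show Commute x2 a from (mem_cent.mp ha).symm).pow_right _) hco' hb)).symm
    have h2 : Commute (a ^ j) b := by
      have haj : orderOf (a ^ j) = q' ^ i := by
        rw [orderOf_pow_of_dvd hj0 (hij ▸ dvd_mul_left _ _), hij, Nat.mul_div_cancel _ (Nat.pos_of_ne_zero hj0)]
      have hau : Commute u a := (mem_cent.mp (hCu.symm ▸ ha : a ∈ centralizer ({u} : Set G))).symm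
      exact (mem_cent.mp (humin.le (hau.pow_right _) (huco _ ⟨i, haj⟩) (hCu.symm ▸ hb))).symm
    rw [← e, zpow_add, zpow_mul, zpow_mul, zpow_natCast, zpow_natCast]
    exact ((h1.zpow_left _).mul_left (h2.zpow_left _)).eq
  have hcent : ∀ a ∈ centralizer ({x2} : Set G), a ≠ 1 → centralizer ({a} : Set G) = centralizer {x2} :=
    fun a ha ha1 => (eq_of_le_of_card_ge (fun b hb => mem_cent.mpr (hcomm b hb a ha)) (hK a ha ha1).le).symm
  exact ⟨hcomm, hcent⟩

/-- Five values with two heads: one value lies below each involution or the involutions are good. -/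
theorem inv_or_good (hna : ¬ IsMulCommutative G) (h5 : (orders G).ncard = 5) (h3 : {v | Head G v}.ncard ≠ 3) :
    (∃ m, Inv G m) ∨ ∀ t : G, orderOf t = 2 → HasNormalPComplement 2 (centralizer ({t} : Set G)) := by
  classical
  haveI := mono_of_simple hna
  have hfin := orders_finite (G := G)
  by_cases hone : ∃ m, ∀ x : G, x ≠ 1 → ¬ Head G (cc x) → cc x = m
  · obtain ⟨m, hm⟩ := hone
    exact Or.inl ⟨m, fun v hv x hx hd hne => hm x hx fun hh =>
      hne (hh.2 _ ⟨v, fun e => by simp [e] at hv, rfl⟩ hd).symm⟩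
  push Not at hone
  obtain ⟨xa, hxa, hah, -⟩ := hone 0
  obtain ⟨xb, hxb, hbh, hab⟩ := hone (cc xa)
  obtain ⟨n1, hn1, -⟩ := exists_head (G := G) ⟨xa, hxa, rfl⟩
  obtain ⟨n2, hn2, hne⟩ := two_heads hna hn1
  have hheads : {v | Head G v} = {n1, n2} := by
    have hsub : {v | Head G v} ⊆ orders G := fun v hv => hv.1
    have hle : ({n1, n2} : Set ℕ) ⊆ {v | Head G v} := by rintro v (rfl | rfl); exacts [hn1, hn2]
    refine (Set.eq_of_subset_of_ncard_le hle ?_ (hfin.subset hsub)).symm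
    rw [Set.ncard_pair hne.symm]
    have h1 : ({cc xa, cc xb} : Set ℕ) ∪ {v | Head G v} ⊆ orders G := by
      rintro v ((rfl | rfl) | hv)
      exacts [⟨_, hxa, rfl⟩, ⟨_, hxb, rfl⟩, hv.1]
    have h2 := Set.ncard_le_ncard h1 hfin
    rw [Set.ncard_union_eq (Set.disjoint_left.mpr (by rintro v (rfl | rfl) hv; exacts [hah hv, hbh hv]))
      (Set.toFinite _) (hfin.subset hsub), Set.ncard_pair hab.symm, h5] at h2
    omega
  obtain ⟨y1, p, hp, hy1, hy1p, e1⟩ := hn1.exists_primary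
  obtain ⟨y2, q, hq, hy2, hy2p, e2⟩ := hn2.exists_primary
  have hdo : ∀ x : G, x ≠ 1 → cc x ∣ n1 ∨ cc x ∣ n2 := by
    intro x hx
    obtain ⟨v, hv, hd⟩ := exists_head (G := G) ⟨x, hx, rfl⟩
    have hv' : v ∈ {v | Head G v} := hv
    rw [hheads] at hv'
    rcases hv' with rfl | rfl
    exacts [Or.inl hd, Or.inr hd]
  subst e1 e2
  have hT : TwoHeaded y1 y2 := ⟨hy1, hy2, fun hd => hne (hn1.2 _ hn2.1 hd), fun hd => hne (hn2.2 _ hn1.1 hd).symm,
    hdo, ⟨p, hy1p.choose, hp, hy1p.choose_spec⟩, ⟨q, hy2p.choose, hq, hy2p.choose_spec⟩⟩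
  obtain ⟨x1, x2, h, h2, hh1⟩ : ∃ x1 x2 : G, TwoHeaded x1 x2 ∧ 2 ∣ cc x1 ∧ Head G (cc x1) := by
    have h2pos : (Nat.card G).factorization 2 ≠ 0 :=
      (Nat.prime_two.factorization_pos_of_dvd Nat.card_pos.ne' (two_dvd_card hna)).ne'
    rcases index_coprime_iff.mp hT.coprime 2 Nat.prime_two with h1 | h1
    · exact ⟨y1, y2, hT, (dvd_pow_self 2 h2pos).trans h1, hn1⟩
    · exact ⟨y2, y1, hT.symm, (dvd_pow_self 2 h2pos).trans h1, hn2⟩
  clear hT hdo hheads hn1 hn2 hne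
  have hJ := h.card_inf_eq_one_five hna h5.le
  have hc1 := h.card_inf
  rw [hJ, one_mul] at hc1
  have hc2 := h.symm.card_inf
  rw [inf_comm, hJ, one_mul] at hc2
  have hprod : cc x1 * cc x2 = Nat.card G := by
    conv_lhs => rw [← hc1, mul_comm]
    exact (centralizer ({x2} : Set G)).card_mul_index
  have hco : (cc x1).Coprime (cc x2) := by
    rw [← hc1, ← hc2]; exact h.coprime.symm
  have hnot : ∀ x : G, x ≠ 1 → cc x ∣ cc x1 → ¬ cc x ∣ cc x2 := fun x hx ha hb =>
    hx (orderOf_eq_one_iff.mp (Nat.eq_one_of_dvd_coprimes hco ((orderOf_dvd_cc (self_mem x)).trans ha)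
      ((orderOf_dvd_cc (self_mem x)).trans hb)))
  have heven : ∀ v : G, orderOf v = 2 → cc v ∣ cc x1 := fun v hv => by
    have hv1 : v ≠ 1 := fun e => by simp [e] at hv
    refine (h.dvd_or v hv1).resolve_right fun hd => ?_
    have := Nat.eq_one_of_dvd_coprimes hco h2 ((hv ▸ orderOf_dvd_cc (self_mem v)).trans hd)
    omega
  by_cases hB1 : ∃ m, ∀ x : G, x ≠ 1 → cc x ∣ cc x1 → cc x ≠ cc x1 → cc x = m
  · obtain ⟨m, hm⟩ := hB1
    exact Or.inl ⟨m, fun v hv x hx hd hne' => hm x hx (hd.trans (heven v hv))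
      fun e => hne' (Nat.dvd_antisymm hd (e.symm ▸ heven v hv))⟩
  push Not at hB1
  obtain ⟨xc, hxc, hcd, hcn, -⟩ := hB1 0
  obtain ⟨xd, hxd, hdd, hdn, hcd'⟩ := hB1 (cc xc)
  by_cases hsingle : ∀ x : G, x ≠ 1 → cc x ∣ cc x2 → cc x = cc x2
  · obtain ⟨hcomm, hcent⟩ := h.abelian_of_single hna hco hprod hsingle
    obtain ⟨p', k', hp', hk'⟩ := h.primary1
    exact Or.inr (all_good hna h.ne1 h.ne2 hp' ⟨k', hk'⟩ h.coprime hco hprod hcomm hcent h.dvd_or
      (fun y hy hd => hh1.2 _ ⟨y, hy, rfl⟩ hd) h2 h5.le)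
  push Not at hsingle
  obtain ⟨xe, hxe, hed, hen⟩ := hsingle
  have hset : orders G = {cc x1, cc x2, cc xc, cc xd, cc xe} := by
    symm
    refine Set.eq_of_subset_of_ncard_le ?_ ?_ hfin
    · rintro _ (rfl | rfl | rfl | rfl | rfl)
      exacts [⟨_, h.ne1, rfl⟩, ⟨_, h.ne2, rfl⟩, ⟨_, hxc, rfl⟩, ⟨_, hxd, rfl⟩, ⟨_, hxe, rfl⟩]
    · have n12 : cc x1 ≠ cc x2 := fun e => h.not_dvd (e ▸ dvd_rfl)
      have n2c : cc x2 ≠ cc xc := fun e => h.not_dvd' (e ▸ hcd)
      have n2d : cc x2 ≠ cc xd := fun e => h.not_dvd' (e ▸ hdd)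
      have n1e : cc x1 ≠ cc xe := fun e => h.not_dvd (e ▸ hed)
      have nce : cc xc ≠ cc xe := fun e => hnot xc hxc hcd (e ▸ hed)
      have nde : cc xd ≠ cc xe := fun e => hnot xd hxd hdd (e ▸ hed)
      rw [Set.ncard_insert_of_notMem (by simp [n12, hcn.symm, hdn.symm, n1e]),
        Set.ncard_insert_of_notMem (by simp [n2c, n2d, hen.symm]),
        Set.ncard_insert_of_notMem (by simp [hcd'.symm, nce]), Set.ncard_pair nde, h5]
  have hval : ∀ y : G, y ≠ 1 → cc y = cc x1 ∨ cc y = cc x2 ∨ cc y = cc xc ∨ cc y = cc xd ∨ cc y = cc xe := by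
    intro y hy
    have hmem : cc y ∈ orders G := ⟨y, hy, rfl⟩
    rw [hset] at hmem
    exact hmem
  by_cases hinv : ∃ t : G, orderOf t = 2 ∧ cc t = cc x1
  · obtain ⟨t, ht, htc⟩ := hinv
    exfalso
    have hS : OddSide t (cc x2) (cc xe) :=
      { mono := inferInstance
        inv := ht
        cop := htc ▸ hco
        prod := htc ▸ hprod
        odd := by
          rw [← Nat.not_even_iff_odd, even_iff_two_dvd]
          intro h'
          have := Nat.eq_one_of_dvd_coprimes hco h2 h'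
          omega
        val := fun y hy => by
          rw [htc]
          rcases hval y hy with e | e | e | e | e
          · exact Or.inl (e ▸ dvd_rfl)
          · exact Or.inr (Or.inl e)
          · exact Or.inl (e ▸ hcd)
          · exact Or.inl (e ▸ hdd)
          · exact Or.inr (Or.inr e)
        dvd := hed
        ne := hen
        exN := ⟨x2, h.ne2, rfl⟩
        exD := ⟨xe, hxe, rfl⟩ }
    exact hS.false_of_simple hna
  push Not at hinv
  refine Or.inl ⟨min (cc xc) (cc xd), fun v hv x hx hd hne' => ?_⟩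
  have hv1 : v ≠ 1 := fun e => by simp [e] at hv
  have hv' : cc v = cc xc ∨ cc v = cc xd := by
    rcases hval v hv1 with e | e | e | e | e
    · exact absurd e (hinv v hv)
    · exact absurd (e ▸ dvd_rfl) (hnot v hv1 (heven v hv))
    · exact Or.inl e
    · exact Or.inr e
    · exact absurd (e ▸ hed) (hnot v hv1 (heven v hv))
  have hle := Nat.le_of_dvd (cc_pos v) hd
  rcases hval x hx with e | e | e | e | e
  · exact absurd (Nat.dvd_antisymm hd (e.symm ▸ heven v hv)) hne'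
  · exact absurd (e ▸ dvd_rfl) (hnot x hx (hd.trans (heven v hv)))
  · rw [e] at hle hne' ⊢
    rcases hv' with e' | e' <;> rw [e'] at hle hne' <;> omega
  · rw [e] at hle hne' ⊢
    rcases hv' with e' | e' <;> rw [e'] at hle hne' <;> omega
  · exact absurd (e ▸ hed) (hnot x hx (hd.trans (heven v hv)))

/-- The minimal indices correspond to the heads. -/
theorem minimal_ncard_eq (hna : ¬ IsMulCommutative G) :
    Set.ncard {a : ℕ | a ∈ {m : ℕ | ∃ x : G, x ∉ center G ∧ m = (centralizer ({x} : Set G)).index} ∧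
      ∀ c ∈ {m : ℕ | ∃ x : G, x ∉ center G ∧ m = (centralizer ({x} : Set G)).index}, c ∣ a → c = a} =
      {v | Head G v}.ncard := by
  have hidx : ∀ x : G, cc x * (centralizer ({x} : Set G)).index = Nat.card G := fun x =>
    (centralizer ({x} : Set G)).card_mul_index
  have hdvd : ∀ x y : G, ((centralizer ({y} : Set G)).index ∣ (centralizer ({x} : Set G)).index ↔ cc x ∣ cc y) := by
    intro x y
    constructor
    · rintro ⟨j, hj⟩
      refine ⟨j, Nat.eq_of_mul_eq_mul_right (Nat.pos_of_ne_zero (index_ne_zero_of_finite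
        (H := centralizer ({y} : Set G)))) ?_⟩
      rw [hidx y, mul_assoc, mul_comm j, ← hj, hidx x]
    · rintro ⟨j, hj⟩
      refine ⟨j, Nat.eq_of_mul_eq_mul_left (cc_pos x) ?_⟩
      rw [hidx x, mul_comm (centralizer ({y} : Set G)).index, ← mul_assoc, ← hj, hidx y]
  have hnc : ∀ {x : G}, x ∉ center G ↔ x ≠ 1 := fun {x} => not_congr (mem_center_iff_one hna)
  have e : {a : ℕ | a ∈ {m : ℕ | ∃ x : G, x ∉ center G ∧ m = (centralizer ({x} : Set G)).index} ∧
      ∀ c ∈ {m : ℕ | ∃ x : G, x ∉ center G ∧ m = (centralizer ({x} : Set G)).index}, c ∣ a → c = a} =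
      (fun v => Nat.card G / v) '' {v | Head G v} := by
    ext a
    constructor
    · rintro ⟨⟨x, hx, rfl⟩, hmin⟩
      refine ⟨cc x, ⟨⟨x, hnc.mp hx, rfl⟩, ?_⟩, ?_⟩
      · rintro _ ⟨y, hy, rfl⟩ hd
        have h1 := hmin _ ⟨y, hnc.mpr hy, rfl⟩ ((hdvd x y).mpr hd)
        exact Nat.dvd_antisymm ((hdvd y x).mp (h1 ▸ dvd_rfl)) hd
      · show Nat.card G / cc x = _
        rw [← hidx x, Nat.mul_div_cancel_left _ (cc_pos x)]
    · rintro ⟨v, ⟨⟨x, hx, rfl⟩, hmax⟩, rfl⟩
      show Nat.card G / cc x ∈ _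
      rw [← hidx x, Nat.mul_div_cancel_left _ (cc_pos x)]
      refine ⟨⟨x, hnc.mpr hx, rfl⟩, ?_⟩
      rintro _ ⟨y, hy, rfl⟩ hd
      have h1 := hmax _ ⟨y, hnc.mp hy, rfl⟩ ((hdvd x y).mp hd)
      exact Nat.dvd_antisymm hd ((hdvd y x).mpr (h1 ▸ dvd_rfl))
  rw [e]
  refine Set.InjOn.ncard_image ?_
  rintro v ⟨⟨x, -, rfl⟩, -⟩ w ⟨⟨y, -, rfl⟩, -⟩ he
  have h1 := Nat.div_div_self (cc_dvd x) Nat.card_pos.ne'
  rw [show Nat.card G / cc x = Nat.card G / cc y from he, Nat.div_div_self (cc_dvd y) Nat.card_pos.ne'] at h1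
  exact h1.symm

end CfsgLib.ConjRankFour
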