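import Cfsg.Agent.Lib.ConjRankFour.Five.ClassPow
import Cfsg.Agent.Lib.ConjRankThree.Main
import Cfsg.Agent.S0205

set_option autoImplicit false
set_option linter.style.haveILetI false

/-!
The odd side of a coprime pair of heads with two values below the odd one.
-/

namespace CfsgLib.ConjRankFour

open Cfsg Subgroup CfsgLib.ConjRankThree

universe u

variable {G : Type u} [Group G] [Finite G]

/-- The orders of centralizers below the odd head `N` are `N` and `D`. -/
structure OddSide (t : G) (N D : ℕ) : Prop where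
  mono : Mono G
  inv : orderOf t = 2
  cop : (cc t).Coprime N
  prod : cc t * N = Nat.card G
  odd : Odd N
  val : ∀ y : G, y ≠ 1 → cc y ∣ cc t ∨ cc y = N ∨ cc y = D
  dvd : D ∣ N
  ne : D ≠ N
  exN : ∃ v : G, v ≠ 1 ∧ cc v = N
  exD : ∃ u : G, u ≠ 1 ∧ cc u = D

namespace OddSide

variable {t : G} {N D : ℕ} (S : OddSide t N D)
include S

theorem N_pos : 0 < N := Nat.pos_of_ne_zero fun e => Nat.card_pos.ne' (by rw [← S.prod, e, mul_zero])

theorem not_commute {a b : G} (ha : a ≠ 1) (hb : b ≠ 1) (ea : cc a ∣ cc t) (eb : cc b ∣ N) : a * b ≠ b * a := fun e =>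
  ha (orderOf_eq_one_iff.mp (Nat.eq_one_of_dvd_coprimes S.cop ((orderOf_dvd_cc (self_mem a)).trans ea)
    ((orderOf_dvd_cc (mem_cent.mpr e)).trans eb)))

theorem val_dvd {y : G} (hy : y ≠ 1) (hd : cc y ∣ N) : cc y = N ∨ cc y = D := (S.val y hy).resolve_left fun h =>
  S.not_commute hy hy h hd rfl

theorem odd_type {y : G} (hy : y ≠ 1) (ho : orderOf y ∣ N) : cc y ∣ N := by
  rcases S.val y hy with h | h | h
  · exact absurd (orderOf_eq_one_iff.mp
      (Nat.eq_one_of_dvd_coprimes S.cop ((orderOf_dvd_cc (self_mem y)).trans h) ho)) hy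
  · exact h ▸ dvd_rfl
  · exact h ▸ S.dvd

theorem val_odd {y : G} (hy : y ≠ 1) (ho : orderOf y ∣ N) : cc y = N ∨ cc y = D := S.val_dvd hy (S.odd_type hy ho)

theorem mem_type {y : G} {J : Subgroup G} (hJ : Nat.card J ∣ N) (hy : y ∈ J) : orderOf y ∣ N :=
  (Subgroup.orderOf_dvd_natCard J hy).trans hJ

theorem isSolvable {J : Subgroup G} (hJ : Odd (Nat.card J)) : Group.IsSolvable J := Cfsg.Agent.S0205.result hJ

/-- The other primes: an element of order prime to `N` has centralizer order prime to `N`. -/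
theorem even_type {y : G} (hy : y ≠ 1) (ho : orderOf y ∣ cc t) : cc y ∣ cc t := by
  rcases S.val y hy with h | h | h
  · exact h
  all_goals
    refine absurd (orderOf_eq_one_iff.mp (Nat.eq_one_of_dvd_coprimes S.cop ho ((orderOf_dvd_cc (self_mem y)).trans ?_))) hy
  · exact h ▸ dvd_rfl
  · exact h ▸ S.dvd

/-- Elements of the two kinds do not commute. -/
theorem not_commute_order {a b : G} (ha : a ≠ 1) (hb : b ≠ 1) (ea : orderOf a ∣ cc t) (eb : orderOf b ∣ N) :
    a * b ≠ b * a :=
  S.not_commute ha hb (S.even_type ha ea) (S.odd_type hb eb)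

theorem fac_eq {r : ℕ} (hr : r.Prime) (hd : r ∣ N) : (Nat.card G).factorization r = N.factorization r := by
  rw [← S.prod, Nat.factorization_mul (cc_pos t).ne' S.N_pos.ne', Finsupp.add_apply,
    Nat.factorization_eq_zero_of_not_dvd fun h => hr.ne_one (Nat.eq_one_of_dvd_coprimes S.cop h hd), zero_add]

/-- An element of prime power order of the odd kind commutes with an element with centralizer of order `N`. -/
theorem exists_conj_cent {v u : G} (hv : cc v = N) {r : ℕ} (hr : r.Prime) (hd : r ∣ N)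
    (hu : ∃ k, orderOf u = r ^ k) : ∃ g : G, u ∈ centralizer ({g * v * g⁻¹} : Set G) := by
  haveI := Fact.mk hr
  obtain ⟨R, hR⟩ := exists_sylow_of_mem hu
  obtain ⟨g, hg⟩ := exists_sylow_le R (x := v) (by rw [S.fac_eq hr hd, hv]; exact Nat.ordProj_dvd N r)
  exact ⟨g, hg hR⟩

/-- The centralizers of order `N` are not abelian. -/
theorem nonabelian {v : G} (hv : cc v = N) :
    ¬ ∀ a ∈ centralizer ({v} : Set G), ∀ b ∈ centralizer ({v} : Set G), a * b = b * a := by
  intro hc
  obtain ⟨u, hu, hud⟩ := S.exD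
  obtain ⟨n, r, hr, hne, hord⟩ := exists_primary hu
  haveI := Fact.mk hr
  have hrN : r ∣ N := by
    obtain ⟨k, hk⟩ := hord
    have hk0 : k ≠ 0 := fun e => hne (by simpa [e] using hk)
    have h1 : orderOf (u ^ n) ∣ N := (orderOf_dvd_cc (mem_cent.mpr (Commute.refl u |>.pow_left n).eq)).trans (hud ▸ S.dvd)
    exact (dvd_pow_self r hk0).trans (hk ▸ h1)
  obtain ⟨g, hg⟩ := S.exists_conj_cent hv hr hrN hord
  set v' := g * v * g⁻¹
  have hc' : ∀ a ∈ centralizer ({v'} : Set G), ∀ b ∈ centralizer ({v'} : Set G), a * b = b * a := by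
    intro a ha b hb
    have key : ∀ z ∈ centralizer ({v'} : Set G), g⁻¹ * z * g ∈ centralizer ({v} : Set G) := fun z hz => by
      rw [mem_cent, show g⁻¹ * z * g * v = g⁻¹ * (z * v') * g by simp only [v']; group, mem_cent.mp hz]
      simp only [v']; group
    have h1 := hc _ (key a ha) _ (key b hb)
    calc a * b = g * (g⁻¹ * a * g * (g⁻¹ * b * g)) * g⁻¹ := by group
      _ = g * (g⁻¹ * b * g * (g⁻¹ * a * g)) * g⁻¹ := by rw [h1]
      _ = b * a := by group
  have hle : centralizer ({v'} : Set G) ≤ centralizer ({u ^ n} : Set G) := fun z hz => mem_cent.mpr (hc' z hz _ hg)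
  have hcard : cc (u ^ n) ∣ N := S.odd_type hne ((orderOf_dvd_cc hg).trans (by rw [cc_conj, hv]))
  have heq : centralizer ({v'} : Set G) = centralizer ({u ^ n} : Set G) :=
    eq_of_le_of_card_ge hle (Nat.le_of_dvd (cc_pos v') (show cc (u ^ n) ∣ cc v' by rw [cc_conj g v, hv]; exact hcard))
  have huv : u ∈ centralizer ({v'} : Set G) := heq ▸ mem_cent.mpr (Commute.refl u |>.pow_right n).eq
  have h2 : N ∣ cc u := by
    rw [← hv, ← cc_conj g v]
    exact cc_le_of_le fun z hz => mem_cent.mpr (hc' z hz u huv)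
  exact S.ne (Nat.dvd_antisymm S.dvd (hud ▸ h2))

/-- The normalizers of non-trivial odd subgroups of the kind of `N` have odd order. -/
theorem odd_local {J : Subgroup G} (hJ0 : J ≠ ⊥) (hJ : Nat.card J ∣ N) :
    Odd (Nat.card (normalizer (J : Set G))) := by
  haveI := S.mono
  rw [← Nat.not_even_iff_odd, even_iff_two_dvd]
  intro h2
  obtain ⟨j, hjN, hj, hj1⟩ := exists_orderOf_dvd Nat.prime_two h2
  have hjj : j * j = 1 := by rw [← pow_two, ← hj, pow_orderOf_eq_one]
  have ht2 : 2 ∣ cc t := S.inv ▸ orderOf_dvd_cc (self_mem t)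
  -- an involution normalizing an odd subgroup of this kind inverts it
  have hinv : ∀ W : Subgroup G, Nat.card W ∣ N → j ∈ normalizer (W : Set G) →
      (∀ a ∈ W, j * a * j⁻¹ = a⁻¹) ∧ ∀ a ∈ W, ∀ b ∈ W, a * b = b * a := by
    intro W hW hjW
    let φ : MulAut W := Subgroup.normalizerMonoidHom W ⟨j, hjW⟩
    have hfix : MonoidHom.FixedPointFree (φ : W →* W) := fun a ha => by
      have h1 : j * (a : G) * j⁻¹ = a := congrArg Subtype.val ha
      by_contra hne
      exact S.not_commute_order hj1 (fun e => hne (Subtype.ext e)) (hj ▸ ht2) (S.mem_type hW a.2)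
        (mul_inv_eq_iff_eq_mul.mp h1)
    have hφ : Function.Involutive (φ : W →* W) := fun a => Subtype.ext (by
      show j * (j * (a : G) * j⁻¹) * j⁻¹ = a
      rw [show j * (j * (a : G) * j⁻¹) * j⁻¹ = (j * j) * a * (j * j)⁻¹ by group, hjj, one_mul, inv_one, mul_one])
    exact ⟨fun a ha => congrArg Subtype.val (congrFun (hfix.coe_eq_inv_of_involutive hφ) ⟨a, ha⟩),
      fun a ha b hb => congrArg Subtype.val (hfix.commute_all_of_involutive hφ ⟨a, ha⟩ ⟨b, hb⟩).eq⟩
  have hnorm : ∀ a : G, j * a * j⁻¹ = a⁻¹ → j ∈ normalizer (centralizer ({a} : Set G) : Set G) := by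
    intro a ha
    rw [mem_normalizer_iff]
    intro z
    have hs : j⁻¹ = j := inv_eq_of_mul_eq_one_left hjj
    have key : ∀ z ∈ centralizer ({a} : Set G), j * z * j⁻¹ ∈ centralizer ({a} : Set G) := fun z hz => by
      have h1 : Commute (j * z * j⁻¹) (j * a * j⁻¹) := (show Commute z a from mem_cent.mp hz).map (MulAut.conj j)
      rw [ha] at h1
      exact mem_cent.mpr (Commute.inv_right_iff.mp h1).eq
    refine ⟨key z, fun hz => ?_⟩
    have h1 := key _ hz
    rwa [show j * (j * z * j⁻¹) * j⁻¹ = (j * j) * z * (j * j)⁻¹ by group, hjj, one_mul, inv_one, mul_one] at h1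
  -- an element of prime order of `J`
  obtain ⟨r, hr, hrJ⟩ := Nat.exists_prime_and_dvd (n := Nat.card J) (by rw [Ne, Subgroup.card_eq_one]; exact hJ0)
  obtain ⟨a, haJ, hao, ha1⟩ := exists_orderOf_dvd hr hrJ
  obtain ⟨v, hv1, hv⟩ := S.exN
  obtain ⟨g, hg⟩ := S.exists_conj_cent hv hr (hrJ.trans hJ) ⟨1, by rw [hao, pow_one]⟩
  set v' := g * v * g⁻¹
  have hv' : cc v' = N := (cc_conj g v).trans hv
  have h1 : Nat.card (centralizer ({a} : Set G)) ∣ N := S.odd_type ha1 (S.mem_type hJ haJ)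
  have h3 := (hinv J hJ hjN).1 a haJ
  have h4 := (hinv _ h1 (hnorm a h3)).1 v' (mem_cent_symm hg)
  exact S.nonabelian hv' (hinv _ (dvd_of_eq hv') (hnorm v' h4)).2

end OddSide

end CfsgLib.ConjRankFour
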