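import Cfsg.Agent.Lib.ConjRankFour.Five.OddSide
import Cfsg.Agent.Lib.ConjRankFour.Invol
import Cfsg.Agent.Lib.ZJ.Complement
import Cfsg.Agent.Lib.PRegularClass
import Cfsg.Agent.Lib.Basic
import Cfsg.Agent.Lib.Blocks.Orth

set_option autoImplicit false
set_option linter.style.haveILetI false

/-!
The odd side when all elements with the largest centralizer are `q`-elements.
-/

namespace CfsgLib.ConjRankFour

open Cfsg Subgroup CfsgLib.ConjRankThree

universe u

variable {G : Type u} [Group G] [Finite G]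

/-- All elements with centralizer of order `N` have `q`-power order. -/
structure Pure (t : G) (N D q : ℕ) : Prop where
  side : OddSide t N D
  hq : q.Prime
  pure : ∀ y : G, cc y = N → ∃ k, orderOf y = q ^ k

/-- An element of order dividing `N` and prime to `q`. -/
def Reg' (N q : ℕ) (y : G) : Prop := y ≠ 1 ∧ orderOf y ∣ N ∧ ¬ q ∣ orderOf y

namespace Pure

variable {t : G} {N D q : ℕ} (B : Pure t N D q)
include B

theorem q_dvd : q ∣ N := by
  obtain ⟨v, hv1, hv⟩ := B.side.exN
  obtain ⟨k, hk⟩ := B.pure v hv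
  have hk0 : k ≠ 0 := fun e => hv1 (by simpa [e] using hk)
  exact (dvd_pow_self q hk0).trans (hk ▸ hv ▸ orderOf_dvd_cc (self_mem v))

theorem q_ne_two : q ≠ 2 := by
  rintro rfl
  exact Nat.not_even_iff_odd.mpr B.side.odd (even_iff_two_dvd.mpr B.q_dvd)

theorem exists_other : ∃ r : ℕ, r.Prime ∧ r ≠ q ∧ r ∣ N := by
  by_contra hc
  push Not at hc
  haveI := B.side.mono
  have ht : t ≠ 1 := fun e => by simpa [e] using B.side.inv
  refine index_not_primePow (x := t) ht B.hq (k := N.primeFactorsList.length) (B.side.prod.symm.trans ?_)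
  congr 1
  exact Nat.eq_prime_pow_of_unique_prime_dvd B.side.N_pos.ne' fun {d} hd hdd => by_contra fun hne => hc d hd hne hdd

theorem cc_D {y : G} (hy : y ≠ 1) (ho : orderOf y ∣ N) (hq : ∀ k, orderOf y ≠ q ^ k) : cc y = D := by
  refine (B.side.val_odd hy ho).resolve_left fun h => ?_
  obtain ⟨k, hk⟩ := B.pure y h
  exact hq k hk

theorem reg_D {y : G} (hy : Reg' N q y) : cc y = D := B.cc_D hy.1 hy.2.1 fun k hk => by
  rcases k with - | k
  · exact hy.1 (orderOf_eq_one_iff.mp (by simpa using hk))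
  · exact hy.2.2 (hk ▸ dvd_pow_self q k.succ_ne_zero)

theorem reg_coprime {y a : G} (hy : Reg' N q y) (ha : ∃ k, orderOf a = q ^ k) : (orderOf y).Coprime (orderOf a) := by
  obtain ⟨k, hk⟩ := ha
  exact hk ▸ (B.hq.coprime_iff_not_dvd.mpr hy.2.2).symm.pow_right k

/-- The centralizer of a `q'`-element is central over the `q`-elements in it. -/
theorem le_q {y a : G} (hy : Reg' N q y) (ha : ∃ k, orderOf a = q ^ k) (haN : orderOf a ∣ N) (hc : Commute y a) :
    centralizer ({y} : Set G) ≤ centralizer ({a} : Set G) := by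
  have hco := B.reg_coprime hy ha
  have hmul := mul_cent hc hco
  have ho : orderOf (y * a) = orderOf y * orderOf a := hc.orderOf_mul_eq_mul_orderOf_of_coprime hco
  have hD : cc (y * a) = D := by
    refine B.cc_D (mul_ne_one_of_coprime hy.1 hco) (ho ▸ hco.mul_dvd_of_dvd_of_dvd hy.2.1 haN) fun k hk => ?_
    obtain ⟨r, hr, hrd⟩ := Nat.exists_prime_and_dvd (n := orderOf y) fun e => hy.1 (orderOf_eq_one_iff.mp e)
    have h1 : r ∣ q ^ k := hk ▸ ho ▸ hrd.mul_right _
    exact hy.2.2 ((Nat.prime_dvd_prime_iff_eq hr B.hq).mp (hr.dvd_of_dvd_pow h1) ▸ hrd)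
  exact (eq_of_le_of_card_ge (hmul.le.trans inf_le_left) ((B.reg_D hy).trans hD.symm).le).ge.trans
    (hmul.le.trans inf_le_right)

theorem le_v {v y : G} (hv : cc v = N) (hy : Reg' N q y) (hc : Commute y v) :
    centralizer ({y} : Set G) ≤ centralizer ({v} : Set G) :=
  B.le_q hy (B.pure v hv) (hv ▸ orderOf_dvd_cc (self_mem v)) hc

theorem reg_of_mem {y : G} {J : Subgroup G} (hJ : Nat.card J ∣ N) (hy : y ∈ J) (h1 : y ≠ 1) (hq : ¬ q ∣ orderOf y) :
    Reg' N q y :=
  ⟨h1, B.side.mem_type hJ hy, hq⟩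

theorem reg_of_prime {y : G} {r : ℕ} (hr : r.Prime) (hrq : r ≠ q) (hrN : r ∣ N) (ho : orderOf y = r) :
    Reg' N q y :=
  ⟨fun e => hr.one_lt.ne (by rw [← ho, e, orderOf_one]), ho.symm ▸ hrN, fun h =>
    hrq.symm ((Nat.prime_dvd_prime_iff_eq B.hq hr).mp (ho ▸ h))⟩

theorem fac_D {r : ℕ} (hr : r.Prime) (hrq : r ≠ q) : D.factorization r = N.factorization r := by
  have hD0 : D ≠ 0 := by
    obtain ⟨u, -, e⟩ := B.side.exD
    exact e ▸ (cc_pos u).ne'
  refine le_antisymm ((Nat.factorization_le_iff_dvd hD0 B.side.N_pos.ne').mpr B.side.dvd r) ?_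
  by_cases hrN : r ∣ N
  swap
  · rw [Nat.factorization_eq_zero_of_not_dvd hrN]; exact Nat.zero_le _
  haveI := Fact.mk hr
  obtain ⟨v, -, hv⟩ := B.side.exN
  obtain ⟨R, hRC, hR, hRc⟩ := exists_qgroup_le r (centralizer ({v} : Set G))
  rw [show Nat.card (centralizer ({v} : Set G)) = N from hv] at hRc
  have hpos := hr.factorization_pos_of_dvd B.side.N_pos.ne' hrN
  haveI : Nontrivial R := by
    rw [← Finite.one_lt_card_iff_nontrivial, hRc]
    exact Nat.one_lt_pow hpos.ne' hr.one_lt
  haveI := hR.center_nontrivial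
  obtain ⟨⟨⟨z, hz⟩, hzc⟩, hz1⟩ := exists_ne (1 : center R)
  have hz1' : z ≠ 1 := fun e => hz1 (Subtype.ext (Subtype.ext e))
  obtain ⟨k, hk⟩ := exists_orderOf_eq_pow hR hz
  have hreg : Reg' N q z := B.reg_of_mem (dvd_of_eq hv) (hRC hz) hz1' fun h =>
    hrq.symm ((Nat.prime_dvd_prime_iff_eq B.hq hr).mp (B.hq.dvd_of_dvd_pow (hk ▸ h)))
  rw [← hr.pow_dvd_iff_le_factorization hD0, ← hRc, ← B.reg_D hreg]
  exact card_dvd_of_le fun a ha => mem_cent.mpr (congrArg Subtype.val (mem_center_iff.mp hzc ⟨a, ha⟩))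

theorem exists_v {y : G} (hy : Reg' N q y) : ∃ v : G, cc v = N ∧ centralizer ({y} : Set G) ≤ centralizer {v} := by
  obtain ⟨r, hr, hrd⟩ := Nat.exists_prime_and_dvd (n := orderOf y) fun e => hy.1 (orderOf_eq_one_iff.mp e)
  obtain ⟨v, -, hv⟩ := B.side.exN
  set z := y ^ (orderOf y / r)
  have hz : orderOf z = r := orderOf_pow_orderOf_div (orderOf_pos y).ne' hrd
  obtain ⟨g, hg⟩ := B.side.exists_conj_cent hv hr (hrd.trans hy.2.1) (u := z) ⟨1, by rw [hz, pow_one]⟩
  have hreg := B.reg_of_prime hr (fun e => hy.2.2 (e ▸ hrd)) (hrd.trans hy.2.1) hz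
  refine ⟨g * v * g⁻¹, (cc_conj g v).trans hv, ?_⟩
  exact (cent_le_pow y _).trans (B.le_v ((cc_conj g v).trans hv) hreg (mem_cent.mp hg))

/-- Elements commuting with a `q'`-element centralize the Fitting subgroup modulo the `q`-core. -/
theorem mk_cent_fitting {v y : G} (hv : cc v = N) (hy : Reg' N q y) (hyv : y ∈ centralizer ({v} : Set G)) :
    ∀ {w : centralizer ({v} : Set G)}, centralizer ({y} : Set G) ≤ centralizer ({(w : G)} : Set G) →
      QuotientGroup.mk' (pCore q (centralizer ({v} : Set G))) w ∈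
        centralizer (fittingSubgroup (centralizer ({v} : Set G) ⧸ pCore q (centralizer ({v} : Set G))) : Set _) := by
  haveI := Fact.mk B.hq
  set K := centralizer ({v} : Set G)
  intro w hw
  set f := QuotientGroup.mk' (pCore q K) with hf
  have hfs : Function.Surjective f := QuotientGroup.mk'_surjective _
  have hle : fittingSubgroup (K ⧸ pCore q K) ≤ centralizer ({f w} : Set (K ⧸ pCore q K)) := by
    rw [CfsgLib.fittingSubgroup_eq_iSup_pCore]
    refine iSup_le fun s => ?_
    haveI := Fact.mk s.2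
    by_cases hsq : (s : ℕ) = q
    · rw [hsq, CfsgLib.ZJ.pCore_quotient_pCore_eq_bot]; exact bot_le
    set C := centralizer ({(⟨y, hyv⟩ : K)} : Set K)
    have hC : Nat.card C = D := by
      show cc (⟨y, hyv⟩ : K) = D
      rw [cc_sub, inf_eq_right.mpr (B.le_v hv hy (mem_cent.mp hyv))]
      exact B.reg_D hy
    obtain ⟨R, hRC, hR, hRc⟩ := exists_qgroup_le (s : ℕ) C
    rw [hC, B.fac_D s.2 hsq, ← show Nat.card K = N from hv] at hRc
    let R' : Sylow (s : ℕ) K := Sylow.ofCard R hRc
    let P1 := R'.mapSurjective hfs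
    have h1 : pCore (s : ℕ) (K ⧸ pCore q K) ≤ (R' : Subgroup K).map f :=
      le_sup_left.trans
        (P1.is_maximal' ((isPGroup_pCore (s : ℕ)).to_sup_of_normal_left P1.2) le_sup_right).le
    refine h1.trans ?_
    rintro _ ⟨u, hu, rfl⟩
    have h2 : (u : G) ∈ centralizer ({y} : Set G) := mem_cent.mpr (congrArg Subtype.val (mem_cent.mp (hRC hu)))
    have h3 : u * w = w * u := Subtype.ext (mem_cent.mp (hw h2))
    exact mem_cent.mpr (by rw [← map_mul, ← map_mul, h3])
  exact mem_centralizer_iff.mpr fun z hz => mem_cent.mp (hle hz)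

/-- Elements commuting with a `q'`-element map into the Fitting subgroup modulo the `q`-core. -/
theorem mk_mem_fitting {v y : G} (hv : cc v = N) (hy : Reg' N q y) (hyv : y ∈ centralizer ({v} : Set G))
    {w : centralizer ({v} : Set G)} (hw : centralizer ({y} : Set G) ≤ centralizer ({(w : G)} : Set G)) :
    QuotientGroup.mk' (pCore q (centralizer ({v} : Set G))) w ∈
      fittingSubgroup (centralizer ({v} : Set G) ⧸ pCore q (centralizer ({v} : Set G))) := by
  haveI : Group.IsSolvable (centralizer ({v} : Set G)) :=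
    B.side.isSolvable (by rw [show Nat.card (centralizer ({v} : Set G)) = N from hv]; exact B.side.odd)
  haveI : Group.IsSolvable (centralizer ({v} : Set G) ⧸ pCore q (centralizer ({v} : Set G))) :=
    Group.isSolvable_of_surjective (QuotientGroup.mk'_surjective _)
  exact centralizer_fitting_le_of_solvable (B.mk_cent_fitting hv hy hyv hw)

/-- The preimage of the Fitting subgroup of a centralizer of order `N` modulo its `q`-core. -/
noncomputable def red (_ : Pure t N D q) (v : G) : Subgroup G :=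
  ((fittingSubgroup (centralizer ({v} : Set G) ⧸ pCore q (centralizer ({v} : Set G)))).comap
    (QuotientGroup.mk' (pCore q (centralizer ({v} : Set G))))).map (centralizer ({v} : Set G)).subtype

theorem red_le (v : G) : B.red v ≤ centralizer ({v} : Set G) := map_subtype_le _

theorem mem_red {v w : G} (hw : w ∈ centralizer ({v} : Set G)) :
    w ∈ B.red v ↔ QuotientGroup.mk' (pCore q (centralizer ({v} : Set G))) ⟨w, hw⟩ ∈
      fittingSubgroup (centralizer ({v} : Set G) ⧸ pCore q (centralizer ({v} : Set G))) :=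
  ⟨fun ⟨u, hu, e⟩ => (show (⟨w, hw⟩ : centralizer ({v} : Set G)) = u from Subtype.ext e.symm) ▸ hu,
    fun h => ⟨⟨w, hw⟩, h, rfl⟩⟩

theorem red_normal (v : G) : centralizer ({v} : Set G) ≤ normalizer (B.red v : Set G) := by
  haveI : (fittingSubgroup (centralizer ({v} : Set G) ⧸ pCore q (centralizer ({v} : Set G)))).Normal :=
    CfsgLib.fittingSubgroup_eq_iSup_pCore (G := centralizer ({v} : Set G) ⧸ pCore q (centralizer ({v} : Set G))) ▸
      inferInstance
  intro g hg
  rw [mem_normalizer_iff]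
  intro a
  constructor
  · rintro ⟨u, hu, rfl⟩
    exact ⟨⟨g, hg⟩ * u * (⟨g, hg⟩ : centralizer ({v} : Set G))⁻¹,
      (inferInstance : ((fittingSubgroup _).comap (QuotientGroup.mk' (pCore q (centralizer ({v} : Set G))))).Normal).conj_mem
        u hu _, rfl⟩
  · rintro ⟨u, hu, e⟩
    refine ⟨(⟨g, hg⟩ : centralizer ({v} : Set G))⁻¹ * u * ⟨g, hg⟩, ?_, ?_⟩
    · simpa using (inferInstance :
        ((fittingSubgroup _).comap (QuotientGroup.mk' (pCore q (centralizer ({v} : Set G))))).Normal).conj_mem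
          u hu (⟨g, hg⟩ : centralizer ({v} : Set G))⁻¹
    · show g⁻¹ * (u : G) * g = a
      rw [show (u : G) = g * a * g⁻¹ from e]; group

theorem reg_mem_red {v w : G} (hv : cc v = N) (hw : w ∈ centralizer ({v} : Set G)) (hwq : ¬ q ∣ orderOf w) :
    w ∈ B.red v := by
  rcases eq_or_ne w 1 with rfl | h1
  · exact one_mem _
  exact (B.mem_red hw).mpr (B.mk_mem_fitting hv (B.reg_of_mem (dvd_of_eq hv) hw h1 hwq) hw le_rfl)

theorem q_mem_core {v w : G} (hv : cc v = N) (hw : w ∈ B.red v) (hwq : ∃ k, orderOf w = q ^ k) :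
    (⟨w, B.red_le v hw⟩ : centralizer ({v} : Set G)) ∈ pCore q (centralizer ({v} : Set G)) := by
  haveI := Fact.mk B.hq
  set K := centralizer ({v} : Set G)
  obtain ⟨k, hk⟩ := hwq
  have h1 := (B.mem_red (B.red_le v hw)).mp hw
  have h2 := Subgroup.orderOf_dvd_natCard _ h1
  have h3 : orderOf (QuotientGroup.mk' (pCore q K) ⟨w, B.red_le v hw⟩) ∣ q ^ k :=
    hk ▸ (orderOf_map_dvd _ _).trans (dvd_of_eq (Subgroup.orderOf_mk w _))
  rw [← QuotientGroup.eq_one_iff (N := pCore q K)]
  exact orderOf_eq_one_iff.mp (Nat.eq_one_of_dvd_coprimes ((B.hq.coprime_iff_not_dvd.mpr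
    (not_dvd_card_fitting_of_pCore_eq_bot (CfsgLib.ZJ.pCore_quotient_pCore_eq_bot (p := q) (G := K)))).pow_left k)
    h3 h2)

/-- `q'`-elements of a centralizer of order `N` commute modulo its `q`-core. -/
theorem comm_mod {v : G} (hv : cc v = N) : ∀ {a b : centralizer ({v} : Set G)}, ¬ q ∣ orderOf a →
    ¬ q ∣ orderOf b →
    Commute (QuotientGroup.mk' (pCore q (centralizer ({v} : Set G))) a)
      (QuotientGroup.mk' (pCore q (centralizer ({v} : Set G))) b) := by
  intro a b ha hb
  rcases eq_or_ne a 1 with rfl | ha1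
  · rw [map_one]; exact Commute.one_left _
  rcases eq_or_ne b 1 with rfl | hb1
  · rw [map_one]; exact Commute.one_right _
  have hra : Reg' N q (a : G) := B.reg_of_mem (dvd_of_eq hv) a.2 (fun e => ha1 (Subtype.ext e))
    (by rwa [Subgroup.orderOf_coe])
  have hrb : Reg' N q (b : G) := B.reg_of_mem (dvd_of_eq hv) b.2 (fun e => hb1 (Subtype.ext e))
    (by rwa [Subgroup.orderOf_coe])
  exact (mem_centralizer_iff.mp (B.mk_cent_fitting hv hra a.2 le_rfl) _ (B.mk_mem_fitting hv hrb b.2 le_rfl)).symm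

/-- The centralizer of a `q'`-element is abelian. -/
theorem cent_comm {y a b : G} (hy : Reg' N q y) (ha : a ∈ centralizer ({y} : Set G))
    (hb : b ∈ centralizer ({y} : Set G)) : a * b = b * a := by
  obtain ⟨v, hv, hle⟩ := B.exists_v hy
  haveI := Fact.mk B.hq
  have hL : Nat.card (centralizer ({y} : Set G)) ∣ N := by
    rw [show Nat.card (centralizer ({y} : Set G)) = D from B.reg_D hy]; exact B.side.dvd
  have hq : ∀ z ∈ centralizer ({y} : Set G), (∃ k, orderOf z = q ^ k) →
      ∀ w ∈ centralizer ({y} : Set G), Commute z w := fun z hz hzq w hw =>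
    (mem_cent.mp (B.le_q hy hzq (B.side.mem_type hL hz) (mem_cent.mp hz).symm hw) : w * z = z * w).symm
  obtain ⟨a1, a2, ea, -, ha1, ha2, haz, haz'⟩ := CfsgLib.Blocks.exists_pPart B.hq a
  obtain ⟨b1, b2, eb, -, hb1, hb2, hbz, hbz'⟩ := CfsgLib.Blocks.exists_pPart B.hq b
  have ha1' := zpowers_le.mpr ha haz
  have ha2' := zpowers_le.mpr ha haz'
  have hb1' := zpowers_le.mpr hb hbz
  have hb2' := zpowers_le.mpr hb hbz'
  have h22 : Commute a2 b2 := by
    set c := a2 * b2 * a2⁻¹ * b2⁻¹ with hc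
    have hcL : c ∈ centralizer ({y} : Set G) :=
      mul_mem (mul_mem (mul_mem ha2' hb2') (inv_mem ha2')) (inv_mem hb2')
    have hcq : ∃ k, orderOf c = q ^ k := by
      have h1 := B.comm_mod hv (a := ⟨a2, hle ha2'⟩) (b := ⟨b2, hle hb2'⟩) (by rwa [Subgroup.orderOf_mk])
        (by rwa [Subgroup.orderOf_mk])
      have h2 : (⟨c, hle hcL⟩ : centralizer ({v} : Set G)) ∈ pCore q (centralizer ({v} : Set G)) := by
        rw [← QuotientGroup.eq_one_iff (N := pCore q (centralizer ({v} : Set G)))]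
        show QuotientGroup.mk' (pCore q (centralizer ({v} : Set G)))
          ((⟨a2, hle ha2'⟩ : centralizer ({v} : Set G)) * ⟨b2, hle hb2'⟩ *
          (⟨a2, hle ha2'⟩ : centralizer ({v} : Set G))⁻¹ * (⟨b2, hle hb2'⟩ : centralizer ({v} : Set G))⁻¹) = 1
        rw [map_mul, map_mul, map_mul, map_inv, map_inv, h1.eq]
        group
      obtain ⟨k, hk⟩ := exists_orderOf_eq_pow (isPGroup_pCore q) h2
      exact ⟨k, by rwa [Subgroup.orderOf_mk] at hk⟩
    have hca : Commute c a2 := hq c hcL hcq a2 ha2'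
    have hpow : ∀ n : ℕ, a2 ^ n * b2 * (a2 ^ n)⁻¹ = c ^ n * b2 := by
      intro n
      induction n with
      | zero => simp
      | succ n ih =>
        calc a2 ^ (n + 1) * b2 * (a2 ^ (n + 1))⁻¹ = a2 * (a2 ^ n * b2 * (a2 ^ n)⁻¹) * a2⁻¹ := by
              rw [pow_succ']; group
          _ = a2 * c ^ n * b2 * a2⁻¹ := by rw [ih]; group
          _ = c ^ n * a2 * b2 * a2⁻¹ := by rw [(hca.pow_left n).eq]
          _ = c ^ n * (a2 * b2 * a2⁻¹) := by simp only [mul_assoc]
          _ = c ^ n * (c * b2) := by rw [show a2 * b2 * a2⁻¹ = c * b2 by simp only [c]; group]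
          _ = c ^ (n + 1) * b2 := by rw [← mul_assoc (c ^ n) c b2, ← pow_succ]
    have h1 := hpow (orderOf a2)
    rw [pow_orderOf_eq_one, one_mul, inv_one, mul_one] at h1
    obtain ⟨k, hk⟩ := hcq
    have hc1 : c = 1 := orderOf_eq_one_iff.mp (Nat.eq_one_of_dvd_coprimes
      ((B.hq.coprime_iff_not_dvd.mpr ha2).pow_left k) (dvd_of_eq hk)
      (orderOf_dvd_of_pow_eq_one (mul_eq_right.mp h1.symm)))
    rw [hc, mul_inv_eq_one, mul_inv_eq_iff_eq_mul] at hc1
    exact hc1
  rw [← ea, ← eb]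
  exact (((hq a1 ha1' ha1 b1 hb1').mul_right (hq a1 ha1' ha1 b2 hb2')).mul_left
    ((hq b1 hb1' hb1 a2 ha2').symm.mul_right h22)).eq

/-- The `q'`-elements of the centralizer of a `q'`-element have the same centralizer. -/
theorem cent_eq {y w : G} (hy : Reg' N q y) (hw : Reg' N q w) (hwy : w ∈ centralizer ({y} : Set G)) :
    centralizer ({w} : Set G) = centralizer ({y} : Set G) :=
  (eq_of_le_of_card_ge (fun a ha => mem_cent.mpr (B.cent_comm hy ha hwy))
    ((B.reg_D hw).trans (B.reg_D hy).symm).le).symm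

/-- Centralizers of order `D` are centralizers of `q'`-elements. -/
theorem cent_D {u : G} (hu : cc u = D) :
    ∃ y : G, Reg' N q y ∧ u ∈ centralizer ({y} : Set G) ∧ centralizer ({u} : Set G) = centralizer {y} := by
  obtain ⟨r, hr, hrq, hrN⟩ := B.exists_other
  have hrD : r ∣ D := Nat.dvd_of_factorization_pos (by
    rw [B.fac_D hr hrq]; exact (hr.factorization_pos_of_dvd B.side.N_pos.ne' hrN).ne')
  obtain ⟨y, hy, hyo, -⟩ := exists_orderOf_dvd hr (H := centralizer ({u} : Set G)) (by rw [show Nat.card (centralizer ({u} : Set G)) = D from hu]; exact hrD)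
  have hreg := B.reg_of_prime hr hrq hrN hyo
  refine ⟨y, hreg, mem_cent_symm hy, (eq_of_le_of_card_ge (fun a ha => mem_cent.mpr
    (B.cent_comm hreg ha (mem_cent_symm hy))) (hu.trans (B.reg_D hreg).symm).le).symm⟩

theorem cent_pow_eq {y : G} (hy : Reg' N q y) :
    ∀ r : ℕ, r.Prime → r ≠ q → r ∣ N → ∃ z : G, orderOf z = r ∧ centralizer ({z} : Set G) = centralizer {y} := by
  intro r hr hrq hrN
  have hrD : r ∣ D := Nat.dvd_of_factorization_pos (by
    rw [B.fac_D hr hrq]; exact (hr.factorization_pos_of_dvd B.side.N_pos.ne' hrN).ne')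
  obtain ⟨z, hz, hzo, -⟩ := exists_orderOf_dvd hr (H := centralizer ({y} : Set G))
    (by rw [show Nat.card (centralizer ({y} : Set G)) = D from B.reg_D hy]; exact hrD)
  exact ⟨z, hzo, B.cent_eq hy (B.reg_of_prime hr hrq hrN hzo) hz⟩

/-- The centralizers of `q'`-elements are conjugate. -/
theorem exists_conj {y y' : G} (hy : Reg' N q y) (hy' : Reg' N q y') :
    ∃ g : G, centralizer ({g * y * g⁻¹} : Set G) = centralizer {y'} := by
  obtain ⟨r, hr, hrq, hrN⟩ := B.exists_other
  haveI := Fact.mk hr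
  obtain ⟨z, hzo, hz⟩ := B.cent_pow_eq hy r hr hrq hrN
  obtain ⟨z', hzo', hz'⟩ := B.cent_pow_eq hy' r hr hrq hrN
  have hfull : r ^ (Nat.card (⊤ : Subgroup G)).factorization r ∣ Nat.card (centralizer ({z'} : Set G)) := by
    rw [card_top, B.side.fac_eq hr hrN, show Nat.card (centralizer ({z'} : Set G)) = D from
      B.reg_D (B.reg_of_prime hr hrq hrN hzo'), ← B.fac_D hr hrq]
    exact Nat.ordProj_dvd D r
  obtain ⟨c, -, hc⟩ := exists_conj_mem_of_full (q := r) le_top hfull (mem_top z) ⟨1, by rw [hzo, pow_one]⟩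
  have hregz : Reg' N q (c * z * c⁻¹) := B.reg_of_prime hr hrq hrN (by
    rw [← MulAut.conj_apply, MulEquiv.orderOf_eq, hzo])
  have h1 := B.cent_eq (B.reg_of_prime hr hrq hrN hzo') hregz hc
  refine ⟨c, ?_⟩
  rw [← hz', ← h1]
  ext a
  have h2 := Subgroup.ext_iff.mp hz (c⁻¹ * a * c)
  simp only [mem_cent] at h2 ⊢
  constructor
  · intro ha
    have : c⁻¹ * a * c * y = y * (c⁻¹ * a * c) := by
      calc c⁻¹ * a * c * y = c⁻¹ * (a * (c * y * c⁻¹)) * c := by group
        _ = c⁻¹ * (c * y * c⁻¹ * a) * c := by rw [ha]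
        _ = _ := by group
    have h3 := h2.mpr this
    calc a * (c * z * c⁻¹) = c * (c⁻¹ * a * c * z) * c⁻¹ := by group
      _ = c * (z * (c⁻¹ * a * c)) * c⁻¹ := by rw [h3]
      _ = _ := by group
  · intro ha
    have : c⁻¹ * a * c * z = z * (c⁻¹ * a * c) := by
      calc c⁻¹ * a * c * z = c⁻¹ * (a * (c * z * c⁻¹)) * c := by group
        _ = c⁻¹ * (c * z * c⁻¹ * a) * c := by rw [ha]
        _ = _ := by group
    have h3 := h2.mp this
    calc a * (c * y * c⁻¹) = c * (c⁻¹ * a * c * y) * c⁻¹ := by group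
      _ = c * (y * (c⁻¹ * a * c)) * c⁻¹ := by rw [h3]
      _ = _ := by group

/-- Burnside: the normalizer of the centralizer of a `q'`-element is larger. -/
theorem exists_normalizer [IsSimpleGroup G] {y : G} (hy : Reg' N q y) :
    ∃ g ∈ normalizer (centralizer ({y} : Set G) : Set G), g ∉ centralizer ({y} : Set G) := by
  by_contra hc
  push Not at hc
  obtain ⟨r, hr, hrq, hrN⟩ := B.exists_other
  haveI := Fact.mk hr
  set L := centralizer ({y} : Set G) with hL
  obtain ⟨R, hRL, hR, hRc⟩ := exists_qgroup_le r L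
  have hfac : (Nat.card L).factorization r = (Nat.card G).factorization r := by
    rw [B.side.fac_eq hr hrN, ← B.fac_D hr hrq, show Nat.card L = D from B.reg_D hy]
  rw [hfac] at hRc
  let P : Sylow r G := Sylow.ofCard R hRc
  have hR1 : 1 < Nat.card R := by
    rw [hRc, B.side.fac_eq hr hrN]
    exact Nat.one_lt_pow (hr.factorization_pos_of_dvd B.side.N_pos.ne' hrN).ne' hr.one_lt
  obtain ⟨z, hz, hzo, -⟩ := exists_orderOf_dvd hr (H := R) (by
    rw [hRc]; exact dvd_pow_self r fun e => by rw [hRc, e, pow_zero] at hR1; omega)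
  have hzL : centralizer ({z} : Set G) = L := B.cent_eq hy (B.reg_of_prime hr hrq hrN hzo) (hRL hz)
  have hNC : normalizer ((P : Subgroup G) : Set G) ≤ centralizer ((P : Subgroup G) : Set G) := by
    intro g hg
    have hg' : g ∈ normalizer (L : Set G) := by
      have hz' : g * z * g⁻¹ ∈ R := (mem_normalizer_iff.mp hg z).mp hz
      have heq : centralizer ({g * z * g⁻¹} : Set G) = L := B.cent_eq hy (B.reg_of_prime hr hrq hrN (by
        rw [← MulAut.conj_apply, MulEquiv.orderOf_eq, hzo])) (hRL hz')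
      rw [mem_normalizer_iff]
      intro a
      show a ∈ L ↔ g * a * g⁻¹ ∈ L
      conv_lhs => rw [← hzL]
      conv_rhs => rw [← heq]
      simp only [mem_cent]
      rw [show g * a * g⁻¹ * (g * z * g⁻¹) = g * (a * z) * g⁻¹ by group,
        show g * z * g⁻¹ * (g * a * g⁻¹) = g * (z * a) * g⁻¹ by group]
      exact ⟨fun h => by rw [h], fun h => mul_left_cancel (mul_right_cancel h)⟩
    exact mem_centralizer_iff.mpr fun u hu => B.cent_comm hy (hRL hu) (hc g hg')
  have hcomp := MonoidHom.ker_transferSylow_isComplement' P hNC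
  haveI : (MonoidHom.transferSylow P hNC).ker.Normal := inferInstance
  rcases (inferInstance : (MonoidHom.transferSylow P hNC).ker.Normal).eq_bot_or_eq_top with e | e
  · have hPtop : (P : Subgroup G) = ⊤ := by
      have := hcomp.sup_eq_top
      rwa [e, bot_sup_eq] at this
    obtain ⟨k, hk⟩ := hR.exists_card_eq
    have ht : t ≠ 1 := fun e => by simpa [e] using B.side.inv
    have h1 : orderOf t ∣ Nat.card R := by
      rw [show R = ⊤ from hPtop, card_top]; exact orderOf_dvd_natCard t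
    have h2 : r = 2 := ((Nat.prime_dvd_prime_iff_eq Nat.prime_two hr).mp
      (Nat.prime_two.dvd_of_dvd_pow (hk ▸ B.side.inv ▸ h1))).symm
    exact Nat.not_even_iff_odd.mpr B.side.odd (even_iff_two_dvd.mpr (h2 ▸ hrN))
  · have h1 := hcomp.card_mul
    rw [e, card_top, show Nat.card (P : Subgroup G) = Nat.card R from rfl] at h1
    exact hR1.ne' ((mul_eq_left₀ Nat.card_pos.ne').mp h1)

end Pure

end CfsgLib.ConjRankFour
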