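import Cfsg.Agent.Lib.ConjRankFour.Five.Pure
import Cfsg.Agent.Lib.StrongFusion.LocalFree
import Cfsg.Agent.Lib.TransferApps
import Cfsg.Agent.Lib.PSolvable
import Cfsg.Agent.Lib.FrobAction.Order
import Cfsg.Agent.Lib.Signalizer.Functor

set_option autoImplicit false
set_option linter.style.haveILetI false

/-!
The normalizer of the elementary part of `Z(J(Q))` for a Sylow `q`-subgroup `Q` on the odd side.
-/

namespace CfsgLib.ConjRankFour

open Cfsg Subgroup CfsgLib.ConjRankThree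
open scoped commutatorElement

universe u

variable {G : Type u} [Group G] [Finite G]

omit [Finite G] in
theorem le_normalizer_map_of_normal {H : Subgroup G} (N : Subgroup H) [hN : N.Normal] :
    H ≤ normalizer (N.map H.subtype : Set G) := by
  intro g hg
  rw [mem_normalizer_iff]
  refine fun a => ⟨?_, ?_⟩
  · rintro ⟨u, hu, rfl⟩
    exact ⟨⟨g, hg⟩ * u * (⟨g, hg⟩ : H)⁻¹, hN.conj_mem u hu _, rfl⟩
  · rintro ⟨u, hu, e⟩
    refine ⟨(⟨g, hg⟩ : H)⁻¹ * u * ⟨g, hg⟩, by simpa using hN.conj_mem u hu (⟨g, hg⟩ : H)⁻¹, ?_⟩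
    show g⁻¹ * (u : G) * g = a
    rw [show (u : G) = g * a * g⁻¹ from e]; group

omit [Finite G] in
/-- The centralizer of a normalized subgroup is normalized. -/
theorem mem_centralizer_conj {H : Subgroup G} {g c : G} (hg : g ∈ normalizer (H : Set G))
    (hc : c ∈ centralizer (H : Set G)) : g * c * g⁻¹ ∈ centralizer (H : Set G) := by
  refine mem_centralizer_iff.mpr fun v hv => ?_
  have h1 := mem_centralizer_iff.mp hc _ ((mem_normalizer_iff.mp (inv_mem hg) v).mp hv)
  calc v * (g * c * g⁻¹) = g * ((g⁻¹ * v * g⁻¹⁻¹) * c) * g⁻¹ := by group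
    _ = g * (c * (g⁻¹ * v * g⁻¹⁻¹)) * g⁻¹ := by rw [h1]
    _ = g * c * g⁻¹ * v := by group

/-- A group of operators with a subgroup acting without fixed points and with no fixed point outside. -/
theorem fpf_centralizes {U E V : Subgroup G} [Group.IsNilpotent U] (hEU : E ≤ normalizer (U : Set G))
    (hfpf : ∀ e ∈ E, e ≠ 1 → ∀ u ∈ U, e * u = u * e → u = 1) (hUV : U ≤ normalizer (V : Set G))
    (hEV : E ≤ normalizer (V : Set G)) (hU : (Nat.card U).Coprime (Nat.card V))
    (hE : (Nat.card E).Coprime (Nat.card V)) (hV : Group.IsSolvable V)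
    (hC : ∀ x ∈ V, x ∈ centralizer (E : Set G) → x = 1) : V ≤ centralizer (U : Set G) := by
  have hcop : (Nat.card ↥(U ⊔ E)).Coprime (Nat.card V) :=
    Nat.Coprime.coprime_dvd_left (CfsgLib.Signalizer.card_sup_dvd hEU) (by rw [mul_comm]; exact hU.mul_left hE)
  have h := CfsgLib.FrobAction.order_formula U E hEU hfpf V (sup_le hUV hEV) hcop hV
  have h1 : V ⊓ centralizer (E : Set G) = ⊥ := (Subgroup.eq_bot_iff_forall _).mpr fun x hx => hC x hx.1 hx.2
  have h2 : V ⊓ centralizer ((U ⊔ E : Subgroup G) : Set G) = ⊥ :=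
    eq_bot_iff.mpr ((inf_le_inf_left V (centralizer_le fun _ hx => mem_sup_right hx)).trans h1.le)
  rw [h1, h2, card_bot, one_pow, one_mul, one_mul] at h
  exact inf_eq_left.mp (eq_of_le_of_card_ge inf_le_left h.le)

/-- The Frattini argument for subgroups. -/
theorem exists_frattini {s : ℕ} [Fact s.Prime] {T S : Subgroup G} (hST : S ≤ T)
    (hS : Nat.card S = s ^ (Nat.card T).factorization s) {m : G} (hm : m ∈ normalizer (T : Set G)) :
    ∃ x ∈ T, x * m ∈ normalizer (S : Set G) := by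
  have hS' : S.map (MulAut.conj m).toMonoidHom ≤ T := by
    rintro _ ⟨a, ha, rfl⟩
    exact (mem_normalizer_iff.mp hm a).mp (hST ha)
  let P0 : Sylow s T := Sylow.ofCard (S.subgroupOf T)
    (by rw [Nat.card_congr (subgroupOfEquivOfLe hST).toEquiv, hS])
  let P1 : Sylow s T := Sylow.ofCard ((S.map (MulAut.conj m).toMonoidHom).subgroupOf T)
    (by rw [Nat.card_congr (subgroupOfEquivOfLe hS').toEquiv, card_map_of_injective (MulAut.conj m).injective, hS])
  obtain ⟨x, hx⟩ := MulAction.exists_smul_eq T P1 P0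
  refine ⟨x, x.2, ?_⟩
  have key : ∀ a ∈ S, (x : G) * m * a * ((x : G) * m)⁻¹ ∈ S := by
    intro a ha
    have h1 : x * (⟨m * a * m⁻¹, hS' ⟨a, ha, rfl⟩⟩ : T) * x⁻¹ ∈ (P0 : Subgroup T) := by
      rw [← hx, Sylow.coe_subgroup_smul]
      exact ⟨⟨m * a * m⁻¹, hS' ⟨a, ha, rfl⟩⟩, mem_subgroupOf.mpr ⟨a, ha, rfl⟩, rfl⟩
    have h2 : (x : G) * (m * a * m⁻¹) * (x : G)⁻¹ ∈ S := mem_subgroupOf.mp h1
    rwa [show (x : G) * m * a * ((x : G) * m)⁻¹ = (x : G) * (m * a * m⁻¹) * (x : G)⁻¹ by group]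
  have hle : S.map (MulAut.conj ((x : G) * m)).toMonoidHom ≤ S := by
    rintro _ ⟨a, ha, rfl⟩
    exact key a ha
  have heq := eq_of_le_of_card_ge hle (card_map_of_injective (MulAut.conj ((x : G) * m)).injective).ge
  refine mem_normalizer_iff.mpr fun a => ⟨key a, fun ha => ?_⟩
  rw [← heq] at ha
  obtain ⟨b, hb, e⟩ := ha
  exact (MulAut.conj ((x : G) * m)).injective e ▸ hb

/-- A subgroup of order prime to the first factor has order dividing the second. -/
theorem dvd_of_no_prime {M : Subgroup G} {a N : ℕ} (hprod : a * N = Nat.card G)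
    (h : ∀ l : ℕ, l.Prime → l ∣ Nat.card M → ¬ l ∣ a) : Nat.card M ∣ N :=
  (Nat.coprime_of_dvd fun l hl h1 h2 => h l hl h1 h2).dvd_of_dvd_mul_left (hprod ▸ card_subgroup_dvd_card M)

namespace Pure

variable {t : G} {N D q : ℕ} (B : Pure t N D q)
include B

theorem mem_normalizer_cent {g y : G} (hy : Reg' N q y) (h : g * y * g⁻¹ ∈ centralizer ({y} : Set G)) :
    g ∈ normalizer (centralizer ({y} : Set G) : Set G) := by
  have ho : orderOf (g * y * g⁻¹) = orderOf y := by rw [← MulAut.conj_apply, MulEquiv.orderOf_eq]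
  have hreg : Reg' N q (g * y * g⁻¹) := ⟨fun e => hy.1 (conj_eq_one_iff.mp e), ho ▸ hy.2.1, ho ▸ hy.2.2⟩
  have heq := B.cent_eq hy hreg h
  rw [mem_normalizer_iff]
  intro a
  show a ∈ centralizer ({y} : Set G) ↔ g * a * g⁻¹ ∈ centralizer ({y} : Set G)
  conv_rhs => rw [← heq]
  simp only [mem_cent]
  rw [show g * a * g⁻¹ * (g * y * g⁻¹) = g * (a * y) * g⁻¹ by group,
    show g * y * g⁻¹ * (g * a * g⁻¹) = g * (y * a) * g⁻¹ by group]
  exact ⟨fun h => by rw [h], fun h => mul_left_cancel (mul_right_cancel h)⟩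

/-- The `q`-core of a centralizer of order `N`. -/
noncomputable def core (_ : Pure t N D q) (v : G) : Subgroup G :=
  (pCore q (centralizer ({v} : Set G))).map (centralizer ({v} : Set G)).subtype

theorem core_le (v : G) : B.core v ≤ centralizer ({v} : Set G) := map_subtype_le _

theorem core_isPGroup (v : G) : IsPGroup q (B.core v) := (isPGroup_pCore q).map _

theorem core_normal (v : G) : centralizer ({v} : Set G) ≤ normalizer (B.core v : Set G) :=
  le_normalizer_map_of_normal _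

theorem mem_core {v w : G} (hw : w ∈ centralizer ({v} : Set G)) :
    w ∈ B.core v ↔ (⟨w, hw⟩ : centralizer ({v} : Set G)) ∈ pCore q (centralizer ({v} : Set G)) :=
  ⟨fun ⟨u, hu, e⟩ => (show (⟨w, hw⟩ : centralizer ({v} : Set G)) = u from Subtype.ext e.symm) ▸ hu,
    fun h => ⟨⟨w, hw⟩, h, rfl⟩⟩

theorem eq_one_of_q {a : G} (ha : ∃ k, orderOf a = q ^ k) (hq : ¬ q ∣ orderOf a) : a = 1 := by
  obtain ⟨k, hk⟩ := ha
  rcases k with - | k
  · exact orderOf_eq_one_iff.mp (by simpa using hk)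
  · exact absurd (hk ▸ dvd_pow_self q k.succ_ne_zero) hq

/-- A `q'`-element of a centralizer of order `N` moving `y` into its centralizer centralizes it. -/
theorem mem_of_comm {v y w : G} (hv : cc v = N) (hy : Reg' N q y) (hyv : y ∈ centralizer ({v} : Set G))
    (hw : w ∈ centralizer ({v} : Set G)) (hwq : ¬ q ∣ orderOf w)
    (hwy : w * y * w⁻¹ ∈ centralizer ({y} : Set G)) : w ∈ centralizer ({y} : Set G) := by
  haveI := Fact.mk B.hq
  set c := w * y * w⁻¹ * y⁻¹ with hc
  have hcv : c ∈ centralizer ({v} : Set G) := mul_mem (mul_mem (mul_mem hw hyv) (inv_mem hw)) (inv_mem hyv)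
  have h1 := B.comm_mod hv (a := ⟨w, hw⟩) (b := ⟨y, hyv⟩) (by rwa [Subgroup.orderOf_mk])
    (by rw [Subgroup.orderOf_mk]; exact hy.2.2)
  have h2 : (⟨c, hcv⟩ : centralizer ({v} : Set G)) ∈ pCore q (centralizer ({v} : Set G)) := by
    rw [← QuotientGroup.eq_one_iff (N := pCore q (centralizer ({v} : Set G)))]
    show QuotientGroup.mk' (pCore q (centralizer ({v} : Set G)))
      ((⟨w, hw⟩ : centralizer ({v} : Set G)) * ⟨y, hyv⟩ *
      (⟨w, hw⟩ : centralizer ({v} : Set G))⁻¹ * (⟨y, hyv⟩ : centralizer ({v} : Set G))⁻¹) = 1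
    rw [map_mul, map_mul, map_mul, map_inv, map_inv, h1.eq]
    group
  have hcq : ∃ k, orderOf c = q ^ k := exists_orderOf_eq_pow (B.core_isPGroup v) ((B.mem_core hcv).mpr h2)
  have hcm : Commute (w * y * w⁻¹) y⁻¹ := (show Commute (w * y * w⁻¹) y from mem_cent.mp hwy).inv_right
  have hc1 : c = 1 := B.eq_one_of_q hcq fun hd => by
    have h3 := hd.trans (hcm.orderOf_mul_dvd_lcm.trans (Nat.lcm_dvd_mul _ _))
    rw [orderOf_inv, ← MulAut.conj_apply, MulEquiv.orderOf_eq] at h3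
    exact hy.2.2 ((B.hq.dvd_mul.mp h3).elim id id)
  rw [hc, mul_inv_eq_one, mul_inv_eq_iff_eq_mul] at hc1
  exact mem_cent.mpr hc1

/-- The `q`-elements commuting with a `q'`-element lie in the reduced subgroup. -/
theorem q_cent_mem_core {v y u : G} (hv : cc v = N) (hy : Reg' N q y) (hyv : y ∈ centralizer ({v} : Set G))
    (hu : u ∈ centralizer ({y} : Set G)) (huq : ∃ k, orderOf u = q ^ k) : u ∈ B.core v := by
  have huv := B.le_v hv hy (mem_cent.mp hyv) hu
  have hred : u ∈ B.red v := (B.mem_red huv).mpr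
    (B.mk_mem_fitting hv hy hyv fun a ha => mem_cent.mpr (B.cent_comm hy ha hu))
  exact (B.mem_core huv).mpr (B.q_mem_core hv hred huq)

theorem cc_pow_eq {v : G} (hv : cc v = N) {n : ℕ} (hn : v ^ n ≠ 1) : cc (v ^ n) = N := by
  refine (B.side.val_odd hn ((orderOf_pow_dvd n).trans (hv ▸ orderOf_dvd_cc (self_mem v)))).resolve_right fun e => ?_
  exact B.side.ne (Nat.dvd_antisymm B.side.dvd (e ▸ hv ▸ cc_le_of_le (cent_le_pow v n)))

theorem exists_order_q {v : G} (hv : cc v = N) (hv1 : v ≠ 1) : ∃ u : G, orderOf u = q ∧ cc u = N := by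
  obtain ⟨k, hk⟩ := B.pure v hv
  have hk0 : k ≠ 0 := fun e => hv1 (by simpa [e] using hk)
  have ho := orderOf_pow_orderOf_div (orderOf_pos v).ne' (hk ▸ dvd_pow_self q hk0)
  exact ⟨_, ho, B.cc_pow_eq hv fun e => B.hq.one_lt.ne (by rw [← ho, e, orderOf_one])⟩

end Pure

/-- A prime of the odd side. -/
structure QSide (t : G) (N D q : ℕ) : Prop where
  side : OddSide t N D
  hqN : q ∣ N

theorem Pure.toQ {t : G} {N D q : ℕ} (B : Pure t N D q) : QSide t N D q := ⟨B.side, B.q_dvd⟩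

namespace QSide

variable {t : G} {N D q : ℕ} (B : QSide t N D q) [Fact q.Prime]
include B

theorem q_ne_two : q ≠ 2 := by
  rintro rfl
  exact Nat.not_even_iff_odd.mpr B.side.odd (even_iff_two_dvd.mpr B.hqN)

/-- A subgroup of order `q`-power has order dividing `N` when it lies in a Sylow subgroup. -/
theorem card_dvd_of_isPGroup {P : Subgroup G} (hP : IsPGroup q P) : Nat.card P ∣ N := by
  obtain ⟨Q, hQ⟩ := hP.exists_le_sylow
  refine (card_dvd_of_le hQ).trans ?_
  rw [Q.card_eq_multiplicity, B.side.fac_eq (Fact.out : q.Prime) B.hqN]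
  exact Nat.ordProj_dvd N q

/-- `Ω₁(Z(J(Q)))`. -/
noncomputable def locA [Fact q.Prime] (_ : QSide t N D q) (Q : Sylow q G) : Subgroup G :=
  inducedFunctor (CfsgLib.StrongFusion.zjE q) (Q : Subgroup G)

/-- The normalizer of `Ω₁(Z(J(Q)))`. -/
noncomputable def locM [Fact q.Prime] (B : QSide t N D q) (Q : Sylow q G) : Subgroup G :=
  normalizer (B.locA Q : Set G)

variable (Q : Sylow q G)

theorem locA_eq : B.locA Q = omegaOne q (CfsgLib.ZJ.zj q (Q : Subgroup G)) := by
  rw [locA, CfsgLib.StrongFusion.inducedFunctor_zjE, CfsgLib.ZJ.zj_prime]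

theorem mem_locA {a : G} : a ∈ B.locA Q ↔ a ∈ CfsgLib.ZJ.zj q (Q : Subgroup G) ∧ a ^ q = 1 := by
  rw [B.locA_eq]
  constructor
  · intro ha
    refine closure_induction (p := fun x _ => x ∈ CfsgLib.ZJ.zj q (Q : Subgroup G) ∧ x ^ q = 1) (fun x hx => hx)
      ⟨one_mem _, one_pow _⟩ ?_ (fun x _ hx => ⟨inv_mem hx.1, by rw [inv_pow, hx.2, inv_one]⟩) ha
    intro x y _ _ hx hy
    refine ⟨mul_mem hx.1 hy.1, ?_⟩
    rw [(show Commute x y from CfsgLib.ZJ.zj_comm hx.1 hy.1).mul_pow, hx.2, hy.2, one_mul]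
  · exact fun h => subset_closure h

theorem locA_le : B.locA Q ≤ (Q : Subgroup G) := fun a ha => CfsgLib.ZJ.zj_le q _ ((B.mem_locA Q).mp ha).1

theorem locA_comm {a b : G} (ha : a ∈ B.locA Q) (hb : b ∈ B.locA Q) : a * b = b * a :=
  CfsgLib.ZJ.zj_comm ((B.mem_locA Q).mp ha).1 ((B.mem_locA Q).mp hb).1

theorem sylow_le_locM : (Q : Subgroup G) ≤ B.locM Q := by
  refine le_normalizer.trans ((CfsgLib.ZJ.normalizer_le_normalizer_zj q (Q : Subgroup G)).trans ?_)
  intro g hg
  show g ∈ normalizer (B.locA Q : Set G)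
  rw [mem_normalizer_iff]
  intro a
  rw [B.mem_locA Q, B.mem_locA Q, conj_pow, mul_inv_eq_one, mul_eq_left]
  exact and_congr_left fun _ => mem_normalizer_iff.mp hg a

theorem odd_locM (hA : B.locA Q ≠ ⊥) : Odd (Nat.card (B.locM Q)) :=
  B.side.odd_local hA (B.card_dvd_of_isPGroup (Q.2.to_le (B.locA_le Q)))

/-- An element of order `q` centralizing `Q` lies in `Ω₁(Z(J(Q)))`. -/
theorem central_mem_locA {z : G} (hz : z ^ q = 1) (hzQ : (Q : Subgroup G) ≤ centralizer ({z} : Set G)) :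
    z ∈ B.locA Q := by
  have hzq : z ∈ (Q : Subgroup G) := CfsgLib.TransferApps.mem_sylow_of_mem_normalizer Q
    (centralizer_le_normalizer _ (mem_centralizer_iff.mpr fun u hu => mem_cent.mp (hzQ hu))) ⟨1, by rwa [pow_one]⟩
  refine (B.mem_locA Q).mpr ⟨?_, hz⟩
  obtain ⟨A, hA⟩ := CfsgLib.ZJ.goodMax_nonempty q (Q : Subgroup G)
  have hzA : z ∈ A := by
    have hAz : A ⊔ zpowers z ≤ (Q : Subgroup G) := sup_le hA.1 (zpowers_le.mpr hzq)
    have hcA : A ⊔ zpowers z ≤ centralizer ({z} : Set G) :=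
      sup_le (hA.1.trans hzQ) (zpowers_le.mpr (self_mem z))
    have hgood : CfsgLib.ZJ.IsGood q (A ⊔ zpowers z) := by
      have key : ∀ a ∈ A, A ⊔ zpowers z ≤ centralizer ({a} : Set G) := fun a ha =>
        sup_le (fun b hb => mem_cent.mpr (hA.2.1.1 b hb a ha))
          (zpowers_le.mpr (mem_cent_symm (hzQ (hA.1 ha))))
      have hcomm : ∀ x ∈ A ⊔ zpowers z, ∀ y ∈ A ⊔ zpowers z, x * y = y * x := by
        intro x hx y hy
        have h2 : A ⊔ zpowers z ≤ centralizer ({x} : Set G) :=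
          sup_le (fun a ha => mem_cent.mpr (mem_cent.mp (key a ha hx)).symm)
            (zpowers_le.mpr (mem_cent_symm (hcA hx)))
        exact (mem_cent.mp (h2 hy)).symm
      refine ⟨hcomm, fun x hx => ?_⟩
      rw [sup_eq_closure] at hx
      refine closure_induction (p := fun x _ => x ^ q = 1) ?_ (one_pow _) ?_
        (fun x _ h => by rw [inv_pow, h, inv_one]) hx
      · rintro x (hx | hx)
        · exact hA.2.1.2 x hx
        · obtain ⟨i, rfl⟩ := hx
          rw [← zpow_natCast, ← zpow_mul, mul_comm, zpow_mul, zpow_natCast, hz, one_zpow]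
      · intro x y hx hy h1 h2
        rw [← sup_eq_closure] at hx hy
        rw [(show Commute x y from hcomm x hx y hy).mul_pow, h1, h2, one_mul]
    exact eq_of_le_of_card_ge le_sup_left (hA.2.2 _ hAz hgood) ▸ mem_sup_right (mem_zpowers z)
  exact ⟨CfsgLib.ZJ.le_thompsonJ hA hzA, fun y hy => mem_cent.mp (hzQ (CfsgLib.ZJ.thompsonJ_le q _ hy))⟩

/-- Fusion in `Q` is controlled by the normalizer. -/
theorem control {S : Set G} (hS : S ⊆ ((Q : Subgroup G) : Set G)) {g : G}
    (hg : ∀ a ∈ S, g * a * g⁻¹ ∈ (Q : Subgroup G)) :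
    ∃ m ∈ B.locM Q, ∀ a ∈ S, g * a * g⁻¹ = m * a * m⁻¹ := by
  have hqd : ¬ Involves (Cfsg.qd q) G := by
    intro h
    obtain ⟨P, hZP, hPQ, hinv⟩ := CfsgLib.StrongFusion.exists_sl2_local Q h
    have hq1 : q ∣ Nat.card G := B.hqN.trans (Dvd.intro_left _ B.side.prod)
    obtain ⟨z, hz1, -, hzQ, hzc⟩ := exists_central_sylow hq1 Q
    have hP0 : P ≠ ⊥ := fun e => hz1 (mem_bot.mp (e ▸ hZP ⟨hzQ, mem_centralizer_iff.mpr fun u hu =>
      mem_cent.mp (hzc hu)⟩))
    have hodd := B.side.odd_local hP0 (B.card_dvd_of_isPGroup (Q.2.to_le hPQ))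
    obtain ⟨K, R, hR, ⟨e⟩⟩ := hinv
    haveI := hR
    refine Nat.not_even_iff_odd.mpr hodd (even_iff_two_dvd.mpr ?_)
    have h2 : 2 ∣ Nat.card (Matrix.SpecialLinearGroup (Fin 2) (ZMod q)) := by
      have hn : (-1 : Matrix.SpecialLinearGroup (Fin 2) (ZMod q)) ≠ 1 := fun h => by
        haveI : Fact (2 < q) := ⟨lt_of_le_of_ne (Fact.out : q.Prime).two_le B.q_ne_two.symm⟩
        have h1 := congrFun (congrFun (congrArg Subtype.val h) 0) 0
        simp only [Matrix.SpecialLinearGroup.coe_neg, Matrix.SpecialLinearGroup.coe_one, Matrix.neg_apply,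
          Matrix.one_apply_eq] at h1
        exact ZMod.neg_one_ne_one h1
      exact (dvd_of_eq (orderOf_eq_prime (p := 2) (show (-1 : Matrix.SpecialLinearGroup (Fin 2) (ZMod q)) ^ 2 = 1 by
        rw [pow_two, neg_mul_neg, one_mul]) hn).symm).trans (orderOf_dvd_natCard _)
    rw [← Nat.card_congr e.toEquiv] at h2
    exact h2.trans ((Subgroup.card_quotient_dvd_card _).trans (card_subgroup_dvd_card K))
  have hD : IsStronglyClosed (Q : Subgroup G) (Q : Subgroup G) := ⟨le_rfl, fun x _ g h => h⟩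
  obtain ⟨-, h⟩ := CfsgLib.StrongFusion.controlsOf_zj B.q_ne_two hqd (W := CfsgLib.StrongFusion.zjE q)
    (Or.inr (Or.inl rfl)) Q hD hS
  obtain ⟨m, hm, hma⟩ := h g (by rintro _ ⟨a, ha, rfl⟩; exact hg a ha)
  exact ⟨m, hm, hma⟩

/-- Elements of order `q` with centralizer of order `N` in the normalizer lie in `Ω₁(Z(J(Q)))`. -/
theorem mem_locA_of_cc {e : G} (he : orderOf e = q) (hcc : cc e = N) (heM : e ∈ B.locM Q) : e ∈ B.locA Q := by
  have heq : e ^ q = 1 := he ▸ pow_orderOf_eq_one e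
  -- conjugate into `Q` inside the normalizer
  obtain ⟨c, hc, hce⟩ := exists_conj_mem_of_full (q := q) (B.sylow_le_locM Q)
    (by
      rw [Q.card_eq_multiplicity]
      exact Nat.pow_dvd_pow q ((Nat.factorization_le_iff_dvd Nat.card_pos.ne' Nat.card_pos.ne').mpr
        (card_subgroup_dvd_card _) q)) heM ⟨1, by rw [he, pow_one]⟩
  set e' := c * e * c⁻¹
  have he' : e' ^ q = 1 := by rw [conj_pow, heq, mul_one, mul_inv_cancel]
  obtain ⟨R, hR⟩ := exists_sylow_le' (x := e') (r := q) (by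
    rw [cc_conj, hcc, B.side.fac_eq (Fact.out : q.Prime) B.hqN]; exact Nat.ordProj_dvd N q)
  obtain ⟨g, hg⟩ := MulAction.exists_smul_eq G R Q
  have hz : g * e' * g⁻¹ ∈ B.locA Q := by
    refine B.central_mem_locA Q (by rw [conj_pow, he', mul_one, mul_inv_cancel]) fun u hu => ?_
    rw [← hg, Sylow.coe_subgroup_smul] at hu
    obtain ⟨b, hb, rfl⟩ := hu
    have h1 := mem_cent.mp (hR hb)
    rw [mem_cent]
    show g * b * g⁻¹ * (g * e' * g⁻¹) = g * e' * g⁻¹ * (g * b * g⁻¹)
    rw [show g * b * g⁻¹ * (g * e' * g⁻¹) = g * (b * e') * g⁻¹ by group, h1]; group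
  obtain ⟨m, hm, hma⟩ := B.control Q (S := {g * e' * g⁻¹})
    (Set.singleton_subset_iff.mpr (B.locA_le Q hz)) (g := g⁻¹) (by
      rintro _ rfl
      rw [show g⁻¹ * (g * e' * g⁻¹) * g⁻¹⁻¹ = e' by group]
      exact hce)
  have h2 : e' ∈ B.locA Q := by
    have := (mem_normalizer_iff.mp hm _).mp hz
    rwa [← hma _ rfl, show g⁻¹ * (g * e' * g⁻¹) * g⁻¹⁻¹ = e' by group] at this
  exact (mem_normalizer_iff.mp hc e).mpr h2

/-- No proper normal subgroup of the normalizer contains all its `q'`-elements. -/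
theorem locM_le_of_residual [IsSimpleGroup G] (hna : ¬ IsMulCommutative G) (hA : B.locA Q ≠ ⊥) {X : Subgroup G}
    (hXn : B.locM Q ≤ normalizer (X : Set G))
    (hX : ∀ x ∈ B.locM Q, ¬ q ∣ orderOf x → x ∈ X) : B.locM Q ≤ X := by
  set M := B.locM Q with hM
  have hperf : commutator G = ⊤ := by
    rcases (inferInstance : (commutator G).Normal).eq_bot_or_eq_top with h | h
    · exact absurd ⟨⟨fun a b => by
        have h1 : ⁅a, b⁆ ∈ commutator G := Subgroup.commutator_mem_commutator (mem_top a) (mem_top b)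
        rw [h, mem_bot, commutatorElement_eq_one_iff_mul_comm] at h1
        exact h1⟩⟩ hna
    · exact h
  have hQc : (Q : Subgroup G) ≤ ⁅M, M⁆ := by
    have h := CfsgLib.TransferApps.commutator_inf_sylow_eq_of_control Q M (fun x hx g hg => by
      obtain ⟨m, hm, hma⟩ := B.control Q (S := {x}) (Set.singleton_subset_iff.mpr hx) (g := g)
        (by rintro _ rfl; exact hg)
      exact ⟨m, hm, (hma x rfl).symm⟩) (B.sylow_le_locM Q)
    rw [hperf, top_inf_eq] at h
    exact h.le.trans inf_le_left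
  haveI : Group.IsSolvable M := B.side.isSolvable (B.odd_locM Q hA)
  set X0 := X.subgroupOf M
  haveI hn : X0.Normal := ⟨fun n hn g => mem_subgroupOf.mpr
    ((mem_normalizer_iff.mp (hXn g.2) _).mp (mem_subgroupOf.mp hn))⟩
  set f := QuotientGroup.mk' X0
  have hfs : Function.Surjective f := QuotientGroup.mk'_surjective _
  haveI : Group.IsSolvable (M ⧸ X0) := Group.isSolvable_of_surjective hfs
  have htop : commutator (M ⧸ X0) = ⊤ := by
    rw [eq_top_iff]
    rintro w -
    obtain ⟨m, rfl⟩ := hfs w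
    obtain ⟨a, b, hab, -, ha, hb, -, -⟩ := CfsgLib.Blocks.exists_pPart (Fact.out : q.Prime) m
    have hbX : f b = 1 := (QuotientGroup.eq_one_iff b).mpr
      (mem_subgroupOf.mpr (hX b b.2 (by rwa [Subgroup.orderOf_coe])))
    rw [← hab, map_mul, hbX, mul_one]
    obtain ⟨c, hc, hca⟩ := exists_conj_mem_of_full (q := q) (B.sylow_le_locM Q)
      (by
        rw [Q.card_eq_multiplicity]
        exact Nat.pow_dvd_pow q ((Nat.factorization_le_iff_dvd Nat.card_pos.ne' Nat.card_pos.ne').mpr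
          (card_subgroup_dvd_card _) q))
      (u := (a : G)) a.2 (by simpa [Subgroup.orderOf_coe] using ha)
    have h1 : c * (a : G) * c⁻¹ ∈ ⁅M, M⁆ := hQc hca
    rw [← map_subtype_commutator] at h1
    obtain ⟨d, hd, hde⟩ := h1
    have h2 : a = (⟨c, hc⟩ : M)⁻¹ * d * ⟨c, hc⟩ := Subtype.ext (by
      show (a : G) = c⁻¹ * (d : G) * c
      rw [show (d : G) = c * (a : G) * c⁻¹ from hde]; group)
    have h3 : a ∈ commutator M := by
      rw [h2]
      simpa using (inferInstance : (commutator M).Normal).conj_mem d hd (⟨c, hc⟩ : M)⁻¹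
    have hle : (commutator M).map f ≤ commutator (M ⧸ X0) := by
      rw [_root_.commutator_def, _root_.commutator_def, map_commutator]
      exact commutator_mono le_top le_top
    exact hle ⟨a, h3, rfl⟩
  intro m hm
  by_contra hmX
  have hne : f ⟨m, hm⟩ ≠ 1 := fun h => hmX (mem_subgroupOf.mp ((QuotientGroup.eq_one_iff (⟨m, hm⟩ : M)).mp h))
  haveI : Nontrivial (M ⧸ X0) := ⟨⟨_, _, hne⟩⟩
  exact (Group.IsSolvable.commutator_lt_top_of_nontrivial (M ⧸ X0)).ne htop

end QSide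

end CfsgLib.ConjRankFour
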