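import Cfsg.Agent.Lib.ConjRankFour.Five.QLocal

set_option autoImplicit false
set_option linter.style.haveILetI false

/-!
A centralizer of order `N` with two primes in its centre.
-/

namespace CfsgLib.ConjRankFour

open Cfsg Subgroup CfsgLib.ConjRankThree

universe u

variable {G : Type u} [Group G] [Finite G]

/-- Elements of orders `q` and `r` with one centralizer, of order `N`. -/
structure Two (t : G) (N D q r : ℕ) (v w : G) : Prop where
  side : OddSide t N D
  hq : q.Prime
  hr : r.Prime
  ne : q ≠ r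
  ov : orderOf v = q
  ow : orderOf w = r
  cv : cc v = N
  ceq : centralizer ({w} : Set G) = centralizer ({v} : Set G)

namespace Two

variable {t : G} {N D q r : ℕ} {v w : G} (B : Two t N D q r v w)
include B

theorem cw : cc w = N := (congrArg (fun H : Subgroup G => Nat.card H) B.ceq).trans B.cv

theorem symm : Two t N D r q w v := ⟨B.side, B.hr, B.hq, B.ne.symm, B.ow, B.ov, B.cw, B.ceq.symm⟩

theorem v_ne : v ≠ 1 := fun e => B.hq.one_lt.ne (by rw [← B.ov, e, orderOf_one])

theorem hqN : q ∣ N := B.ov ▸ B.cv ▸ orderOf_dvd_cc (self_mem v)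

theorem toQ : QSide t N D q := ⟨B.side, B.hqN⟩

theorem D_ne : D ≠ 0 := by
  obtain ⟨u, -, e⟩ := B.side.exD
  exact e ▸ (cc_pos u).ne'

theorem ord_dvd {x : G} (hx : x ∈ centralizer ({v} : Set G)) : orderOf x ∣ N := B.cv ▸ orderOf_dvd_cc hx

/-- A non-central element of order prime to `q` has centralizer of order `D` in the centralizer. -/
theorem card_cent {x : G} (hx : x ∈ centralizer ({v} : Set G)) (hxq : ¬ q ∣ orderOf x)
    (hnc : ¬ centralizer ({v} : Set G) ≤ centralizer ({x} : Set G)) :
    Nat.card (centralizer ({v} : Set G) ⊓ centralizer {x} : Subgroup G) = D := by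
  have hco : (orderOf x).Coprime (orderOf v) := B.ov.symm ▸ (B.hq.coprime_iff_not_dvd.mpr hxq).symm
  have hc : Commute x v := mem_cent.mp hx
  have hmul := mul_cent hc hco
  have hx1 : x ≠ 1 := fun e => hnc (e ▸ fun u _ => mem_cent.mpr (by simp))
  have ho : orderOf (x * v) ∣ N := by
    rw [hc.orderOf_mul_eq_mul_orderOf_of_coprime hco]
    exact hco.mul_dvd_of_dvd_of_dvd (B.ord_dvd hx) (B.ord_dvd (self_mem v))
  rw [inf_comm, ← hmul]
  refine (B.side.val_odd (mul_ne_one_of_coprime hx1 hco) ho).resolve_left fun h => hnc ?_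
  exact (eq_of_le_of_card_ge (hmul.le.trans inf_le_right) (B.cv.trans h.symm).le).ge.trans (hmul.le.trans inf_le_left)

theorem index_reg {x : centralizer ({v} : Set G)} (hxq : (orderOf x).Coprime q) (hnc : x ∉ center _) :
    (centralizer ({x} : Set (centralizer ({v} : Set G)))).index = N / D := by
  have h1 : ¬ centralizer ({v} : Set G) ≤ centralizer ({(x : G)} : Set G) := fun hle =>
    hnc (mem_center_iff.mpr fun u => Subtype.ext (mem_cent.mp (hle u.2)))
  have h2 : cc x = D := by
    rw [cc_sub]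
    exact B.card_cent x.2 (by rw [Subgroup.orderOf_coe]; exact B.hq.coprime_iff_not_dvd.mp hxq.symm) h1
  have h3 := (centralizer ({x} : Set (centralizer ({v} : Set G)))).card_mul_index
  rw [show Nat.card (centralizer ({x} : Set (centralizer ({v} : Set G)))) = D from h2,
    show Nat.card (centralizer ({v} : Set G)) = N from B.cv] at h3
  rw [← h3, Nat.mul_div_cancel_left _ (Nat.pos_of_ne_zero B.D_ne)]

/-- An element of the odd kind normalizing the centralizer lies in it. -/
theorem mem_of_normalizer {x : G} (hx : x ∈ normalizer (centralizer ({v} : Set G) : Set G)) (ho : orderOf x ∣ N) :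
    x ∈ centralizer ({v} : Set G) := by
  set K := centralizer ({v} : Set G)
  have hd : Nat.card (K ⊔ zpowers x : Subgroup G) ∣ orderOf x * N := by
    refine (CfsgLib.Signalizer.card_sup_dvd (zpowers_le.mpr hx)).trans ?_
    rw [Nat.card_zpowers, show Nat.card K = N from B.cv]
  have hco : (Nat.card (K ⊔ zpowers x : Subgroup G)).Coprime (cc t) :=
    Nat.Coprime.coprime_dvd_left hd (Nat.Coprime.mul_left (Nat.Coprime.coprime_dvd_left ho B.side.cop.symm)
      B.side.cop.symm)
  have hdN : Nat.card (K ⊔ zpowers x : Subgroup G) ∣ N :=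
    hco.dvd_of_dvd_mul_left (B.side.prod ▸ card_subgroup_dvd_card _)
  have e : K = K ⊔ zpowers x :=
    eq_of_le_of_card_ge le_sup_left ((Nat.le_of_dvd B.side.N_pos hdN).trans (le_of_eq B.cv.symm))
  exact e ▸ mem_sup_right (mem_zpowers x)

/-- If `D` holds the full power of `q` in `N` then the centralizer is nilpotent. -/
theorem nilpotent_of_full (hfull : D.factorization q = N.factorization q) :
    Group.IsNilpotent (centralizer ({v} : Set G)) := by
  haveI := Fact.mk B.hq
  set K := centralizer ({v} : Set G) with hK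
  obtain ⟨H, hH, hHq, k, hk⟩ := exists_nilpotent_complement (G := K) B.hq (fun x => B.index_reg)
  obtain ⟨Q⟩ : Nonempty (Sylow q K) := inferInstance
  have hco : (Nat.card H).Coprime (Nat.card Q) := by
    rw [Q.card_eq_multiplicity]
    exact ((B.hq.coprime_iff_not_dvd.mpr hHq).pow_left _).symm
  have hKH : Nat.card K = Nat.card H * q ^ k := by rw [← hk]; exact H.card_mul_index.symm
  have hprod : Nat.card H * Nat.card Q = Nat.card K := by
    refine Nat.dvd_antisymm (hco.mul_dvd_of_dvd_of_dvd (card_subgroup_dvd_card H) (card_subgroup_dvd_card _)) ?_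
    conv_lhs => rw [hKH]
    refine mul_dvd_mul_left _ ?_
    rw [Q.card_eq_multiplicity]
    exact Nat.pow_dvd_pow q ((B.hq.pow_dvd_iff_le_factorization Nat.card_pos.ne').mp (hk ▸ H.index_dvd_card))
  have hcomp : IsComplement' H (Q : Subgroup K) := isComplement'_of_coprime hprod hco
  -- every element of prime power order of the complement centralizes a conjugate of `Q`
  have hcov : ∀ h ∈ H, (∃ s i : ℕ, s.Prime ∧ orderOf h = s ^ i) →
      ∃ η ∈ H, η⁻¹ * h * η ∈ centralizer ((Q : Subgroup K) : Set K) := by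
    rintro h hh ⟨s, i, hs, hi⟩
    by_cases hc : h ∈ center K
    · exact ⟨1, one_mem _, by simpa using mem_centralizer_iff.mpr fun u _ => mem_center_iff.mp hc u⟩
    have hhq : ¬ q ∣ orderOf h := fun hd => hHq (hd.trans (Subgroup.orderOf_dvd_natCard _ hh))
    have hcard : cc h = D := by
      rw [cc_sub]
      exact B.card_cent h.2 (by rwa [Subgroup.orderOf_coe])
        fun hle => hc (mem_center_iff.mpr fun u => Subtype.ext (mem_cent.mp (hle u.2)))
    obtain ⟨R, hR⟩ := exists_sylow_le' (G := K) (x := h) (r := q) (by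
      rw [hcard, show Nat.card K = N from B.cv, ← hfull]; exact Nat.ordProj_dvd D q)
    obtain ⟨c, hc'⟩ := MulAction.exists_smul_eq K Q R
    obtain ⟨⟨⟨η, hη⟩, ⟨χ, hχ⟩⟩, e⟩ := hcomp.2 c
    refine ⟨η, hη, mem_centralizer_iff.mpr fun u hu => ?_⟩
    have hu' : c * (χ⁻¹ * u * χ) * c⁻¹ ∈ (R : Subgroup K) := by
      rw [← hc', Sylow.coe_subgroup_smul]
      exact ⟨χ⁻¹ * u * χ, mul_mem (mul_mem (inv_mem hχ) hu) hχ, rfl⟩
    have h1 := mem_cent.mp (hR hu')
    have e' : η * χ = c := e
    rw [← e', show η * χ * (χ⁻¹ * u * χ) * (η * χ)⁻¹ = η * u * η⁻¹ by group] at h1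
    calc u * (η⁻¹ * h * η) = η⁻¹ * (η * u * η⁻¹ * h) * η := by group
      _ = η⁻¹ * (h * (η * u * η⁻¹)) * η := by rw [h1]
      _ = η⁻¹ * h * η * u := by group
  have hHQ : H ≤ centralizer ((Q : Subgroup K) : Set K) := by
    set C1 := (centralizer ((Q : Subgroup K) : Set K)).subgroupOf H
    rcases eq_top_or_exists_le_coatom C1 with h | ⟨M0, hM0, hle⟩
    · exact subgroupOf_eq_top.mp h
    exfalso
    haveI : M0.Normal := NormalizerCondition.normal_of_coatom M0 (Group.normalizerCondition_of_isNilpotent) hM0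
    refine hM0.1 (eq_top_iff.mpr ?_)
    have key : ∀ x : H, (∃ s i : ℕ, s.Prime ∧ orderOf x = s ^ i) → x ∈ M0 := by
      rintro x ⟨s, i, hs, hi⟩
      obtain ⟨η, hη, h1⟩ := hcov x x.2 ⟨s, i, hs, by rw [Subgroup.orderOf_coe]; exact hi⟩
      have h2 : (⟨η, hη⟩ : H)⁻¹ * x * ⟨η, hη⟩ ∈ M0 := hle (mem_subgroupOf.mpr h1)
      have := (inferInstance : M0.Normal).conj_mem _ h2 (⟨η, hη⟩ : H)
      simpa [mul_assoc] using this
    intro x _
    by_contra hx
    obtain ⟨s, hs, hsd⟩ := Nat.exists_prime_and_dvd (n := M0.index) (fun e => hM0.1 (index_eq_one.mp e))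
    haveI := Fact.mk hs
    obtain ⟨S⟩ : Nonempty (Sylow s H) := inferInstance
    refine S.not_dvd_index (hsd.trans (index_dvd_of_le fun u hu => key u ?_))
    obtain ⟨i, hi⟩ := exists_orderOf_eq_pow S.2 hu
    exact ⟨s, i, hs, hi⟩
  haveI := hH
  haveI : Group.IsNilpotent (Q : Subgroup K) := Q.2.isNilpotent
  let f := MonoidHom.noncommCoprod H.subtype (Q : Subgroup K).subtype
    fun a b => (mem_centralizer_iff.mp (hHQ a.2) b b.2).symm
  refine Group.nilpotent_of_surjective f fun g => ?_
  obtain ⟨⟨a, b⟩, e⟩ := hcomp.2 g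
  exact ⟨(a, b), e⟩

/-- With deficient `q` an element of order prime to `r` centralizing a Sylow subgroup is central. -/
theorem central_of_sylow (hq' : D.factorization q < N.factorization q) {z : G} (hz : z ≠ 1)
    (hzr : ¬ r ∣ orderOf z) (hzv : z ∈ centralizer ({v} : Set G)) {Q : Subgroup G}
    (hQv : Q ≤ centralizer ({v} : Set G)) (hQ : Nat.card Q = q ^ N.factorization q)
    (hQz : Q ≤ centralizer ({z} : Set G)) : centralizer ({z} : Set G) = centralizer ({v} : Set G) := by
  have hle : centralizer ({v} : Set G) ≤ centralizer ({z} : Set G) := by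
    by_contra hnc
    have h1 := B.symm.card_cent (x := z) (by rw [B.ceq]; exact hzv) hzr (by rw [B.ceq]; exact hnc)
    have h2 := card_dvd_of_le (le_inf (B.ceq.symm ▸ hQv : Q ≤ centralizer ({w} : Set G)) hQz)
    rw [h1, hQ, B.hq.pow_dvd_iff_le_factorization B.D_ne] at h2
    omega
  refine (eq_of_le_of_card_ge hle ?_).symm
  show cc z ≤ cc v
  rw [B.cv]
  rcases B.side.val_odd hz (B.ord_dvd hzv) with h | h
  · exact h.le
  · exact h.le.trans (Nat.le_of_dvd B.side.N_pos B.side.dvd)

/-- With deficient `r` every `q`-element with the largest centralizer has a partner. -/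
theorem exists_partner (hr' : D.factorization r < N.factorization r) {a : G} (ha : orderOf a = q) (hca : cc a = N) :
    ∃ c, Two t N D q r a c := by
  haveI := Fact.mk B.hr
  have hrN : r ∣ N := B.symm.hqN
  obtain ⟨R, hRC, hR, hRc⟩ := exists_qgroup_le r (centralizer ({a} : Set G))
  rw [show Nat.card (centralizer ({a} : Set G)) = N from hca] at hRc
  haveI : Nontrivial R := by
    rw [← Finite.one_lt_card_iff_nontrivial, hRc]
    exact Nat.one_lt_pow (B.hr.factorization_pos_of_dvd B.side.N_pos.ne' hrN).ne' B.hr.one_lt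
  haveI := hR.center_nontrivial
  obtain ⟨⟨⟨z, hz⟩, hzc⟩, hz1⟩ := exists_ne (1 : center R)
  have hz1' : z ≠ 1 := fun e => hz1 (Subtype.ext (Subtype.ext e))
  obtain ⟨i, hi⟩ := exists_orderOf_eq_pow hR hz
  have hi0 : i ≠ 0 := fun e => hz1' (by simpa [e] using hi)
  set c := z ^ (orderOf z / r)
  have hco : orderOf c = r := orderOf_pow_orderOf_div (orderOf_pos z).ne' (hi ▸ dvd_pow_self r hi0)
  have hc1 : c ≠ 1 := fun e => B.hr.one_lt.ne (by rw [← hco, e, orderOf_one])
  have hcR : c ∈ R := pow_mem hz _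
  have hRcc : R ≤ centralizer ({c} : Set G) := fun u hu =>
    cent_le_pow z _ (mem_cent.mpr (congrArg Subtype.val (mem_center_iff.mp hzc ⟨u, hu⟩)))
  have hcop : (orderOf a).Coprime (orderOf c) := by
    rw [ha, hco]; exact (Nat.coprime_primes B.hq B.hr).mpr B.ne
  have hac : Commute a c := (show Commute c a from mem_cent.mp (hRC hcR)).symm
  have hmul := mul_cent hac hcop
  have ha1 : a ≠ 1 := fun e => B.hq.one_lt.ne (by rw [← ha, e, orderOf_one])
  have haN : orderOf a ∣ N := ha ▸ B.hqN
  have hval := B.side.val_odd (mul_ne_one_of_coprime ha1 hcop)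
    (by rw [hac.orderOf_mul_eq_mul_orderOf_of_coprime hcop]; exact hcop.mul_dvd_of_dvd_of_dvd haN (hco ▸ hrN))
  have hle : centralizer ({a} : Set G) ≤ centralizer ({c} : Set G) := by
    rcases hval with h | h
    · exact (eq_of_le_of_card_ge (hmul.le.trans inf_le_left) (hca.trans h.symm).le).ge.trans
        (hmul.le.trans inf_le_right)
    · have h2 := card_dvd_of_le (le_inf hRC hRcc)
      rw [← hmul, show Nat.card (centralizer ({a * c} : Set G)) = D from h, hRc,
        B.hr.pow_dvd_iff_le_factorization B.D_ne] at h2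
      omega
  have heq : centralizer ({c} : Set G) = centralizer ({a} : Set G) := by
    refine (eq_of_le_of_card_ge hle ?_).symm
    show cc c ≤ cc a
    rw [hca]
    rcases B.side.val_odd hc1 (hco ▸ hrN) with h | h
    · exact h.le
    · exact h.le.trans (Nat.le_of_dvd B.side.N_pos B.side.dvd)
  exact ⟨c, B.side, B.hq, B.hr, B.ne, ha, hco, hca, heq⟩

end Two

end CfsgLib.ConjRankFour
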